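import Cfsg.Agent.CharBase.Column
import Cfsg.Agent.Char.CentralChar
import Cfsg.Agent.Char.Linear
import Cfsg.Agent.H76.AlperinDade2
import Cfsg.Agent.H4.CharKer

/-!
# Elements on which exactly one nonlinear character does not vanish
-/

set_option autoImplicit false
set_option linter.unusedSectionVars false

namespace Cfsg.Agent.H76

open scoped ComplexConjugate commutatorElement
open Cfsg Cfsg.Agent.CharBase

attribute [local instance 100000] Fintype.ofFinite

universe u

variable {G : Type u} [Group G] [Finite G]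

theorem charDegree_eq' (χ : IrrCharacter G) : (χ : G → ℂ) 1 = (charDegree (χ : G → ℂ) : ℂ) := by
  obtain ⟨n, hn⟩ := exists_nat_degree (isCharacter_of_isIrr χ.2)
  rw [hn]
  unfold charDegree
  rw [hn]
  simp

theorem linear_on_commutator {ψ : IrrCharacter G} (h : charDegree (ψ : G → ℂ) = 1) {x : G}
    (hx : x ∈ commutator G) : (ψ : G → ℂ) x = 1 := by
  have h1 : (ψ : G → ℂ) 1 = 1 := by rw [charDegree_eq', h]; simp
  have hc := isCharacter_of_isIrr ψ.2
  have hle : commutator G ≤ Char.linKer hc h1 := by
    rw [commutator_eq_closure, Subgroup.closure_le]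
    rintro _ ⟨a, b, rfl⟩
    rw [SetLike.mem_coe, Char.mem_linKer, commutatorElement_def, Char.linChar_mul hc h1,
      Char.linChar_mul hc h1, Char.linChar_mul hc h1, Char.linChar_inv hc h1,
      Char.linChar_inv hc h1]
    have ha := Char.linChar_ne_zero hc h1 a
    have hb := Char.linChar_ne_zero hc h1 b
    field_simp
  exact (Char.mem_linKer hc h1 x).mp (hle hx)

theorem inner_commutator {ψ : IrrCharacter G} (h : charDegree (ψ : G → ℂ) ≠ 1) :
    classInner (fun n : commutator G => (ψ : G → ℂ) n) (fun _ => 1) = 0 := by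
  by_contra hne
  have h1 := ker_of_classInner_one (commutator G) ψ.2 hne
  apply h
  have h2 := Char.CC.degree_one_of_commutator ψ.2 (fun x y => by
    exact h1 ⟨⁅x, y⁆, Subgroup.commutator_mem_commutator (Subgroup.mem_top x) (Subgroup.mem_top y)⟩)
  rw [charDegree_eq'] at h2
  exact_mod_cast h2

open Classical in
theorem sum_linear (h : G) :
    ∑ ψ : IrrCharacter G, (if charDegree (ψ : G → ℂ) = 1 then (ψ : G → ℂ) h else 0) =
      if h ∈ commutator G then ((commutator G).index : ℂ) else 0 := by
  set f : G → ℂ := fun x => if x ∈ commutator G then 1 else 0 with hf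
  have hfc : IsClassFunction G f := by
    intro a b
    simp only [hf]
    have : b * a * b⁻¹ ∈ commutator G ↔ a ∈ commutator G := by
      constructor
      · intro hh
        have := (inferInstance : (commutator G).Normal).conj_mem _ hh b⁻¹
        simpa [mul_assoc] using this
      · intro hh
        exact (inferInstance : (commutator G).Normal).conj_mem _ hh b
    simp only [this]
  have hG : (Nat.card G : ℂ) ≠ 0 := by exact_mod_cast Nat.card_pos.ne'
  have hN : (Nat.card (commutator G) : ℂ) ≠ 0 := by exact_mod_cast Nat.card_pos.ne'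
  have hidx : (Nat.card G : ℂ) = Nat.card (commutator G) * (commutator G).index := by
    exact_mod_cast (Subgroup.card_mul_index _).symm
  have hI : ((commutator G).index : ℂ) ≠ 0 := by
    exact_mod_cast Subgroup.index_ne_zero_of_finite
  have hin : ∀ ψ : IrrCharacter G, classInner f (ψ : G → ℂ) =
      if charDegree (ψ : G → ℂ) = 1 then ((commutator G).index : ℂ)⁻¹ else 0 := by
    intro ψ
    have h1 : classInner f (ψ : G → ℂ) = ((commutator G).index : ℂ)⁻¹ *
        conj (classInner (fun n : commutator G => (ψ : G → ℂ) n) (fun _ => 1)) := by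
      unfold classInner
      rw [map_mul, map_inv₀, Complex.conj_natCast, hidx, mul_inv, map_sum]
      have h2 : ∑ x : G, f x * conj ((ψ : G → ℂ) x) =
          ∑ n : commutator G, conj ((ψ : G → ℂ) n * conj (1 : ℂ)) := by
        rw [← Finset.sum_subset (Finset.subset_univ
          (Finset.univ.filter fun x : G => x ∈ commutator G))]
        · rw [← Finset.sum_subtype_eq_sum_filter]
          refine Finset.sum_bij (fun (x : {x : G // x ∈ commutator G}) _ => x) ?_ ?_ ?_ ?_
          · intro a _; exact Finset.mem_univ _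
          · intro a _ b _ hab; exact hab
          · intro b _; exact ⟨b, by simp, rfl⟩
          · intro a _
            simp only [hf, map_one, mul_one]
            rw [if_pos a.2, one_mul]
        · intro x _ hx
          rw [Finset.mem_filter, not_and] at hx
          simp only [hf]
          rw [if_neg (hx (Finset.mem_univ _)), zero_mul]
      rw [h2]
      ring
    rw [h1]
    split_ifs with h0
    · have h3 : (fun n : commutator G => (ψ : G → ℂ) n) = fun _ => 1 := by
        funext n; exact linear_on_commutator h0 n.2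
      rw [h3]
      have h4 : classInner (fun _ : commutator G => (1 : ℂ)) (fun _ => 1) = 1 := by
        unfold classInner
        simp
      rw [h4, map_one, mul_one]
    · rw [inner_commutator h0, map_zero, mul_zero]
  have h2 := classFun_apply_eq_sum hfc h
  rw [Finset.sum_congr rfl fun ψ _ => by rw [hin ψ]] at h2
  have h3 : ∑ ψ : IrrCharacter G, (if charDegree (ψ : G → ℂ) = 1 then (ψ : G → ℂ) h else 0) =
      ((commutator G).index : ℂ) * f h := by
    rw [h2, Finset.mul_sum]
    refine Finset.sum_congr rfl fun ψ _ => ?_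
    split_ifs
    · rw [← mul_assoc, mul_inv_cancel₀ hI, one_mul]
    · rw [zero_mul, mul_zero]
  rw [h3]
  simp only [hf]
  split_ifs <;> simp

section main

variable {g : G} {χ : IrrCharacter G} (hg : g ∉ Subgroup.center G)
  (hχ1 : charDegree (χ : G → ℂ) ≠ 1) (hχg : (χ : G → ℂ) g ≠ 0)
  (hother : ∀ ψ : IrrCharacter G, charDegree (ψ : G → ℂ) ≠ 1 → ψ ≠ χ → (ψ : G → ℂ) g = 0)

include hχ1 hother in
open Classical in
theorem col_general (h : G) : ∑ ψ : IrrCharacter G,
      (if charDegree (ψ : G → ℂ) = 1 then (ψ : G → ℂ) h * conj ((ψ : G → ℂ) g) else 0) +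
        (χ : G → ℂ) h * conj ((χ : G → ℂ) g) =
      if IsConj h g then (Nat.card (Subgroup.centralizer ({h} : Set G)) : ℂ) else 0 := by
  have h0 := column_orthogonality h g
  have h1 : ∀ ψ : IrrCharacter G, (ψ : G → ℂ) h * conj ((ψ : G → ℂ) g) =
      (if charDegree (ψ : G → ℂ) = 1 then (ψ : G → ℂ) h * conj ((ψ : G → ℂ) g) else 0) +
      if ψ = χ then (χ : G → ℂ) h * conj ((χ : G → ℂ) g) else 0 := by
    intro ψ
    by_cases h2 : charDegree (ψ : G → ℂ) = 1
    · rw [if_pos h2, if_neg, add_zero]
      rintro rfl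
      exact hχ1 h2
    · rw [if_neg h2, zero_add]
      split_ifs with h3
      · rw [h3]
      · rw [hother ψ h2 h3, map_zero, mul_zero]
  rw [Finset.sum_congr rfl fun ψ _ => h1 ψ, Finset.sum_add_distrib, Finset.sum_ite_eq',
    if_pos (Finset.mem_univ _)] at h0
  rw [h0]
  split_ifs <;> rfl

include hg hχ1 hχg hother in
theorem mem_commutator_value : g ∈ commutator G ∧
    (χ : G → ℂ) g = -(((commutator G).index : ℂ) / (χ : G → ℂ) 1) := by
  classical
  have hg1 : g ≠ 1 := by rintro rfl; exact hg (one_mem _)
  have h1 := col_general hχ1 hother (1 : G)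
  rw [if_neg (by
    intro h
    exact hg1 (isConj_one_right.mp h))] at h1
  have h2 : ∑ ψ : IrrCharacter G,
      (if charDegree (ψ : G → ℂ) = 1 then (ψ : G → ℂ) 1 * conj ((ψ : G → ℂ) g) else 0) =
      conj (if g ∈ commutator G then ((commutator G).index : ℂ) else 0) := by
    rw [← sum_linear g, map_sum]
    refine Finset.sum_congr rfl fun ψ _ => ?_
    split_ifs with h
    · rw [charDegree_eq', h, Nat.cast_one, one_mul]
    · simp
  rw [h2] at h1
  have hχ0 : (χ : G → ℂ) 1 ≠ 0 := irr_one_ne_zero χ.2
  have hgc : g ∈ commutator G := by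
    by_contra h
    rw [if_neg h, map_zero, zero_add] at h1
    rcases mul_eq_zero.mp h1 with h3 | h3
    · exact hχ0 h3
    · exact hχg (by simpa using h3)
  refine ⟨hgc, ?_⟩
  rw [if_pos hgc, Complex.conj_natCast] at h1
  have h3 := congrArg conj h1
  rw [map_add, map_mul, Complex.conj_conj, map_zero, Complex.conj_natCast] at h3
  have h4 : conj ((χ : G → ℂ) 1) = (χ : G → ℂ) 1 := by rw [charDegree_eq']; simp
  rw [h4] at h3
  field_simp
  linear_combination h3

include hg hχ1 hχg hother in
open Classical in
theorem value_general (h : G) : (if h ∈ commutator G then ((commutator G).index : ℂ) else 0) -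
      (χ : G → ℂ) h * (((commutator G).index : ℂ) / (χ : G → ℂ) 1) =
    if IsConj h g then (Nat.card (Subgroup.centralizer ({h} : Set G)) : ℂ) else 0 := by
  obtain ⟨hgc, hv⟩ := mem_commutator_value hg hχ1 hχg hother
  have h1 := col_general hχ1 hother h
  have h2 : ∑ ψ : IrrCharacter G,
      (if charDegree (ψ : G → ℂ) = 1 then (ψ : G → ℂ) h * conj ((ψ : G → ℂ) g) else 0) =
      if h ∈ commutator G then ((commutator G).index : ℂ) else 0 := by
    rw [← sum_linear h]
    refine Finset.sum_congr rfl fun ψ _ => ?_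
    split_ifs with h3
    · rw [linear_on_commutator h3 hgc, map_one, mul_one]
    · rfl
  have h4 : conj ((χ : G → ℂ) g) = (χ : G → ℂ) g := by
    rw [hv, charDegree_eq']; simp
  rw [h2, h4, hv] at h1
  rw [← h1]
  ring

include hg hχ1 hχg hother in
theorem off_commutator {h : G} (hh : h ∉ commutator G) : (χ : G → ℂ) h = 0 := by
  classical
  obtain ⟨hgc, hv⟩ := mem_commutator_value hg hχ1 hχg hother
  have h1 := value_general hg hχ1 hχg hother h
  have hχ0 : (χ : G → ℂ) 1 ≠ 0 := irr_one_ne_zero χ.2
  have hI : ((commutator G).index : ℂ) ≠ 0 := by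
    exact_mod_cast Subgroup.index_ne_zero_of_finite
  rw [if_neg hh, if_neg (by
    intro h2
    obtain ⟨c, hc⟩ := isConj_iff.mp h2.symm
    apply hh
    rw [← hc]
    exact (inferInstance : (commutator G).Normal).conj_mem _ hgc c)] at h1
  rw [zero_sub, neg_eq_zero] at h1
  rcases mul_eq_zero.mp h1 with h3 | h3
  · exact h3
  · exact absurd h3 (div_ne_zero hI hχ0)

include hg hχ1 hχg hother in
theorem commutator_eq_union : (commutator G : Set G) =
    {x : G | (χ : G → ℂ) x = (χ : G → ℂ) 1} ∪ {h : G | IsConj g h} := by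
  classical
  obtain ⟨hgc, hv⟩ := mem_commutator_value hg hχ1 hχg hother
  have hχ0 : (χ : G → ℂ) 1 ≠ 0 := irr_one_ne_zero χ.2
  have hI : ((commutator G).index : ℂ) ≠ 0 := by
    exact_mod_cast Subgroup.index_ne_zero_of_finite
  ext h
  rw [SetLike.mem_coe, Set.mem_union, Set.mem_ofPred_eq, Set.mem_ofPred_eq]
  constructor
  · intro hh
    by_cases hc : IsConj g h
    · exact Or.inr hc
    · left
      have h1 := value_general hg hχ1 hχg hother h
      rw [if_pos hh, if_neg (fun h2 => hc h2.symm)] at h1
      have h2 : (χ : G → ℂ) h * (((commutator G).index : ℂ) / (χ : G → ℂ) 1) =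
          (χ : G → ℂ) 1 * (((commutator G).index : ℂ) / (χ : G → ℂ) 1) := by
        rw [mul_div_cancel₀ _ hχ0]
        linear_combination -h1
      exact mul_right_cancel₀ (div_ne_zero hI hχ0) h2
  · rintro (hh | hh)
    · by_contra h1
      rw [off_commutator hg hχ1 hχg hother h1] at hh
      exact hχ0 hh.symm
    · obtain ⟨c, hc⟩ := isConj_iff.mp hh
      rw [← hc]
      exact (inferInstance : (commutator G).Normal).conj_mem _ hgc c

include hg hχ1 hχg hother in
theorem unique_over {ψ : IrrCharacter G} (hψ : charDegree (ψ : G → ℂ) ≠ 1)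
    (hk : ∀ x : G, (χ : G → ℂ) x = (χ : G → ℂ) 1 → (ψ : G → ℂ) x = (ψ : G → ℂ) 1) : ψ = χ := by
  classical
  by_contra hne
  have hψg := hother ψ hψ hne
  have h1 := inner_commutator hψ
  unfold classInner at h1
  have hN : (Nat.card (commutator G) : ℂ)⁻¹ ≠ 0 :=
    inv_ne_zero (by exact_mod_cast Nat.card_pos.ne')
  have h2 := (mul_eq_zero.mp h1).resolve_left hN
  have h3 : ∀ n : commutator G, (ψ : G → ℂ) n * conj (1 : ℂ) =
      ((charDegree (ψ : G → ℂ) * (if (χ : G → ℂ) n = (χ : G → ℂ) 1 then 1 else 0) : ℕ) : ℂ) := by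
    intro n
    have h4 : (n : G) ∈ (commutator G : Set G) := n.2
    rw [commutator_eq_union hg hχ1 hχg hother] at h4
    rw [map_one, mul_one]
    by_cases h5 : (χ : G → ℂ) n = (χ : G → ℂ) 1
    · rw [if_pos h5, mul_one, hk _ h5, charDegree_eq']
    · rw [if_neg h5, mul_zero]
      rcases h4 with h4 | h4
      · exact absurd h4 h5
      · obtain ⟨c, hc⟩ := isConj_iff.mp h4
        rw [← hc, irr_isClassFunction ψ g c, hψg]; simp
  rw [Finset.sum_congr rfl fun n _ => h3 n] at h2
  have h4 : ∑ n : commutator G, charDegree (ψ : G → ℂ) *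
      (if (χ : G → ℂ) n = (χ : G → ℂ) 1 then 1 else 0) = 0 := by exact_mod_cast h2
  rw [Finset.sum_eq_zero_iff] at h4
  have h5 := h4 1 (Finset.mem_univ _)
  rw [if_pos (by rfl), mul_one] at h5
  have h6 := irr_one_ne_zero ψ.2
  rw [charDegree_eq', h5] at h6
  exact h6 (by simp)

end main

end Cfsg.Agent.H76
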