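import Cfsg.Agent.CycG.PrinData
import Cfsg.Agent.H4.CharKer
import Cfsg.Agent.H75.ItoConv
import Cfsg.Agent.Char.ClassSum
import Cfsg.Agent.Char.CentralChar
import Cfsg.Agent.H75.CenterDeg
import Cfsg.Agent.H76.OneNonvan
import Cfsg.Agent.S0887
import Cfsg.Agent.H75.Inflate

/-!
# Groups all of whose nonlinear irreducible characters have prime degree
-/

set_option autoImplicit false
set_option linter.unusedSectionVars false

namespace Cfsg.Agent.H76

open scoped ComplexConjugate commutatorElement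
open Cfsg Cfsg.Agent.CharBase

attribute [local instance 100000] Fintype.ofFinite

universe u

variable {G : Type u} [Group G] [Finite G]

theorem comm_mem_of_norm (χ : IrrCharacter G) {x : G}
    (hx : ‖(χ : G → ℂ) x‖ = ‖(χ : G → ℂ) 1‖) (g : G) : ⁅x, g⁆ ∈ H4.charKer χ := by
  obtain ⟨χ, n, ρ, hρ, rfl⟩ := χ
  change ρ.character _ = ρ.character _
  change ‖ρ.character x‖ = ‖ρ.character 1‖ at hx
  rw [H4.char_eq_one_iff, commutatorElement_def]
  have h1 : ‖ρ.character x‖ = (Module.finrank ℂ (Fin n → ℂ) : ℝ) := by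
    rw [hx, Representation.char_one]
    simp
  obtain ⟨ω, hω⟩ := (Cfsg.Agent.Char.rep_norm_character_eq_iff ρ x).mp h1
  have hω' : ρ x = ω • (1 : (Fin n → ℂ) →ₗ[ℂ] (Fin n → ℂ)) := hω
  have h4 : ρ x * ρ g * ρ x⁻¹ * ρ g⁻¹ = ρ x * ρ x⁻¹ * (ρ g * ρ g⁻¹) := by
    rw [hω']
    simp only [smul_mul_assoc, one_mul]
    congr 1
    have h5 : ρ x⁻¹ * ρ x = 1 := by rw [← map_mul, inv_mul_cancel, map_one]
    by_cases h0 : ω = 0
    · rw [hω', h0, zero_smul, mul_zero] at h5
      have h6 : ∀ f : (Fin n → ℂ) →ₗ[ℂ] (Fin n → ℂ), f = 0 := fun f => by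
        rw [← mul_one f, ← h5, mul_zero]
      rw [h6 (_ * _), h6 (ρ x⁻¹ * _)]
    · rw [hω', mul_smul_comm, mul_one] at h5
      have h7 : ρ x⁻¹ = ω⁻¹ • (1 : (Fin n → ℂ) →ₗ[ℂ] (Fin n → ℂ)) := by
        rw [← h5, smul_smul, inv_mul_cancel₀ h0, one_smul]
      rw [h7]
      simp
  rw [map_mul, map_mul, map_mul, h4, ← map_mul, ← map_mul, mul_inv_cancel, mul_inv_cancel, map_one,
    one_mul]

/-- nonlinear characters of a simple group are faithful and their "centre" is trivial -/
theorem eq_one_of_norm [IsSimpleGroup G] (hnc : ∃ a b : G, a * b ≠ b * a) {χ : IrrCharacter G}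
    (hχ : (χ : G → ℂ) 1 ≠ 1) {x : G} (hx : ‖(χ : G → ℂ) x‖ = ‖(χ : G → ℂ) 1‖) : x = 1 := by
  have hker : H4.charKer χ = ⊥ := by
    rcases (H4.charKer_normal χ).eq_bot_or_eq_top with h | h
    · exact h
    · exfalso
      apply hχ
      apply Char.CC.degree_one_of_commutator χ.2
      intro a b
      have : ⁅a, b⁆ ∈ H4.charKer χ := by rw [h]; trivial
      exact this
  have hcen : x ∈ Subgroup.center G := by
    rw [Subgroup.mem_center_iff]
    intro g
    have h1 := comm_mem_of_norm χ hx g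
    rw [hker, Subgroup.mem_bot] at h1
    exact (commutatorElement_eq_one_iff_mul_comm.mp h1).symm
  rcases (inferInstance : (Subgroup.center G).Normal).eq_bot_or_eq_top with h | h
  · rw [h, Subgroup.mem_bot] at hcen
    exact hcen
  · exfalso
    obtain ⟨a, b, hab⟩ := hnc
    apply hab
    have : b ∈ Subgroup.center G := by rw [h]; trivial
    exact Subgroup.mem_center_iff.mp this a

/-- Burnside -/
theorem eq_zero_of_coprime [IsSimpleGroup G] (hnc : ∃ a b : G, a * b ≠ b * a)
    {χ : IrrCharacter G} (hχ : (χ : G → ℂ) 1 ≠ 1) {n : ℕ} (hn : (χ : G → ℂ) 1 = n) {x : G}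
    (hx : x ≠ 1) (hcop : n.Coprime (Subgroup.centralizer ({x} : Set G)).index) :
    (χ : G → ℂ) x = 0 := by
  have key : (χ : G → ℂ) x = 0 ∨ ‖(χ : G → ℂ) x‖ = ‖(χ : G → ℂ) 1‖ := by
    obtain ⟨χ, m, ρ, hρ, rfl⟩ := χ
    change ρ.character x = 0 ∨ ‖ρ.character x‖ = ‖ρ.character 1‖
    change ρ.character 1 = n at hn
    have h1 : Module.finrank ℂ (Fin m → ℂ) = n := by
      rw [Representation.char_one] at hn
      exact_mod_cast hn
    rcases Char.character_eq_zero_or_norm_eq ρ x (by rw [h1]; exact hcop) with h | h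
    · exact Or.inl h
    · right
      rw [h, Representation.char_one]
      simp
  rcases key with h | h
  · exact h
  · exact absurd (eq_one_of_norm hnc hχ h) hx

/-- A simple group has no irreducible character of degree two. -/
theorem degree_ne_two [IsSimpleGroup G] (hnc : ∃ a b : G, a * b ≠ b * a) (χ : IrrCharacter G) :
    (χ : G → ℂ) 1 ≠ 2 := by
  classical
  intro h2
  have h2' : (χ : G → ℂ) 1 = ((2 : ℕ) : ℂ) := by rw [h2]; norm_num
  have heven : 2 ∣ Nat.card G := degree_dvd_card χ.2 h2'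
  have : Fact (Nat.Prime 2) := ⟨Nat.prime_two⟩
  obtain ⟨t, ht⟩ := exists_prime_orderOf_dvd_card' 2 heven
  have hχ1 : (χ : G → ℂ) 1 ≠ 1 := by rw [h2]; norm_num
  have ht1 : t ≠ 1 := by rintro rfl; rw [orderOf_one] at ht; norm_num at ht
  apply ht1
  apply eq_one_of_norm hnc hχ1
  have hperf : commutator G = ⊤ := by
    rcases (inferInstance : (commutator G).Normal).eq_bot_or_eq_top with h | h
    · exfalso
      obtain ⟨a, b, hab⟩ := hnc
      apply hab
      have h3 : ⁅a, b⁆ ∈ commutator G :=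
        Subgroup.commutator_mem_commutator (Subgroup.mem_top a) (Subgroup.mem_top b)
      rw [h, Subgroup.mem_bot] at h3
      exact commutatorElement_eq_one_iff_mul_comm.mp h3
    · exact h
  obtain ⟨χ, n, ρ, hρ, rfl⟩ := χ
  change ‖ρ.character t‖ = ‖ρ.character 1‖
  change ρ.character 1 = 2 at h2
  set R := (ρ t).charpoly.roots with hR
  have hf : (ρ t) ^ 2 = 1 := by rw [← map_pow, ← ht, pow_orderOf_eq_one, map_one]
  have hRm : ∀ r ∈ R, r ^ 2 = 1 := fun r hr => Char.endo_pow_eq_one_of_mem_roots hf hr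
  have hcard : Multiset.card R = 2 := by
    rw [hR, Char.endo_card_roots]
    rw [Representation.char_one] at h2
    exact_mod_cast h2
  have hdet : LinearMap.det (ρ t) = 1 := by
    let φ : G →* ℂ := (LinearMap.det (M := Fin n → ℂ) (A := ℂ)).comp
      (ρ : G →* ((Fin n → ℂ) →ₗ[ℂ] (Fin n → ℂ)))
    have h1 : t ∈ (φ.toHomUnits).ker := by
      apply Abelianization.commutator_subset_ker
      rw [hperf]; trivial
    rw [MonoidHom.mem_ker] at h1
    have h2 := congrArg (fun u : ℂˣ => (u : ℂ)) h1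
    exact h2
  have hprod : R.prod = 1 := by
    rw [hR, ← Module.End.det_eq_prod_roots_charpoly_of_splits (IsAlgClosed.splits _)]
    exact hdet
  have htr : ρ.character t = R.sum := by
    rw [hR, ← Char.endo_trace_eq_sum_roots]
    rfl
  obtain ⟨a, b, hab⟩ := Multiset.card_eq_two.mp hcard
  rw [hab] at hprod hRm
  have ha := hRm a (by simp)
  have hprod' : a * b = 1 := by simpa using hprod
  have hba : b = a := by
    have : a * (a * b) = a := by rw [hprod', mul_one]
    rw [← mul_assoc, ← sq, ha, one_mul] at this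
    exact this
  rw [htr, hab, h2, hba]
  have : (({a, a} : Multiset ℂ)).sum = 2 * a := by
    simp; ring
  rw [this, norm_mul]
  have hna : ‖a‖ = 1 := Complex.norm_eq_one_of_pow_eq_one ha two_ne_zero
  rw [hna, mul_one]

theorem perfect_of_simple [IsSimpleGroup G] (hnc : ∃ a b : G, a * b ≠ b * a) :
    commutator G = ⊤ := by
  rcases (inferInstance : (commutator G).Normal).eq_bot_or_eq_top with h | h
  · exfalso
    obtain ⟨a, b, hab⟩ := hnc
    apply hab
    have h3 : ⁅a, b⁆ ∈ commutator G :=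
      Subgroup.commutator_mem_commutator (Subgroup.mem_top a) (Subgroup.mem_top b)
    rw [h, Subgroup.mem_bot] at h3
    exact commutatorElement_eq_one_iff_mul_comm.mp h3
  · exact h

theorem eq_oneIrr_of_degree_one (hperf : commutator G = ⊤) {χ : IrrCharacter G}
    (h : charDegree (χ : G → ℂ) = 1) : χ = oneIrr G := by
  apply Subtype.ext
  funext x
  have h1 := linear_on_commutator h (x := x) (by rw [hperf]; trivial)
  rw [h1]; rfl

theorem norm_eq_of_central {H : Type u} [Group H] [Finite H] {θ : H → ℂ}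
    (hθ : IsIrrCharacter H θ) {z : H} (hz : z ∈ Subgroup.center H) : ‖θ z‖ = ‖θ 1‖ := by
  have h1 := H75.char_mul_central hθ hz z⁻¹
  rw [inv_mul_cancel] at h1
  have h2 : θ z⁻¹ = conj (θ z) := irr_inv ⟨θ, hθ⟩ z
  have h0 := irr_one_ne_zero hθ
  obtain ⟨n, hn⟩ := exists_nat_degree (isCharacter_of_isIrr hθ)
  rw [h2] at h1
  have h3 : θ 1 * θ 1 = θ z * conj (θ z) := by
    field_simp at h1
    linear_combination h1
  rw [Complex.mul_conj, Complex.normSq_eq_norm_sq] at h3
  have h4 : ‖θ 1 * θ 1‖ = ‖θ z‖ ^ 2 := by rw [h3]; simp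
  rw [norm_mul, ← sq] at h4
  exact ((sq_eq_sq₀ (norm_nonneg _) (norm_nonneg _)).mp h4).symm

theorem simple_false [IsSimpleGroup G] (hnc : ∃ a b : G, a * b ≠ b * a)
    (h : ∀ χ : IrrCharacter G, charDegree (χ : G → ℂ) ≠ 1 → (charDegree (χ : G → ℂ)).Prime) :
    False := by
  classical
  have hperf := perfect_of_simple hnc
  have : Nonempty (IrrCharacter G) := ⟨oneIrr G⟩
  obtain ⟨χ₀, hmax⟩ := Finite.exists_max (fun χ : IrrCharacter G => charDegree (χ : G → ℂ))
  set p := charDegree (χ₀ : G → ℂ) with hp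
  have hpp : p.Prime := by
    apply h
    intro h1
    obtain ⟨a, b, hab⟩ := hnc
    apply hab
    apply H75.comm_of_forall_linear
    intro χ
    have h2 := hmax χ
    have h3 : 0 < charDegree (χ : G → ℂ) := by
      rcases Nat.eq_zero_or_pos (charDegree (χ : G → ℂ)) with h0 | h0
      · have := irr_one_ne_zero χ.2
        rw [charDegree_eq', h0] at this
        exact absurd Nat.cast_zero this
      · exact h0
    rw [charDegree_eq']
    have h4 : charDegree (χ : G → ℂ) = 1 := by
      change charDegree (χ : G → ℂ) ≤ p at h2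
      omega
    rw [h4, Nat.cast_one]
  have hpf : Fact p.Prime := ⟨hpp⟩
  have hχ₀1 : (χ₀ : G → ℂ) 1 ≠ 1 := by
    rw [charDegree_eq', ← hp]
    intro h1
    exact hpp.one_lt.ne' (by exact_mod_cast h1)
  have hpG : p ∣ Nat.card G := degree_dvd_card χ₀.2 (charDegree_eq' χ₀)
  obtain ⟨P⟩ : Nonempty (Sylow p G) := inferInstance
  have hPne : Nontrivial P := by
    rw [Subgroup.nontrivial_iff_ne_bot]
    exact P.ne_bot_of_dvd_card hpG
  obtain ⟨k, hk⟩ := IsPGroup.iff_card.mp P.isPGroup'
  -- the characters of `P` are linear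
  have hlin : ∀ θ : IrrCharacter P, (θ : P → ℂ) 1 = 1 := by
    intro θ
    obtain ⟨χ, hχ, hne⟩ := Char.exists_over (P : Subgroup G) θ.2
    have hsub := Char.CC.isCharacter_sub_of_constituent
      (isCharacter_restrict (isCharacter_of_isIrr hχ) (P : Subgroup G)) θ.2 hne
    obtain ⟨c, hc⟩ := exists_nat_degree hsub
    have hdθ := charDegree_eq' θ
    have hdχ := charDegree_eq' (⟨χ, hχ⟩ : IrrCharacter G)
    have hle := hmax ⟨χ, hχ⟩
    change charDegree χ ≤ p at hle
    change χ 1 = (charDegree χ : ℂ) at hdχ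
    have hadd : charDegree χ = charDegree (θ : P → ℂ) + c := by
      have h1 : χ ((1 : P) : G) - (θ : P → ℂ) 1 = c := hc
      rw [Subgroup.coe_one, hdχ, hdθ, sub_eq_iff_eq_add] at h1
      have h2 : charDegree χ = c + charDegree (θ : P → ℂ) := by exact_mod_cast h1
      omega
    have hdvd : charDegree (θ : P → ℂ) ∣ p ^ k := by
      rw [← hk]; exact degree_dvd_card θ.2 hdθ
    obtain ⟨j, hjk, hj⟩ := (Nat.dvd_prime_pow hpp).mp hdvd
    rcases Nat.eq_zero_or_pos j with hj0 | hj0
    · rw [hdθ, hj, hj0, pow_zero, Nat.cast_one]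
    · exfalso
      have h1 : p ≤ p ^ j := Nat.le_self_pow hj0.ne' p
      have hc0 : c = 0 := by omega
      have hz : ∀ x : P, (χ x - (θ : P → ℂ) x) = 0 := by
        intro x
        obtain ⟨n, hn, hle⟩ := norm_le_of_isCharacter hsub x
        have h2 : (n : ℂ) = c := by rw [← hn, ← hc]
        have h3 : n = 0 := by rw [hc0] at h2; exact_mod_cast h2
        rw [h3, Nat.cast_zero] at hle
        exact norm_le_zero_iff.mp hle
      have : Nontrivial (Subgroup.center P) := P.isPGroup'.center_nontrivial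
      obtain ⟨⟨z, hz1⟩, hz2⟩ := exists_ne (1 : Subgroup.center P)
      have hn := norm_eq_of_central θ.2 hz1
      have hzne : (z : G) ≠ 1 := fun h => hz2 (Subtype.ext (Subtype.ext h))
      apply hzne
      apply eq_one_of_norm hnc (χ := ⟨χ, hχ⟩)
      · change χ 1 ≠ 1
        rw [hdχ]
        intro h5
        have h6 : charDegree χ = 1 := by exact_mod_cast h5
        have := hpp.one_lt
        omega
      · change ‖χ z‖ = ‖χ 1‖
        have e1 := sub_eq_zero.mp (hz z)
        have e2 := sub_eq_zero.mp (hz 1)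
        rw [Subgroup.coe_one] at e2
        rw [e1, e2]; exact hn
  have hcomm := H75.comm_of_forall_linear hlin
  -- `P` has order `p`
  have hvan : ∀ x : P, x ≠ 1 → (χ₀ : G → ℂ) x = 0 := by
    intro x hx
    apply eq_zero_of_coprime hnc hχ₀1 (charDegree_eq' χ₀) (fun h => hx (Subtype.ext h))
    rw [← hp]
    apply (Nat.Prime.coprime_iff_not_dvd hpp).mpr
    intro h1
    have h2 : (P : Subgroup G) ≤ Subgroup.centralizer ({(x : G)} : Set G) := by
      intro y hy
      rw [Subgroup.mem_centralizer_singleton_iff]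
      exact congrArg Subtype.val (hcomm ⟨y, hy⟩ x)
    exact P.not_dvd_index (h1.trans (Subgroup.index_dvd_of_le h2))
  have hPcard : Nat.card P = p := by
    obtain ⟨n, hn⟩ := classInner_natCast (isCharacter_restrict (irr_isCharacter χ₀) (P : Subgroup G))
      (irr_isCharacter (oneIrr P))
    have hs : ∑ x : (P : Subgroup G), (χ₀ : G → ℂ) (x : G) *
        conj (((oneIrr (P : Subgroup G) : IrrCharacter (P : Subgroup G)) : (↥(P : Subgroup G)) → ℂ) x) = (χ₀ : G → ℂ) 1 := by
      have e1 : conj (((oneIrr (P : Subgroup G) : IrrCharacter (P : Subgroup G)) : (↥(P : Subgroup G)) → ℂ) 1) = 1 := by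
        have : ((oneIrr (P : Subgroup G) : IrrCharacter (P : Subgroup G)) : (↥(P : Subgroup G)) → ℂ) 1 = 1 := rfl
        rw [this, map_one]
      rw [Finset.sum_eq_single (1 : (P : Subgroup G))
        (fun x _ hx => by rw [hvan x hx, zero_mul])
        (fun h => absurd (Finset.mem_univ _) h), e1, mul_one, Subgroup.coe_one]
    unfold classInner at hn
    have hs' : (Nat.card P : ℂ)⁻¹ * (χ₀ : G → ℂ) 1 = n := by
      rw [← hn, ← hs]
    rw [charDegree_eq', ← hp,
      inv_mul_eq_iff_eq_mul₀ (by exact_mod_cast Nat.card_pos.ne')] at hs'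
    have h2 : p = Nat.card P * n := by exact_mod_cast hs'
    rcases hpp.eq_one_or_self_of_dvd _ ⟨n, h2⟩ with h3 | h3
    · exfalso
      have := Finite.one_lt_card (α := P)
      omega
    · exact h3
  have hp2 : p ≠ 2 := by
    intro h2
    apply degree_ne_two hnc χ₀
    rw [charDegree_eq', ← hp, h2]; norm_num
  -- block theory
  obtain ⟨M, hM⟩ := H4.exists_isPModular p
  have hMp := hM.2.1.isPrime
  have hSp : BR.Sp p (P : Subgroup G) := BR.Sp.of_sylow P hPcard
  obtain ⟨C, hC⟩ : ∃ C : Subgroup G, C = Subgroup.centralizer ((P : Subgroup G) : Set G) := ⟨_, rfl⟩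
  obtain ⟨d, hcard, -⟩ := CycG.principal_cycDat hM hSp hC
  obtain ⟨θ, ε, δ, o, hnexc, hε⟩ := CycG.principal_main hM hSp hC
  have hne : ∃ χ ∈ principalBlock M C, χ ≠ oneIrr C := by
    have h1 : (BlkC.Bfin (principalBlock M C)).card = p := by
      rw [← BlkC.natCard_eq_Bfin, hcard]
    obtain ⟨χ, hχ, h2⟩ := Finset.exists_mem_ne (s := BlkC.Bfin (principalBlock M C))
      (by rw [h1]; exact hpp.one_lt) (oneIrr C)
    exact ⟨χ, (Set.Finite.mem_toFinset _).1 hχ, h2⟩
  obtain ⟨χ', hχ', h1'⟩ := hne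
  have h1mem : oneIrr G ∈ principalBlock M G := Blk.oneIrr_mem_principalBlock (M := M)
  have hdeg1 : charDegree ((oneIrr G : IrrCharacter G) : G → ℂ) = 1 := by
    have h := BlkC.charDegree_spec (oneIrr G)
    have h2 : ((oneIrr G : IrrCharacter G) : G → ℂ) 1 = 1 := rfl
    rw [h2] at h
    exact_mod_cast h.symm
  have hX : CycG.CycOut.Xf (principalBlock M G) (principalBlock M C) (oneIrr C) θ = {oneIrr G} := by
    ext χ
    rw [Finset.mem_singleton, CycG.CycOut.mem_Xf]
    constructor
    · rintro ⟨hχB, hχE⟩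
      have h2 := o.dvd_nonexc hχB hχE h1mem hnexc (P : Subgroup G) P.isPGroup'
      rw [hε, hPcard, hdeg1] at h2
      by_contra hcon
      have hd1 : charDegree (χ : G → ℂ) ≠ 1 := fun hd => hcon (eq_oneIrr_of_degree_one hperf hd)
      have hdp := h χ hd1
      have hle := hmax χ
      change charDegree (χ : G → ℂ) ≤ p at hle
      have h3 := hdp.two_le
      have h4 := hpp.two_le
      rcases o.eps χ with he | he
      · rw [he] at h2
        obtain ⟨c, hc⟩ := h2
        have h5 : (charDegree (χ : G → ℂ) : ℤ) = p * c + 1 := by push_cast at hc; linarith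
        rcases lt_trichotomy c 0 with h6 | h6 | h6
        · nlinarith
        · rw [h6] at h5; apply hd1; omega
        · nlinarith
      · rw [he] at h2
        obtain ⟨c, hc⟩ := h2
        have h5 : (charDegree (χ : G → ℂ) : ℤ) = p * (-c) - 1 := by push_cast at hc; linarith
        have h6 : -c = 1 := by
          by_contra h7
          rcases lt_or_gt_of_ne h7 with h8 | h8
          · nlinarith
          · nlinarith
        rw [h6, mul_one] at h5
        have h7 : charDegree (χ : G → ℂ) + 1 = p := by omega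
        have hodd := hpp.eq_two_or_odd.resolve_left hp2
        have h8 : charDegree (χ : G → ℂ) = 2 := by
          rcases hdp.eq_two_or_odd with h9 | h9
          · exact h9
          · omega
        apply degree_ne_two hnc χ
        rw [charDegree_eq', h8]; norm_num
    · rintro rfl
      exact ⟨h1mem, hnexc⟩
  have hrel := o.reg_rel hχ' h1' (g := 1) (by rw [orderOf_one]; exact hpp.one_lt.ne' ∘ Nat.dvd_one.mp)
  rw [hX, Finset.sum_singleton, hε, BlkC.charDegree_spec, BlkC.charDegree_spec, hdeg1] at hrel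
  have hrel' : (1 : ℤ) + δ * (charDegree (θ χ' : G → ℂ) : ℤ) = 0 := by
    have : ((1 : ℤ) : ℂ) * ((1 : ℕ) : ℂ) = 1 := by norm_num
    rw [this] at hrel
    exact_mod_cast hrel
  apply hnexc
  refine ⟨χ', hχ', h1', ?_⟩
  symm
  apply eq_oneIrr_of_degree_one hperf
  rcases o.delta with hδ | hδ
  · rw [hδ] at hrel'; omega
  · rw [hδ] at hrel'; omega

/-- degrees of constituents of restrictions to normal subgroups -/
theorem degree_dvd_of_over {N : Subgroup G} [N.Normal] {χ : IrrCharacter G} {θ : IrrCharacter N}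
    (h : classInner (fun n : N => (χ : G → ℂ) n) (θ : N → ℂ) ≠ 0) :
    charDegree (θ : N → ℂ) ∣ charDegree (χ : G → ℂ) ∧
      charDegree (χ : G → ℂ) / charDegree (θ : N → ℂ) ∣ N.index :=
  S0887.result N χ χ.2 θ θ.2 h _ _ (charDegree_eq' χ) (charDegree_eq' θ)

theorem solvable_of_prime_degrees (n : ℕ) : ∀ (G : Type u) [Group G] [Finite G], Nat.card G = n →
    (∀ χ : IrrCharacter G, charDegree (χ : G → ℂ) ≠ 1 → (charDegree (χ : G → ℂ)).Prime) →
    Group.IsSolvable G := by
  classical
  induction n using Nat.strong_induction_on with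
  | _ n ih =>
  intro G _ _ hn h
  by_cases hcomm : ∀ a b : G, a * b = b * a
  · exact Group.isSolvable_of_comm hcomm
  push Not at hcomm
  by_cases hsimp : ∀ N : Subgroup G, N.Normal → N = ⊥ ∨ N = ⊤
  · exfalso
    have : Nontrivial G := by
      obtain ⟨a, b, hab⟩ := hcomm
      exact ⟨a * b, b * a, hab⟩
    have : IsSimpleGroup G := ⟨hsimp⟩
    exact simple_false hcomm h
  push Not at hsimp
  obtain ⟨N, hN, hbot, htop⟩ := hsimp
  have h1 : Group.IsSolvable N := by
    apply ih (Nat.card N) _ N rfl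
    · intro θ hθ
      obtain ⟨χ, hχ, hne⟩ := Char.exists_over N θ.2
      have hd := (degree_dvd_of_over (χ := ⟨χ, hχ⟩) hne).1
      have h2 : charDegree χ ≠ 1 := by
        intro h3
        change _ ∣ charDegree χ at hd
        rw [h3] at hd
        exact hθ (Nat.dvd_one.mp hd)
      rcases (h ⟨χ, hχ⟩ h2).eq_one_or_self_of_dvd _ hd with h3 | h3
      · exact absurd h3 hθ
      · rw [h3]; exact h ⟨χ, hχ⟩ h2
    · rw [← hn]
      have h5 := Subgroup.card_eq_iff_eq_top (H := N)
      have h6 := Subgroup.card_le_card_group N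
      exact lt_of_le_of_ne h6 (fun h7 => htop (h5.mp h7))
  have h2 : Group.IsSolvable (G ⧸ N) := by
    apply ih (Nat.card (G ⧸ N)) _ (G ⧸ N) rfl
    · intro χ hχ
      have e1 : charDegree (fun g : G => (χ : G ⧸ N → ℂ) (g : G ⧸ N)) =
          charDegree (χ : G ⧸ N → ℂ) := rfl
      rw [← e1] at hχ ⊢
      exact h ⟨_, H75.isIrrCharacter_inflate N χ.2⟩ hχ
    · rw [← hn, ← Subgroup.index_eq_card, ← N.card_mul_index]
      have := (Subgroup.one_lt_card_iff_ne_bot N).mpr hbot
      have h3 : 0 < N.index := Nat.pos_of_ne_zero Subgroup.FiniteIndex.index_ne_zero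
      nlinarith
  exact (Group.isSolvable_iff_subgroup_quotient N).mpr ⟨h1, h2⟩

end Cfsg.Agent.H76
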