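import Cfsg.Agent.Char.Clifford
import Cfsg.Agent.Char.ExtCyclic
import Cfsg.Agent.Char.Berger

/-!
# Fully ramified characters
-/

set_option autoImplicit false
set_option linter.unusedSectionVars false

namespace Cfsg.Agent.H76

open scoped ComplexConjugate
open Cfsg Cfsg.Agent.CharBase Cfsg.Agent.Char

section basic

variable {G : Type*} [Group G]

/-- Sum over a subgroup of a function vanishing off a smaller subgroup. -/
theorem sum_sub_of_vanish {Z Q : Subgroup G} (hZQ : Z ≤ Q) [Fintype Z] [Fintype Q] (F : Q → ℂ)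
    (h0 : ∀ q : Q, (q : G) ∉ Z → F q = 0) : ∑ q : Q, F q = ∑ z : Z, F ⟨z, hZQ z.2⟩ := by
  classical
  symm
  refine Finset.sum_of_injOn (fun z : Z => (⟨z, hZQ z.2⟩ : Q)) ?_ ?_ ?_ ?_
  · intro a _ b _ h
    exact Subtype.ext (congrArg (fun q : Q => (q : G)) h)
  · intro z _; exact Finset.mem_univ _
  · intro q _ hq
    apply h0
    intro h
    apply hq
    exact ⟨⟨q, h⟩, Finset.mem_univ _, rfl⟩
  · intro z _; rfl

theorem sum_of_vanish [Fintype G] {Z : Subgroup G} [Fintype Z] (F : G → ℂ)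
    (h0 : ∀ g : G, g ∉ Z → F g = 0) : ∑ g : G, F g = ∑ z : Z, F z := by
  classical
  symm
  refine Finset.sum_of_injOn (fun z : Z => (z : G)) ?_ ?_ ?_ ?_
  · intro a _ b _ h
    exact Subtype.ext h
  · intro z _; exact Finset.mem_univ _
  · intro q _ hq
    apply h0
    intro h
    apply hq
    exact ⟨⟨q, h⟩, Finset.mem_univ _, rfl⟩
  · intro z _; rfl

end basic

section whole

variable {G : Type*} [Group G] [Fintype G] {Z : Subgroup G} [Fintype Z]
  {χ : G → ℂ} {θ : Z → ℂ} {e : ℕ}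

theorem sum_mul_conj_eq_card {G : Type*} [Group G] [Fintype G] {χ : G → ℂ}
    (hχ : IsIrrCharacter G χ) : ∑ g : G, χ g * conj (χ g) = (Nat.card G : ℂ) := by
  have h := classInner_irr_self (⟨χ, hχ⟩ : IrrCharacter G)
  unfold classInner at h
  have hG : (Nat.card G : ℂ) ≠ 0 := by exact_mod_cast Nat.card_pos.ne'
  rw [inv_mul_eq_one₀ hG] at h
  exact h.symm

/-- Norm inequality: if `χ|_Z = e θ` then `e² ≤ |G : Z|`. -/
theorem sq_le_index (hχ : IsIrrCharacter G χ) (hθ : IsIrrCharacter Z θ)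
    (hr : ∀ z : Z, χ z = (e : ℂ) * θ z) : e ^ 2 ≤ Z.index := by
  classical
  have h1 := sum_mul_conj_eq_card hχ
  have h2 := sum_mul_conj_eq_card hθ
  have h3 : ∑ z : Z, χ z * conj (χ z) = (e : ℂ) ^ 2 * (Nat.card Z : ℂ) := by
    rw [← h2, Finset.mul_sum]
    refine Finset.sum_congr rfl fun z _ => ?_
    rw [hr, map_mul, Complex.conj_natCast]; ring
  have h4 : ∑ z : Z, Complex.normSq (χ z) ≤ ∑ g : G, Complex.normSq (χ g) := by
    have h8 : ∑ g ∈ Finset.univ.filter (fun g : G => g ∈ Z), Complex.normSq (χ g) =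
        ∑ z : Z, Complex.normSq (χ z) := by
      rw [← Finset.sum_subtype_of_mem (fun g => Complex.normSq (χ g)) (p := fun g => g ∈ Z)
        (fun x hx => (Finset.mem_filter.mp hx).2)]
      refine Finset.sum_congr ?_ fun _ _ => rfl
      ext x
      simp [Finset.mem_subtype, x.2]
    rw [← h8]
    exact Finset.sum_le_univ_sum_of_nonneg fun g => Complex.normSq_nonneg _
  have h5 : ∀ z : ℂ, z * conj z = (Complex.normSq z : ℂ) := Complex.mul_conj
  simp only [h5] at h1 h3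
  have h1' : ∑ g : G, Complex.normSq (χ g) = (Nat.card G : ℝ) := by exact_mod_cast h1
  have h3' : ∑ z : Z, Complex.normSq (χ z) = (e : ℝ) ^ 2 * (Nat.card Z : ℝ) := by
    exact_mod_cast h3
  rw [h1', h3', ← Subgroup.card_mul_index Z] at h4
  have h6 : ((e ^ 2 * Nat.card Z : ℕ) : ℝ) ≤ ((Nat.card Z * Z.index : ℕ) : ℝ) := by
    push_cast; push_cast at h4; exact h4
  have h7 : e ^ 2 * Nat.card Z ≤ Nat.card Z * Z.index := by exact_mod_cast h6
  rw [mul_comm] at h7
  exact Nat.le_of_mul_le_mul_left h7 Nat.card_pos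

/-- A fully ramified character vanishes off `Z`. -/
theorem fr_vanish (hχ : IsIrrCharacter G χ) (hθ : IsIrrCharacter Z θ)
    (hr : ∀ z : Z, χ z = (e : ℂ) * θ z) (he : e ^ 2 = Z.index) {g : G} (hg : g ∉ Z) :
    χ g = 0 := by
  classical
  have h1 := sum_mul_conj_eq_card hχ
  have h2 := sum_mul_conj_eq_card hθ
  have h3 : ∑ z : Z, χ z * conj (χ z) = (Nat.card G : ℂ) := by
    have : (Nat.card G : ℂ) = (e : ℂ) ^ 2 * (Nat.card Z : ℂ) := by
      rw [← Subgroup.card_mul_index Z, ← he]; push_cast; ring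
    rw [this, ← h2, Finset.mul_sum]
    refine Finset.sum_congr rfl fun z _ => ?_
    rw [hr, map_mul, Complex.conj_natCast]; ring
  have h5 : ∀ z : ℂ, z * conj z = (Complex.normSq z : ℂ) := Complex.mul_conj
  simp only [h5] at h1 h3
  have h1' : ∑ g : G, Complex.normSq (χ g) = (Nat.card G : ℝ) := by exact_mod_cast h1
  have h3' : ∑ z : Z, Complex.normSq (χ z) = (Nat.card G : ℝ) := by exact_mod_cast h3
  have h6 : ∑ g ∈ Finset.univ.filter (fun g : G => g ∉ Z), Complex.normSq (χ g) = 0 := by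
    have h7 := Finset.sum_filter_add_sum_filter_not Finset.univ (fun g : G => g ∈ Z)
      (fun g => Complex.normSq (χ g))
    have h8 : ∑ g ∈ Finset.univ.filter (fun g : G => g ∈ Z), Complex.normSq (χ g) =
        ∑ z : Z, Complex.normSq (χ z) := by
      rw [← Finset.sum_subtype_of_mem (fun g => Complex.normSq (χ g)) (p := fun g => g ∈ Z)
        (fun x hx => (Finset.mem_filter.mp hx).2)]
      refine Finset.sum_congr ?_ fun _ _ => rfl
      ext x
      simp [Finset.mem_subtype, x.2]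
    rw [h8, h1', h3'] at h7
    linarith
  have h9 := (Finset.sum_eq_zero_iff_of_nonneg (fun g _ => Complex.normSq_nonneg _)).1 h6 g
    (Finset.mem_filter.2 ⟨Finset.mem_univ _, hg⟩)
  exact Complex.normSq_eq_zero.1 h9

theorem fr_e_pos (hχ : IsIrrCharacter G χ) (hr : ∀ z : Z, χ z = (e : ℂ) * θ z) : e ≠ 0 := by
  rintro rfl
  apply irr_one_ne_zero hχ
  have := hr 1
  rw [Nat.cast_zero, zero_mul] at this
  exact this

/-- Inner products with a fully ramified character. -/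
theorem fr_inner (hχ : IsIrrCharacter G χ) (hθ : IsIrrCharacter Z θ)
    (hr : ∀ z : Z, χ z = (e : ℂ) * θ z) (he : e ^ 2 = Z.index) (ψ : G → ℂ) :
    classInner ψ χ = (e : ℂ) * (Nat.card Z : ℂ) / (Nat.card G : ℂ) *
      classInner (fun z : Z => ψ z) θ := by
  unfold classInner
  rw [sum_of_vanish (Z := Z) (fun g => ψ g * conj (χ g)) fun g hg => by
    rw [fr_vanish hχ hθ hr he hg]; simp]
  have h1 : ∀ z : Z, ψ z * conj (χ z) = (e : ℂ) * (ψ z * conj (θ z)) := by
    intro z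
    rw [hr, map_mul, Complex.conj_natCast]; ring
  simp only [h1]
  rw [← Finset.mul_sum]
  have hZ : (Nat.card Z : ℂ) ≠ 0 := by exact_mod_cast Nat.card_pos.ne'
  have hG : (Nat.card G : ℂ) ≠ 0 := by exact_mod_cast Nat.card_pos.ne'
  field_simp

/-- Uniqueness of the fully ramified character. -/
theorem fr_unique (hχ : IsIrrCharacter G χ) (hθ : IsIrrCharacter Z θ)
    (hr : ∀ z : Z, χ z = (e : ℂ) * θ z) (he : e ^ 2 = Z.index) {ψ : G → ℂ}
    (hψ : IsIrrCharacter G ψ) (h : classInner (fun z : Z => ψ z) θ ≠ 0) : ψ = χ := by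
  by_contra hne
  have h1 := fr_inner hχ hθ hr he ψ
  have h2 := classInner_irr_of_ne (χ := ⟨ψ, hψ⟩) (ψ := ⟨χ, hχ⟩)
    (fun h => hne (congrArg Subtype.val h))
  simp only at h2
  rw [h2] at h1
  have hZ : (Nat.card Z : ℂ) ≠ 0 := by exact_mod_cast Nat.card_pos.ne'
  have hG : (Nat.card G : ℂ) ≠ 0 := by exact_mod_cast Nat.card_pos.ne'
  have he0 : (e : ℂ) ≠ 0 := by exact_mod_cast fr_e_pos hχ hr
  exact (mul_ne_zero (div_ne_zero (mul_ne_zero he0 hZ) hG) h) h1.symm

end whole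

section sub

variable {G : Type*} [Group G] [Fintype G] {Z : Subgroup G} [Fintype Z]
  {χ : G → ℂ} {θ : Z → ℂ} {e : ℕ}

/-- If `χ|_Z = e θ` and `η` is a constituent of `χ|_S`, `Z ≤ S`, then `η|_Z` is a multiple
of `θ`. -/
theorem restrict_of_constituent (hχ : IsIrrCharacter G χ) (hθ : IsIrrCharacter Z θ)
    (hr : ∀ z : Z, χ z = (e : ℂ) * θ z) {S : Subgroup G} [Fintype S] (hZS : Z ≤ S)
    {η : S → ℂ} (hη : IsIrrCharacter S η) (h : classInner (fun s : S => χ s) η ≠ 0) :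
    ∃ f : ℕ, f ≠ 0 ∧ ∀ z : Z, η ⟨z, hZS z.2⟩ = (f : ℂ) * θ z := by
  classical
  have : Fintype (IrrCharacter S) := Fintype.ofFinite _
  have : Fintype (IrrCharacter Z) := Fintype.ofFinite _
  have hχS := isCharacter_restrict (isCharacter_of_isIrr hχ) S
  obtain ⟨m, hm, hsum⟩ := exists_mult_of_isCharacter hχS
  -- restriction of `η`
  have hηZ : IsCharacter Z (fun z : Z => η ⟨z, hZS z.2⟩) :=
    isCharacter_comp (isCharacter_of_isIrr hη) (Subgroup.inclusion hZS)
  obtain ⟨a, ha, hasum⟩ := exists_mult_of_isCharacter hηZ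
  have hm0 : m ⟨η, hη⟩ ≠ 0 := by
    intro h0
    apply h
    have := hm ⟨η, hη⟩
    rw [h0, Nat.cast_zero] at this
    exact this
  -- the other multiplicities vanish
  have hzero : ∀ ψ : IrrCharacter Z, ψ ≠ ⟨θ, hθ⟩ → a ψ = 0 := by
    intro ψ hψ
    have h1 : classInner (fun z : Z => χ z) (ψ : Z → ℂ) = 0 := by
      have : (fun z : Z => χ z) = (e : ℂ) • θ := by funext z; rw [hr]; rfl
      rw [this, classInner_smul_left, classInner_irr_of_ne (χ := ⟨θ, hθ⟩) hψ.symm, mul_zero]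
    have h2 : (fun z : Z => χ z) = ∑ ξ : IrrCharacter S, (m ξ : ℂ) •
        (fun z : Z => (ξ : S → ℂ) ⟨z, hZS z.2⟩) := by
      funext z
      have := congrFun hsum ⟨z, hZS z.2⟩
      change χ z = _ at this
      rw [this, Finset.sum_apply, Finset.sum_apply]
      refine Finset.sum_congr rfl fun ξ _ => ?_
      simp
    rw [h2, classInner_sum_left] at h1
    -- all the terms are natural numbers
    have hnat : ∀ ξ : IrrCharacter S, ∃ n : ℕ, classInner ((m ξ : ℂ) •
        (fun z : Z => (ξ : S → ℂ) ⟨z, hZS z.2⟩)) (ψ : Z → ℂ) = n := by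
      intro ξ
      obtain ⟨n, hn⟩ := classInner_natCast (isCharacter_comp (irr_isCharacter ξ)
        (Subgroup.inclusion hZS)) (irr_isCharacter ψ)
      refine ⟨m ξ * n, ?_⟩
      rw [classInner_smul_left, Nat.cast_mul, ← hn]
      rfl
    choose n hn using hnat
    simp only [hn] at h1
    have h3 : ∑ ξ : IrrCharacter S, n ξ = 0 := by exact_mod_cast h1
    rw [Finset.sum_eq_zero_iff] at h3
    have h4 := h3 ⟨η, hη⟩ (Finset.mem_univ _)
    have h5 := hn ⟨η, hη⟩
    rw [h4, classInner_smul_left, Nat.cast_zero, mul_eq_zero] at h5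
    rcases h5 with h5 | h5
    · exact absurd (by exact_mod_cast h5) hm0
    · rw [ha] at h5
      exact_mod_cast h5
  refine ⟨a ⟨θ, hθ⟩, ?_, ?_⟩
  · intro h0
    apply irr_one_ne_zero hη
    have h1 := congrFun hasum 1
    rw [Finset.sum_apply, Finset.sum_eq_zero] at h1
    · exact h1
    · intro ψ _
      by_cases hψ : ψ = ⟨θ, hθ⟩
      · rw [hψ, h0]; simp
      · rw [hzero ψ hψ]; simp
  · intro z
    have h1 := congrFun hasum z
    change η ⟨z, hZS z.2⟩ = _ at h1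
    rw [h1, Finset.sum_apply, Finset.sum_eq_single (⟨θ, hθ⟩ : IrrCharacter Z)]
    · simp
    · intro ψ _ hψ
      rw [hzero ψ hψ]; simp
    · intro h; exact absurd (Finset.mem_univ _) h

end sub

section sylow

variable {G : Type*} [Group G] [Fintype G] {Z : Subgroup G} [Fintype Z]
  {χ : G → ℂ} {θ : Z → ℂ} {e : ℕ}

/-- transport of a function to the subgroup of a subgroup -/
def sc {G : Type*} [Group G] {N : Subgroup G} (M : Subgroup G) (θ : N → ℂ) :
    N.subgroupOf M → ℂ := fun n => θ ⟨((n : M) : G), n.2⟩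

theorem sc_irr {G : Type*} [Group G] [Finite G] {N M : Subgroup G} (hNM : N ≤ M) {θ : N → ℂ}
    (hθ : IsIrrCharacter N θ) : IsIrrCharacter (N.subgroupOf M) (sc M θ) :=
  isIrrCharacter_comp_surjective hθ (Subgroup.subgroupOfEquivOfLe hNM).toMonoidHom
    (Subgroup.subgroupOfEquivOfLe hNM).surjective

theorem card_subgroupOf_eq {G : Type*} [Group G] {N M : Subgroup G} (hNM : N ≤ M) :
    Nat.card (N.subgroupOf M) = Nat.card N :=
  Nat.card_congr (Subgroup.subgroupOfEquivOfLe hNM).toEquiv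

/-- the inner product of two characters lying over `θ`, one of them fully ramified -/
theorem fr_inner_sub (hχ : IsIrrCharacter G χ) (hθ : IsIrrCharacter Z θ)
    (hr : ∀ z : Z, χ z = (e : ℂ) * θ z) (he : e ^ 2 = Z.index) {S : Subgroup G} [Fintype S]
    (hZS : Z ≤ S) {η : S → ℂ} {f : ℕ} (hf : ∀ z : Z, η ⟨z, hZS z.2⟩ = (f : ℂ) * θ z) :
    classInner (fun s : S => χ s) η = (e : ℂ) * f * (Nat.card Z : ℂ) / (Nat.card S : ℂ) := by
  unfold classInner
  rw [sum_sub_of_vanish hZS (fun s : S => χ s * conj (η s)) fun q hq => by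
    rw [fr_vanish hχ hθ hr he hq, zero_mul]]
  have h1 : ∀ z : Z, χ (((⟨z, hZS z.2⟩ : S)) : G) * conj (η ⟨z, hZS z.2⟩) =
      (e : ℂ) * f * (θ z * conj (θ z)) := by
    intro z
    rw [hf, hr, map_mul, Complex.conj_natCast]; ring
  rw [Finset.sum_congr rfl fun z _ => h1 z, ← Finset.mul_sum, sum_mul_conj_eq_card hθ]
  have hZ : (Nat.card Z : ℂ) ≠ 0 := by exact_mod_cast Nat.card_pos.ne'
  field_simp

theorem fr_inner_nat (hχ : IsIrrCharacter G χ) (hθ : IsIrrCharacter Z θ)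
    (hr : ∀ z : Z, χ z = (e : ℂ) * θ z) (he : e ^ 2 = Z.index) {S : Subgroup G} [Fintype S]
    (hZS : Z ≤ S) {η : S → ℂ} (hη : IsIrrCharacter S η) {f : ℕ}
    (hf : ∀ z : Z, η ⟨z, hZS z.2⟩ = (f : ℂ) * θ z) :
    ∃ a : ℕ, classInner (fun s : S => χ s) η = a ∧ a * Z.relIndex S = e * f := by
  obtain ⟨a, ha⟩ := classInner_natCast (isCharacter_restrict (isCharacter_of_isIrr hχ) S)
    (isCharacter_of_isIrr hη)
  refine ⟨a, ha, ?_⟩
  have h1 := fr_inner_sub hχ hθ hr he hZS hf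
  have hS : (Nat.card S : ℂ) = (Nat.card Z : ℂ) * (Z.relIndex S : ℂ) := by
    have := Subgroup.relIndex_mul_relIndex (⊥ : Subgroup G) Z S bot_le hZS
    rw [Subgroup.relIndex_bot_left, Subgroup.relIndex_bot_left] at this
    rw [← this]; push_cast; rfl
  have hZ : (Nat.card Z : ℂ) ≠ 0 := by exact_mod_cast Nat.card_pos.ne'
  have hS0 : (Nat.card S : ℂ) ≠ 0 := by exact_mod_cast Nat.card_pos.ne'
  rw [ha, eq_div_iff hS0, hS] at h1
  have h2 : (a : ℂ) * Z.relIndex S = (e : ℂ) * f := by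
    apply mul_left_cancel₀ hZ
    linear_combination h1
  exact_mod_cast h2

/-- Ramification in a "Sylow" subgroup. -/
theorem fr_sylow {p : ℕ} [hp : Fact p.Prime] (hχ : IsIrrCharacter G χ) (hθ : IsIrrCharacter Z θ)
    (hr : ∀ z : Z, χ z = (e : ℂ) * θ z) (he : e ^ 2 = Z.index) {S : Subgroup G} [Fintype S]
    (hZS : Z ≤ S) (hS : ¬ p ∣ S.index) (hSZ : ∃ k, Z.relIndex S = p ^ k) {η : S → ℂ}
    (hη : IsIrrCharacter S η) {f : ℕ} (hf : ∀ z : Z, η ⟨z, hZS z.2⟩ = (f : ℂ) * θ z) :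
    f ^ 2 = Z.relIndex S := by
  classical
  have : Fintype (Z.subgroupOf S) := Fintype.ofFinite _
  obtain ⟨k, hk⟩ := hSZ
  have hf0 : f ≠ 0 := by
    rintro rfl
    apply irr_one_ne_zero hη
    have := hf 1
    rw [Nat.cast_zero, zero_mul] at this
    exact this
  have he0 := fr_e_pos hχ hr
  apply le_antisymm
  · refine sq_le_index (Z := Z.subgroupOf S) hη (sc_irr hZS hθ) ?_
    intro z
    exact hf ⟨((z : S) : G), z.2⟩
  · obtain ⟨a, -, ha⟩ := fr_inner_nat hχ hθ hr he hZS hη hf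
    have hidx := Subgroup.relIndex_mul_index hZS
    have hSi : S.index ≠ 0 := Subgroup.index_ne_zero_of_finite
    have hν : 2 * e.factorization p = k := by
      have h1 : (e ^ 2).factorization p = k := by
        rw [he, ← hidx, hk, Nat.factorization_mul (pow_ne_zero _ hp.out.ne_zero) hSi,
          Finsupp.add_apply, hp.out.factorization_pow, Finsupp.single_eq_same,
          Nat.factorization_eq_zero_of_not_dvd hS, add_zero]
      rw [Nat.factorization_pow, Finsupp.smul_apply, smul_eq_mul] at h1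
      exact h1
    have hdvd : p ^ k ∣ e * f := ⟨a, by rw [← ha, hk, mul_comm]⟩
    have h2 := (hp.out.pow_dvd_iff_le_factorization (mul_ne_zero he0 hf0)).1 hdvd
    rw [Nat.factorization_mul he0 hf0, Finsupp.add_apply] at h2
    have h3 : e.factorization p ≤ f.factorization p := by omega
    have h4 : p ^ e.factorization p ∣ f := (hp.out.pow_dvd_iff_le_factorization hf0).2 h3
    have h5 := Nat.le_of_dvd (Nat.pos_of_ne_zero hf0) h4
    calc Z.relIndex S = (p ^ e.factorization p) ^ 2 := by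
          rw [hk, ← pow_mul, ← hν, mul_comm]
      _ ≤ f ^ 2 := Nat.pow_le_pow_left h5 2

end sylow

section middle

/-! A group `S`, normal subgroups `Z ≤ Q`, `η` fully ramified over `θ ∈ Irr Z`. -/

variable {S : Type*} [Group S] [Fintype S] {Z Q : Subgroup S} [Fintype Z] [Fintype Q]
  [hQn : Q.Normal] {η : S → ℂ} {θ : Z → ℂ} {f : ℕ}

theorem mid_conj (hη : IsIrrCharacter S η) (hθ : IsIrrCharacter Z θ)
    (hr : ∀ z : Z, η z = (f : ℂ) * θ z) (hf : f ^ 2 = Z.index) (hZQ : Z ≤ Q)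
    {φ φ' : Q → ℂ} (hφ : IsIrrCharacter Q φ) (hφ' : IsIrrCharacter Q φ') {a a' : ℕ}
    (ha : ∀ z : Z, φ ⟨z, hZQ z.2⟩ = (a : ℂ) * θ z)
    (ha' : ∀ z : Z, φ' ⟨z, hZQ z.2⟩ = (a' : ℂ) * θ z) : ∃ s : S, cj Q s φ = φ' := by
  have hne : ∀ {φ : Q → ℂ} (_ : IsIrrCharacter Q φ) {a : ℕ}
      (_ : ∀ z : Z, φ ⟨z, hZQ z.2⟩ = (a : ℂ) * θ z),
      classInner (fun q : Q => η q) φ ≠ 0 := by
    intro φ hφ a ha
    rw [fr_inner_sub hη hθ hr hf hZQ ha]
    have ha0 : a ≠ 0 := by
      rintro rfl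
      apply irr_one_ne_zero hφ
      have := ha 1
      rw [Nat.cast_zero, zero_mul] at this
      exact this
    have hZ : (Nat.card Z : ℂ) ≠ 0 := by exact_mod_cast Nat.card_pos.ne'
    have hQ : (Nat.card Q : ℂ) ≠ 0 := by exact_mod_cast Nat.card_pos.ne'
    have he0 : (f : ℂ) ≠ 0 := by exact_mod_cast fr_e_pos hη hr
    have ha0' : (a : ℂ) ≠ 0 := by exact_mod_cast ha0
    exact div_ne_zero (mul_ne_zero (mul_ne_zero he0 ha0') hZ) hQ
  exact exists_conj_of_constituents Q hη hφ hφ' (hne hφ ha) (hne hφ' ha')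

theorem mid_numbers (hη : IsIrrCharacter S η) (hθ : IsIrrCharacter Z θ)
    (hr : ∀ z : Z, η z = (f : ℂ) * θ z) (hf : f ^ 2 = Z.index) (hZQ : Z ≤ Q)
    {φ : Q → ℂ} (hφ : IsIrrCharacter Q φ) {a : ℕ}
    (ha : ∀ z : Z, φ ⟨z, hZQ z.2⟩ = (a : ℂ) * θ z) :
    ∃ g : ℕ, g * Z.relIndex Q = f * a ∧ f = g * (inertia Q φ).index * a ∧
      g ^ 2 * (inertia Q φ).index = Q.index := by
  obtain ⟨g, hg, hg1⟩ := fr_inner_nat hη hθ hr hf hZQ hφ ha
  have ha0 : a ≠ 0 := by
    rintro rfl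
    apply irr_one_ne_zero hφ
    have := ha 1
    rw [Nat.cast_zero, zero_mul] at this
    exact this
  have hf0 := fr_e_pos hη hr
  have hZQ0 : Z.relIndex Q ≠ 0 := by
    intro h0
    rw [h0, mul_zero] at hg1
    exact (mul_ne_zero hf0 ha0) hg1.symm
  have hg0 : g ≠ 0 := by
    rintro rfl
    rw [zero_mul] at hg1
    exact (mul_ne_zero hf0 ha0) hg1.symm
  have h1 := clifford_degree Q hη hφ (by rw [hg]; exact_mod_cast hg0)
  rw [hg] at h1
  have hθ1 : θ 1 ≠ 0 := irr_one_ne_zero hθ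
  have h2 : f = g * (inertia Q φ).index * a := by
    have h3 := hr 1
    have h4 := ha 1
    change η 1 = _ at h3
    change φ 1 = _ at h4
    rw [h3, h4] at h1
    have h5 : (f : ℂ) = g * (inertia Q φ).index * a := by
      apply mul_right_cancel₀ hθ1
      rw [h1]; ring
    exact_mod_cast h5
  refine ⟨g, hg1, h2, ?_⟩
  have h6 := Subgroup.relIndex_mul_index hZQ
  -- `g f = g² index a`, `f² = |Q : Z| |S : Q|`, `g |Q : Z| = f a`
  have h7 : (g ^ 2 * (inertia Q φ).index) * (Z.relIndex Q * a) = Q.index * (Z.relIndex Q * a) := by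
    calc (g ^ 2 * (inertia Q φ).index) * (Z.relIndex Q * a) =
        (g * Z.relIndex Q) * (g * (inertia Q φ).index * a) := by ring
      _ = (f * a) * f := by rw [hg1, ← h2]
      _ = f ^ 2 * a := by ring
      _ = Q.index * (Z.relIndex Q * a) := by rw [hf, ← h6]; ring
  exact Nat.eq_of_mul_eq_mul_right (Nat.pos_of_ne_zero (mul_ne_zero hZQ0 ha0)) h7

/-- If `T / Q` is cyclic, `T` the inertia group, then `T = Q`. -/
theorem mid_cyclic (hη : IsIrrCharacter S η) (hθ : IsIrrCharacter Z θ)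
    (hr : ∀ z : Z, η z = (f : ℂ) * θ z) (hf : f ^ 2 = Z.index) (hZQ : Z ≤ Q)
    {φ : Q → ℂ} (hφ : IsIrrCharacter Q φ) {a : ℕ}
    (ha : ∀ z : Z, φ ⟨z, hZQ z.2⟩ = (a : ℂ) * θ z)
    (hcyc : IsCyclic (inertia Q φ ⧸ Q.subgroupOf (inertia Q φ))) : inertia Q φ = Q := by
  classical
  have hQT : Q ≤ inertia Q φ := le_inertia Q (isClassFunction_of_isCharacter
    (isCharacter_of_isIrr hφ))
  set T := inertia Q φ with hT
  have : Fintype T := Fintype.ofFinite _
  obtain ⟨ψ, hψ, hψe⟩ := exists_extension_of_cyclic (Q.subgroupOf T) hcyc (sc_irr hQT hφ) (by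
    intro t
    funext q
    exact congrFun ((mem_inertia Q).1 t.2) ⟨((q : T) : S), q.2⟩)
  have hψZ : ∀ z : Z, ψ ⟨z, (hZQ.trans hQT) z.2⟩ = (a : ℂ) * θ z := by
    intro z
    rw [← ha z]
    exact hψe ⟨⟨z, (hZQ.trans hQT) z.2⟩, hZQ z.2⟩
  obtain ⟨b, -, hb⟩ := fr_inner_nat hη hθ hr hf (hZQ.trans hQT) hψ hψZ
  obtain ⟨g, hg1, -, hg3⟩ := mid_numbers hη hθ hr hf hZQ hφ ha
  rw [← hT] at hg3
  have h1 := Subgroup.relIndex_mul_relIndex Z Q T hZQ hQT
  have h2 := Subgroup.relIndex_mul_index hQT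
  have hTi : T.index ≠ 0 := Subgroup.index_ne_zero_of_finite
  have h3 : Z.relIndex Q ≠ 0 := (Subgroup.index_ne_zero_of_finite : (Z.subgroupOf Q).index ≠ 0)
  have h4 : Q.relIndex T ≠ 0 := (Subgroup.index_ne_zero_of_finite : (Q.subgroupOf T).index ≠ 0)
  have h5 : g ^ 2 = Q.relIndex T := by
    rw [← h2] at hg3
    exact Nat.eq_of_mul_eq_mul_right (Nat.pos_of_ne_zero hTi) hg3
  have h6 : g = b * Q.relIndex T := by
    rw [← h1] at hb
    apply Nat.eq_of_mul_eq_mul_right (Nat.pos_of_ne_zero h3)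
    rw [hg1, ← hb]; ring
  have h7 : b ^ 2 * Q.relIndex T = 1 := by
    apply Nat.eq_of_mul_eq_mul_right (Nat.pos_of_ne_zero h4)
    calc b ^ 2 * Q.relIndex T * Q.relIndex T = (b * Q.relIndex T) ^ 2 := by ring
      _ = 1 * Q.relIndex T := by rw [← h6, h5, one_mul]
  have h8 : Q.relIndex T = 1 := Nat.eq_one_of_mul_eq_one_left h7
  rw [Subgroup.relIndex_eq_one] at h8
  exact le_antisymm h8 hQT

end middle

end Cfsg.Agent.H76
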