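import Cfsg.Agent.Char.MackeyTop
import Cfsg.Agent.Char.CliffordCorr
import Cfsg.Agent.H76.FullyRam

/-!
# Restriction to a supplement of a normal subgroup is bijective over an invariant character with
irreducible restriction (Isaacs, Lemma 10.5)
-/

set_option autoImplicit false
set_option linter.unusedSectionVars false

namespace Cfsg.Agent.H76

open scoped ComplexConjugate
open Cfsg Cfsg.Agent.CharBase Cfsg.Agent.Char

section bij

variable {A : Type*} [Group A] [Fintype A] {H M : Subgroup A} [Fintype H] [Fintype M]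
  [hMn : M.Normal]

/-- The restriction of a character over an invariant character is a multiple. -/
theorem over_mult {χ : A → ℂ} (hχ : IsIrrCharacter A χ) {θ : M → ℂ} (hθ : IsIrrCharacter M θ)
    (hinv : ∀ g : A, cj M g θ = θ) (h : classInner (fun n : M => χ n) θ ≠ 0) :
    ∃ e : ℕ, e ≠ 0 ∧ ∀ m : M, χ m = (e : ℂ) * θ m := by
  obtain ⟨e, he⟩ := classInner_natCast (isCharacter_restrict (isCharacter_of_isIrr hχ) M)
    (isCharacter_of_isIrr hθ)
  have h1 := restrict_eq_smul_of_invariant M hχ hθ h hinv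
  refine ⟨e, ?_, fun m => ?_⟩
  · rintro rfl
    apply h
    rw [he]; simp
  · rw [he] at h1
    exact congrFun h1 m

theorem over_mult' {χ : A → ℂ} {θ : M → ℂ} (hθ : IsIrrCharacter M θ) {e : ℕ} (he : e ≠ 0)
    (h : ∀ m : M, χ m = (e : ℂ) * θ m) : classInner (fun n : M => χ n) θ = e := by
  have h1 : (fun n : M => χ n) = (e : ℂ) • θ := by funext m; rw [h]; rfl
  rw [h1, classInner_smul_left, classInner_irr_self ⟨θ, hθ⟩, mul_one]

/-- the restriction of `θ` to `H ⊓ M` -/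
def rInf (H M : Subgroup A) (θ : M → ℂ) : (H ⊓ M : Subgroup A) → ℂ := fun z => θ ⟨z, z.2.2⟩

theorem rInf_irr {θ : M → ℂ} (hθK : IsIrrCharacter (H ⊓ M : Subgroup A) (rInf H M θ)) :
    IsIrrCharacter (H.subgroupOf M) (fun s => θ (s : M)) := by
  have hle : H ⊓ M ≤ M := inf_le_right
  let e : (H.subgroupOf M) ≃* (H ⊓ M : Subgroup A) :=
    { toFun := fun s => ⟨((s : M) : A), ⟨s.2, (s : M).2⟩⟩
      invFun := fun z => ⟨⟨z, z.2.2⟩, z.2.1⟩
      left_inv := fun s => rfl
      right_inv := fun z => rfl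
      map_mul' := fun a b => rfl }
  exact isIrrCharacter_comp_surjective hθK e.toMonoidHom e.surjective

variable {θ : M → ℂ} {α : H → ℂ} {f : ℕ}

/-- multiplicity of `θ` in the induced character. -/
theorem ind_mult (hsup : H ⊔ M = ⊤) (hθ : IsIrrCharacter M θ)
    (hθK : IsIrrCharacter (H ⊓ M : Subgroup A) (rInf H M θ)) (hα : IsIrrCharacter H α)
    (hf : ∀ z : (H ⊓ M : Subgroup A), α ⟨z, z.2.1⟩ = (f : ℂ) * rInf H M θ z) :
    classInner (fun n : M => indFun H α n) θ = f := by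
  classical
  haveI : Fintype (H.subgroupOf M) := Fintype.ofFinite _
  have hθc := isClassFunction_of_isCharacter (isCharacter_of_isIrr hθ)
  have h1 := MT.indFun_restrict_of_sup hsup (isClassFunction_of_isCharacter
    (isCharacter_of_isIrr hα))
  rw [h1, frobenius_reciprocity _ _ _ hθc]
  have h2 : (fun s : H.subgroupOf M => α ⟨((s : M) : A), s.2⟩) =
      (f : ℂ) • (fun s : H.subgroupOf M => θ (s : M)) := by
    funext s
    exact hf ⟨((s : M) : A), ⟨s.2, (s : M).2⟩⟩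
  rw [h2, classInner_smul_left]
  have h3 := classInner_irr_self (⟨_, rInf_irr hθK⟩ : IrrCharacter (H.subgroupOf M))
  rw [h3, mul_one]

theorem char_nonneg_mult {φ : A → ℂ} (hφ : IsCharacter A φ) (hθ : IsIrrCharacter M θ) {β : A → ℂ}
    (hβ : IsIrrCharacter A β) (h : classInner φ β ≠ 0) {e : ℕ} (he : ∀ m : M, β m = (e : ℂ) * θ m)
    {m : ℕ} (hm : classInner (fun n : M => φ n) θ = m) :
    IsCharacter A (φ - β) ∧ ∃ r : ℕ, classInner (fun n : M => (φ - β) n) θ = r ∧ m = r + e := by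
  have h1 := Cfsg.Agent.Char.CC.isCharacter_sub_of_constituent hφ hβ h
  obtain ⟨r, hr⟩ := classInner_natCast (isCharacter_restrict h1 M) (isCharacter_of_isIrr hθ)
  refine ⟨h1, r, hr, ?_⟩
  have h2 : (fun n : M => (φ - β) n) = (fun n : M => φ n) - (e : ℂ) • θ := by
    funext n
    simp only [Pi.sub_apply, Pi.smul_apply, smul_eq_mul, he]
  rw [h2, classInner_sub_left, hm, classInner_smul_left,
    classInner_irr_self ⟨θ, hθ⟩, mul_one, sub_eq_iff_eq_add] at hr
  exact_mod_cast hr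

/-- **Key lemma.** -/
theorem bij_restrict (hsup : H ⊔ M = ⊤) (hθ : IsIrrCharacter M θ)
    (hθK : IsIrrCharacter (H ⊓ M : Subgroup A) (rInf H M θ)) (hα : IsIrrCharacter H α)
    {β : A → ℂ} (hβ : IsIrrCharacter A β) {e : ℕ} (he : ∀ m : M, β m = (e : ℂ) * θ m)
    (h : classInner (fun x : H => β x) α ≠ 0) : (fun x : H => β x) = α := by
  classical
  haveI : Fintype (H ⊓ M : Subgroup A) := Fintype.ofFinite _
  have hβc := isClassFunction_of_isCharacter (isCharacter_of_isIrr hβ)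
  obtain ⟨f, hf0, hf⟩ := restrict_of_constituent (Z := H ⊓ M) (θ := rInf H M θ) hβ hθK
    (fun z => he ⟨z, z.2.2⟩) inf_le_left hα h
  have h1 := ind_mult hsup hθ hθK hα hf
  have h2 : classInner (indFun H α) β ≠ 0 := by
    rw [frobenius_reciprocity H α β hβc]
    intro h0
    apply h
    rw [← CharBase.classInner_conj_symm, h0, map_zero]
  obtain ⟨-, r, -, hr⟩ := char_nonneg_mult (indFun_isCharacter H α (isCharacter_of_isIrr hα))
    hθ hβ h2 he h1
  obtain ⟨d, hd⟩ := exists_nat_degree (isCharacter_of_isIrr hθ)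
  have hβ1 : β 1 = ((e * d : ℕ) : ℂ) := by
    have := he 1
    rw [hd] at this
    push_cast
    exact this
  have hα1 : α 1 = ((f * d : ℕ) : ℂ) := by
    have := hf 1
    change α 1 = (f : ℂ) * θ 1 at this
    rw [hd] at this
    push_cast
    exact this
  exact eq_of_degree_le (isCharacter_restrict (isCharacter_of_isIrr hβ) H) hα h hα1 hβ1
    (Nat.mul_le_mul_right d (by omega))

/-- Every character of `H` over the restriction of `θ` extends. -/
theorem bij_exists (hsup : H ⊔ M = ⊤) (hθ : IsIrrCharacter M θ) (hinv : ∀ g : A, cj M g θ = θ)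
    (hθK : IsIrrCharacter (H ⊓ M : Subgroup A) (rInf H M θ)) (hα : IsIrrCharacter H α)
    (hf0 : f ≠ 0) (hf : ∀ z : (H ⊓ M : Subgroup A), α ⟨z, z.2.1⟩ = (f : ℂ) * rInf H M θ z) :
    ∃ β : A → ℂ, IsIrrCharacter A β ∧ (∃ e : ℕ, e ≠ 0 ∧ ∀ m : M, β m = (e : ℂ) * θ m) ∧
      (fun x : H => β x) = α := by
  have h1 := ind_mult hsup hθ hθK hα hf
  have h2 : classInner (indFun H α) (indFun M θ) ≠ 0 := by
    rw [frobenius_reciprocity' M θ _ (indFun_isClassFunction H α), h1]
    exact_mod_cast hf0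
  obtain ⟨β, hβ, hb1, hb2⟩ := exists_common_constituent
    (indFun_isCharacter H α (isCharacter_of_isIrr hα)) h2
  have hβc := isClassFunction_of_isCharacter (isCharacter_of_isIrr hβ)
  rw [frobenius_reciprocity' M θ _ hβc] at hb2
  obtain ⟨e, he0, he⟩ := over_mult hβ hθ hinv hb2
  refine ⟨β, hβ, ⟨e, he0, he⟩, bij_restrict hsup hθ hθK hα hβ he ?_⟩
  intro h0
  apply hb1
  rw [frobenius_reciprocity H α β hβc, ← CharBase.classInner_conj_symm, h0, map_zero]

/-- Restriction of a character over `θ` is irreducible. -/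
theorem bij_irr (hsup : H ⊔ M = ⊤) (hθ : IsIrrCharacter M θ)
    (hθK : IsIrrCharacter (H ⊓ M : Subgroup A) (rInf H M θ))
    {β : A → ℂ} (hβ : IsIrrCharacter A β) {e : ℕ} (he : ∀ m : M, β m = (e : ℂ) * θ m) :
    IsIrrCharacter H (fun x : H => β x) := by
  obtain ⟨α, hα, h⟩ := exists_constituent_restrict H (isCharacter_of_isIrr hβ)
    (irr_one_ne_zero hβ)
  rw [bij_restrict hsup hθ hθK hα hβ he h]
  exact hα

/-- Restriction over `θ` is injective. -/
theorem bij_inj (hsup : H ⊔ M = ⊤) (hθ : IsIrrCharacter M θ)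
    (hθK : IsIrrCharacter (H ⊓ M : Subgroup A) (rInf H M θ))
    {β β' : A → ℂ} (hβ : IsIrrCharacter A β) (hβ' : IsIrrCharacter A β') {e e' : ℕ}
    (he : ∀ m : M, β m = (e : ℂ) * θ m) (he' : ∀ m : M, β' m = (e' : ℂ) * θ m)
    (h : (fun x : H => β x) = (fun x : H => β' x)) : β = β' := by
  classical
  by_contra hne
  haveI : Fintype (H ⊓ M : Subgroup A) := Fintype.ofFinite _
  have hα := bij_irr hsup hθ hθK hβ he
  have hβc := isClassFunction_of_isCharacter (isCharacter_of_isIrr hβ)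
  have hβc' := isClassFunction_of_isCharacter (isCharacter_of_isIrr hβ')
  have h1 := ind_mult (f := e) hsup hθ hθK hα (fun z => he ⟨z, z.2.2⟩)
  have hself := classInner_irr_self (⟨_, hα⟩ : IrrCharacter H)
  have h2 : classInner (indFun H (fun x : H => β x)) β ≠ 0 := by
    rw [frobenius_reciprocity H _ β hβc]
    rw [hself]; exact one_ne_zero
  obtain ⟨hc, r, hr, hre⟩ := char_nonneg_mult (indFun_isCharacter H _ (isCharacter_of_isIrr hα))
    hθ hβ h2 he h1
  have h3 : classInner (indFun H (fun x : H => β x) - β) β' ≠ 0 := by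
    rw [classInner_sub_left, frobenius_reciprocity H _ β' hβc', ← h, hself,
      classInner_irr_of_ne (χ := ⟨β, hβ⟩) (ψ := ⟨β', hβ'⟩) (fun h => hne (congrArg Subtype.val h))]
    simp
  obtain ⟨-, r', -, hre'⟩ := char_nonneg_mult hc hθ hβ' h3 he' hr
  have h4 : (e : ℂ) * θ 1 = (e' : ℂ) * θ 1 := by
    have h5 := congrFun h 1
    change β 1 = β' 1 at h5
    have h6 := he 1
    have h7 := he' 1
    change β 1 = _ at h6
    change β' 1 = _ at h7
    rw [← h6, ← h7, h5]
  have h5 := mul_right_cancel₀ (irr_one_ne_zero hθ) h4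
  have h6 : e = e' := by exact_mod_cast h5
  have h7 := fr_e_pos hβ' he'
  omega

end bij

end Cfsg.Agent.H76

namespace Cfsg.Agent.H76

open scoped ComplexConjugate
open Cfsg Cfsg.Agent.CharBase Cfsg.Agent.Char

section wrap

variable {G : Type*} [Group G] [Fintype G] {H M L : Subgroup G} [Fintype H] [Fintype M]
  [Fintype L] [hMn : M.Normal] {θ : M → ℂ}

/-- transport back from the subgroup of a subgroup -/
theorem irr_of_sub (hHL : H ≤ L) {β : L → ℂ}
    (h : IsIrrCharacter (H.subgroupOf L) (fun x : H.subgroupOf L => β x)) :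
    IsIrrCharacter H (fun x : H => β ⟨x, hHL x.2⟩) :=
  isIrrCharacter_comp_surjective h (Subgroup.subgroupOfEquivOfLe hHL).symm.toMonoidHom
    (Subgroup.subgroupOfEquivOfLe hHL).symm.surjective

theorem wrap_rInf (hHL : H ≤ L) (hML : M ≤ L)
    (hθK : IsIrrCharacter (H ⊓ M : Subgroup G) (rInf H M θ)) :
    IsIrrCharacter ((H.subgroupOf L) ⊓ (M.subgroupOf L) : Subgroup L)
      (rInf (H.subgroupOf L) (M.subgroupOf L) (sc L θ)) := by
  let e : ((H.subgroupOf L) ⊓ (M.subgroupOf L) : Subgroup L) ≃* (H ⊓ M : Subgroup G) :=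
    { toFun := fun s => ⟨((s : L) : G), s.2⟩
      invFun := fun z => ⟨⟨z, hHL z.2.1⟩, z.2⟩
      left_inv := fun s => rfl
      right_inv := fun z => rfl
      map_mul' := fun a b => rfl }
  exact isIrrCharacter_comp_surjective hθK e.toMonoidHom e.surjective

theorem wrap_sup (hHL : H ≤ L) (hML : M ≤ L) (hsup : H ⊔ M = L) :
    (H.subgroupOf L) ⊔ (M.subgroupOf L) = ⊤ := by
  rw [← Subgroup.subgroupOf_sup hHL hML, hsup, Subgroup.subgroupOf_self]

theorem wrap_inv (hinv : ∀ g : G, cj M g θ = θ) (g : L) :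
    cj (M.subgroupOf L) g (sc L θ) = sc L θ := by
  funext x
  exact congrFun (hinv (g : G)) ⟨((x : L) : G), x.2⟩

variable (hHL : H ≤ L) (hML : M ≤ L) (hsup : H ⊔ M = L) (hθ : IsIrrCharacter M θ)
  (hθK : IsIrrCharacter (H ⊓ M : Subgroup G) (rInf H M θ))

include hML hsup hθ hθK in
theorem wrap_irr {β : L → ℂ} (hβ : IsIrrCharacter L β) {e : ℕ}
    (he : ∀ m : M, β ⟨m, hML m.2⟩ = (e : ℂ) * θ m) :
    IsIrrCharacter H (fun x : H => β ⟨x, hHL x.2⟩) := by
  classical
  have : Fintype (H.subgroupOf L) := Fintype.ofFinite _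
  have : Fintype (M.subgroupOf L) := Fintype.ofFinite _
  exact irr_of_sub hHL (bij_irr (wrap_sup hHL hML hsup) (sc_irr hML hθ) (wrap_rInf hHL hML hθK) hβ
    (fun m => he ⟨((m : L) : G), m.2⟩))

include hML hsup hθ hθK in
theorem wrap_inj {β β' : L → ℂ} (hβ : IsIrrCharacter L β) (hβ' : IsIrrCharacter L β') {e e' : ℕ}
    (he : ∀ m : M, β ⟨m, hML m.2⟩ = (e : ℂ) * θ m)
    (he' : ∀ m : M, β' ⟨m, hML m.2⟩ = (e' : ℂ) * θ m)
    (h : ∀ x : H, β ⟨x, hHL x.2⟩ = β' ⟨x, hHL x.2⟩) : β = β' := by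
  classical
  have : Fintype (H.subgroupOf L) := Fintype.ofFinite _
  have : Fintype (M.subgroupOf L) := Fintype.ofFinite _
  refine bij_inj (wrap_sup hHL hML hsup) (sc_irr hML hθ) (wrap_rInf hHL hML hθK) hβ hβ'
    (fun m => he ⟨((m : L) : G), m.2⟩) (fun m => he' ⟨((m : L) : G), m.2⟩) ?_
  funext x
  exact h ⟨((x : L) : G), x.2⟩

include hML hsup hθ hθK in
theorem wrap_exists (hinv : ∀ g : G, cj M g θ = θ) {α : H → ℂ} (hα : IsIrrCharacter H α) {f : ℕ}
    (hf0 : f ≠ 0) (hf : ∀ z : (H ⊓ M : Subgroup G), α ⟨z, z.2.1⟩ = (f : ℂ) * rInf H M θ z) :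
    ∃ β : L → ℂ, IsIrrCharacter L β ∧
      (∃ e : ℕ, e ≠ 0 ∧ ∀ m : M, β ⟨m, hML m.2⟩ = (e : ℂ) * θ m) ∧
      ∀ x : H, β ⟨x, hHL x.2⟩ = α x := by
  classical
  have : Fintype (H.subgroupOf L) := Fintype.ofFinite _
  have : Fintype (M.subgroupOf L) := Fintype.ofFinite _
  obtain ⟨β, hβ, ⟨e, he0, he⟩, h⟩ := bij_exists (wrap_sup hHL hML hsup) (sc_irr hML hθ)
    (wrap_inv hinv) (wrap_rInf hHL hML hθK) (sc_irr hHL hα) hf0 (fun z => by
      exact hf ⟨((z : L) : G), z.2⟩)
  refine ⟨β, hβ, ⟨e, he0, fun m => he ⟨⟨m, hML m.2⟩, m.2⟩⟩, fun x => ?_⟩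
  exact congrFun h ⟨⟨x, hHL x.2⟩, x.2⟩

end wrap

end Cfsg.Agent.H76
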