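import Cfsg.Agent.Char.ExtUnique
import Cfsg.Agent.Char.RepEquiv
import Cfsg.Agent.S0867
import Cfsg.Agent.S0887
import Cfsg.Agent.H76.Bij

/-!
# Determinants of multiples of characters; canonical extensions
-/

set_option autoImplicit false
set_option linter.unusedSectionVars false

namespace Cfsg.Agent.H76

open scoped ComplexConjugate
open Cfsg Cfsg.Agent.CharBase Cfsg.Agent.Char

section pirep

open Module

theorem trace_pi_comp {ι W : Type*} [Fintype ι] [AddCommGroup W] [Module ℂ W]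
    [FiniteDimensional ℂ W] (f : ι → W →ₗ[ℂ] W) :
    LinearMap.trace ℂ (ι → W) (LinearMap.pi (fun i ↦ (f i).comp (LinearMap.proj i))) =
      ∑ i, LinearMap.trace ℂ W (f i) := by
  classical
  let b := Module.Free.chooseBasis ℂ W
  let B := (Pi.basis (fun _ : ι ↦ b)).reindex <|
    (Equiv.sigmaEquivProd _ _).trans (Equiv.prodComm _ _)
  simp_rw [LinearMap.trace_eq_matrix_trace ℂ B, LinearMap.trace_eq_matrix_trace ℂ b]
  have : ((LinearMap.toMatrix B B) (LinearMap.pi fun i ↦ f i ∘ₗ LinearMap.proj i)) =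
      Matrix.blockDiagonal (fun i ↦ LinearMap.toMatrix b b (f i)) := by
    ext ⟨i₁, i₂⟩ ⟨j₁, j₂⟩
    unfold B
    simp_rw [LinearMap.toMatrix_apply', Matrix.blockDiagonal_apply, Basis.coe_reindex,
      Function.comp_apply, Basis.repr_reindex_apply, Equiv.symm_trans_apply, Equiv.prodComm_symm,
      Equiv.prodComm_apply, Equiv.sigmaEquivProd_symm_apply, Prod.swap_prod_mk, Pi.basis_apply,
      Pi.basis_repr, LinearMap.pi_apply, LinearMap.coe_comp, Function.comp_apply,
      LinearMap.toMatrix_apply', LinearMap.coe_proj, Function.eval, Pi.single_apply]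
    split_ifs with h
    · rw [h]
    · simp only [map_zero, Finsupp.coe_zero, Pi.zero_apply]
  rw [this, Matrix.trace_blockDiagonal]

/-- the `e`-fold multiple of a representation -/
noncomputable def piRep {G W : Type*} [Group G] [AddCommGroup W] [Module ℂ W] (e : ℕ)
    (σ : Representation ℂ G W) : Representation ℂ G (Fin e → W) where
  toFun g := LinearMap.pi (fun i => (σ g).comp (LinearMap.proj i))
  map_one' := by ext; simp
  map_mul' a b := by ext; simp

theorem piRep_apply {G W : Type*} [Group G] [AddCommGroup W] [Module ℂ W] (e : ℕ)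
    (σ : Representation ℂ G W) (g : G) :
    piRep e σ g = LinearMap.pi (fun i => (σ g).comp (LinearMap.proj i)) := rfl

theorem piRep_character {G W : Type*} [Group G] [AddCommGroup W] [Module ℂ W]
    [FiniteDimensional ℂ W] (e : ℕ) (σ : Representation ℂ G W) (g : G) :
    (piRep e σ).character g = (e : ℂ) * σ.character g := by
  change LinearMap.trace ℂ _ (piRep e σ g) = _
  rw [piRep_apply, trace_pi_comp]
  simp [Representation.character]

theorem detHom_piRep {G W : Type*} [Group G] [AddCommGroup W] [Module ℂ W]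
    [FiniteDimensional ℂ W] (e : ℕ) (σ : Representation ℂ G W) (g : G) :
    detHom (piRep e σ) g = detHom σ g ^ e := by
  rw [detHom_apply, piRep_apply, LinearMap.det_pi, detHom_apply, Finset.prod_const,
    Finset.card_univ, Fintype.card_fin]

end pirep

section det

variable {G : Type*} [Group G] [Finite G] {N : Subgroup G}

/-- The determinant of a multiple. -/
theorem detChar_of_mult {χ : G → ℂ} (hχ : IsIrrCharacter G χ) {θ : N → ℂ}
    (hθ : IsIrrCharacter N θ) {e : ℕ} (he : ∀ n : N, χ n = (e : ℂ) * θ n) (n : N) :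
    detChar χ n = detChar θ n ^ e := by
  obtain ⟨k, ρ, hρ, rfl⟩ := hχ
  obtain ⟨l, σ, hσ, rfl⟩ := hθ
  rw [detChar_eq ρ ⟨k, ρ, hρ, rfl⟩, detChar_eq σ ⟨l, σ, hσ, rfl⟩]
  have h1 : (resRep N ρ).character = (piRep e σ).character := by
    funext m
    rw [piRep_character]
    exact he m
  obtain ⟨f⟩ := RE.equiv_of_character_eq _ _ h1
  have h2 := congrArg (fun x => x n) (detHom_eq_of_equiv _ _ f)
  rw [detHom_piRep] at h2
  exact h2

theorem detChar_comp {A B : Type*} [Group A] [Group B] [Finite A] [Finite B] (f : A →* B)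
    (hf : Function.Surjective f) {χ : B → ℂ} (hχ : IsIrrCharacter B χ) :
    detChar (fun a => χ (f a)) = fun a => detChar χ (f a) := by
  obtain ⟨d, ρ, hρ, rfl⟩ := hχ
  let σ : Representation ℂ A (Fin d → ℂ) := MonoidHom.comp ρ f
  have h1 : σ.character = fun a => ρ.character (f a) := rfl
  rw [← h1, detChar_eq σ (by
    rw [h1]; exact isIrrCharacter_comp_surjective ⟨d, ρ, hρ, rfl⟩ f hf),
    detChar_eq ρ ⟨d, ρ, hρ, rfl⟩]
  rfl

theorem detOrder_comp {A B : Type*} [Group A] [Group B] [Finite A] [Finite B] (f : A →* B)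
    (hf : Function.Surjective f) {χ : B → ℂ} (hχ : IsIrrCharacter B χ) :
    detOrder (fun a => χ (f a)) = detOrder χ := by
  unfold detOrder
  rw [detChar_comp f hf hχ, orderOf_eq_orderOf_iff]
  intro n
  rw [pow_fun_eq_one_iff, pow_fun_eq_one_iff]
  constructor
  · intro h b
    obtain ⟨a, rfl⟩ := hf b
    exact h a
  · intro h a
    exact h (f a)

theorem detOrder_pos {χ : G → ℂ} (hχ : IsIrrCharacter G χ) : 0 < detOrder χ := by
  obtain ⟨k, ρ, hρ, rfl⟩ := hχ
  unfold detOrder
  rw [orderOf_pos_iff, isOfFinOrder_iff_pow_eq_one]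
  refine ⟨Nat.card G, Nat.card_pos, ?_⟩
  rw [pow_fun_eq_one_iff, detChar_eq ρ ⟨k, ρ, hρ, rfl⟩]
  intro x
  rw [← map_pow, pow_card_eq_one', map_one]

/-- If `p` divides neither the index nor the determinantal order of `θ`, then it does not divide
the determinantal order of a character over `θ`. -/
theorem not_dvd_detOrder [hN : N.Normal] {p : ℕ} (hp : p.Prime) {χ : G → ℂ}
    (hχ : IsIrrCharacter G χ) {θ : N → ℂ}
    (hθ : IsIrrCharacter N θ) {e : ℕ} (he : ∀ n : N, χ n = (e : ℂ) * θ n) (hi : ¬ p ∣ N.index)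
    (ho : ¬ p ∣ detOrder θ) : ¬ p ∣ detOrder χ := by
  intro hdvd
  have h1 : detOrder χ ∣ N.index * detOrder θ := by
    unfold detOrder
    apply orderOf_dvd_of_pow_eq_one
    rw [pow_fun_eq_one_iff]
    intro x
    have h2 : detChar χ x ^ N.index = detChar χ (x ^ N.index) := by
      obtain ⟨k, ρ, hρ, rfl⟩ := hχ
      rw [detChar_eq ρ ⟨k, ρ, hρ, rfl⟩, map_pow]
    have h3 : x ^ N.index ∈ N := Subgroup.pow_index_mem N x
    rw [pow_mul, h2]
    have h4 := detChar_of_mult hχ hθ he ⟨x ^ N.index, h3⟩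
    rw [h4, ← pow_mul, mul_comm, pow_mul]
    have h5 := pow_fun_eq_one_iff.mp (pow_orderOf_eq_one (detChar θ)) ⟨x ^ N.index, h3⟩
    rw [h5, one_pow]
  rcases (Nat.Prime.dvd_mul hp).mp (hdvd.trans h1) with h | h
  · exact hi h
  · exact ho h

end det

section canon

variable {G : Type*} [Group G] [Fintype G] {K M : Subgroup G} [hKn : K.Normal] [hMn : M.Normal]

theorem detOrder_sc {T : Subgroup G} (hKM : K ≤ T) {θ : K → ℂ} (hθ : IsIrrCharacter K θ) :
    detOrder (sc T θ) = detOrder θ :=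
  detOrder_comp (Subgroup.subgroupOfEquivOfLe hKM).toMonoidHom
    (Subgroup.subgroupOfEquivOfLe hKM).surjective hθ

theorem detOrder_cj {θ : M → ℂ} (hθ : IsIrrCharacter M θ) (g : G) :
    detOrder (cj M g θ) = detOrder θ :=
  detOrder_comp (cjEquiv M g).toMonoidHom (cjEquiv M g).surjective hθ

/-- **Canonical extension** over a normal `p`-section. -/
theorem canon_exists {p : ℕ} [hp : Fact p.Prime] (hKM : K ≤ M) {a : ℕ}
    (hidx : K.relIndex M = p ^ a) {θ : K → ℂ} (hθ : IsIrrCharacter K θ)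
    (hinv : ∀ g : G, cj K g θ = θ) {d : ℕ} (hd : θ 1 = d) (hpd : ¬ p ∣ d)
    (ho : ¬ p ∣ detOrder θ) :
    ∃ θh : M → ℂ, IsIrrCharacter M θh ∧ (∀ k : K, θh ⟨k, hKM k.2⟩ = θ k) ∧
      detOrder θh = detOrder θ ∧ ∀ g : G, cj M g θh = θh := by
  have hcop : ∀ o, ¬ p ∣ o → Nat.Coprime (p ^ a) o := fun o ho' =>
    Nat.Coprime.pow_left _ ((Nat.Prime.coprime_iff_not_dvd hp.out).mpr ho')
  have hidx' : (K.subgroupOf M).index = p ^ a := hidx
  obtain ⟨χ, ⟨hχ, hχN, hχd⟩, hχu⟩ := S0867.result (G := M) (K.subgroupOf M) (sc M θ)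
    (sc_irr hKM hθ) (fun g n => congrFun (hinv (g : G)) ⟨((n : M) : G), n.2⟩) d hd (by
      rw [hidx', detOrder_sc hKM hθ]
      apply hcop
      intro h
      rcases (Nat.Prime.dvd_mul hp.out).mp h with h | h
      · exact ho h
      · exact hpd h)
  rw [detOrder_sc hKM hθ] at hχd
  refine ⟨χ, hχ, fun k => hχN ⟨⟨k, hKM k.2⟩, k.2⟩, hχd, fun g => ?_⟩
  apply hχu
  · exact isIrrCharacter_cj M g hχ
  · intro n
    have h1 := hχN ⟨⟨g * ((n : M) : G) * g⁻¹, hMn.conj_mem _ (n : M).2 g⟩,
      hKn.conj_mem _ n.2 g⟩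
    have h2 := congrFun (hinv g) ⟨((n : M) : G), n.2⟩
    exact h1.trans h2
  · rw [hidx', detOrder_cj hχ, hχd]
    exact hcop _ ho

end canon

end Cfsg.Agent.H76
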