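import Mathlib.Analysis.Complex.Basic
import Mathlib.GroupTheory.QuotientGroup.Basic
import Mathlib.GroupTheory.Coset.Card

/-!
# Sums over a group and its quotient
-/

set_option autoImplicit false

namespace Cfsg.Agent.H76

/-- Sum of a function of the coset. -/
theorem sum_mk_quotient {G : Type*} [Group G] [Fintype G] (N : Subgroup G) [Fintype (G ⧸ N)]
    (F : G ⧸ N → ℂ) : ∑ s : G, F (s : G ⧸ N) = (Nat.card N : ℂ) * ∑ q : G ⧸ N, F q := by
  classical
  have := Fintype.ofFinite N
  let e : (G ⧸ N) × N → G := fun p => p.1.out * p.2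
  have he1 : ∀ p, ((e p : G) : G ⧸ N) = p.1 := by
    intro p
    have : ((e p : G) : G ⧸ N) = (p.1.out : G ⧸ N) := by
      rw [QuotientGroup.eq]
      simp [e]
    rw [this, QuotientGroup.out_eq']
  have he : Function.Bijective e := by
    constructor
    · intro p p' h
      have h1 : p.1 = p'.1 := by rw [← he1 p, h, he1 p']
      obtain ⟨q, n⟩ := p
      obtain ⟨q', n'⟩ := p'
      simp only at h1
      subst h1
      have h2 : q.out * (n : G) = q.out * n' := h
      rw [mul_right_inj] at h2
      rw [Subtype.ext h2]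
    · intro g
      refine ⟨((g : G ⧸ N), ⟨(g : G ⧸ N).out⁻¹ * g, ?_⟩), ?_⟩
      · rw [← QuotientGroup.eq, QuotientGroup.out_eq']
      · simp [e]
  rw [← he.sum_comp, Fintype.sum_prod_type]
  simp only [he1]
  rw [Finset.mul_sum]
  refine Finset.sum_congr rfl fun q _ => ?_
  rw [Finset.sum_const, Finset.card_univ, nsmul_eq_mul, Nat.card_eq_fintype_card]

end Cfsg.Agent.H76
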