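import Cfsg.Agent.H76.QuotBlk
import Cfsg.Agent.H75.Inflate

/-!
# Blocks of quotient groups (characters)
-/

set_option autoImplicit false
set_option linter.unusedSectionVars false

namespace Cfsg.Agent.H76

open Cfsg Cfsg.Agent.CharBase Cfsg.Agent.Blk MonoidAlgebra

section

variable {G : Type*} [Group G] [Fintype G] {M : Ideal AlgInt} [M.IsPrime] (N : Subgroup G)
  [N.Normal] [Fintype (G ⧸ N)]

/-- The pushforward of a function. -/
noncomputable def push (F : G → ℂ) (q : G ⧸ N) : ℂ := by
  classical exact ∑ g : G, if (g : G ⧸ N) = q then F g else 0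

theorem push_cf {F : G → ℂ} (hF : IsClassFunction G F) : IsClassFunction (G ⧸ N) (push N F) := by
  classical
  intro q r
  unfold push
  induction r using QuotientGroup.induction_on with
  | H u =>
    refine Fintype.sum_equiv (MulAut.conj u⁻¹).toEquiv _ _ fun h => ?_
    have h1 : ((MulAut.conj u⁻¹).toEquiv h) = u⁻¹ * h * u := by simp
    rw [h1]
    have h2 : F (u⁻¹ * h * u) = F h := by
      have := hF h u⁻¹
      rw [inv_inv] at this
      exact this
    have h3 : ((h : G ⧸ N) = (u : G ⧸ N) * q * (u : G ⧸ N)⁻¹) ↔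
        (((u⁻¹ * h * u : G) : G ⧸ N) = q) := by
      rw [QuotientGroup.mk_mul, QuotientGroup.mk_mul, QuotientGroup.mk_inv]
      constructor
      · intro e; rw [e]; group
      · intro e; rw [← e]; group
    rw [h2]
    simp only [h3]

theorem redc_push {F : G → ℂ} (hR : RV M F) : redc M (push N F) = pq N (redc M F) := by
  classical
  apply ga_ext; intro q
  rw [pq_coeff, redc_coeff]
  unfold push
  rw [rd_sum]
  · refine Finset.sum_congr rfl fun g _ => ?_
    split_ifs
    · rfl
    · exact rd_zero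
  · intro g _
    split_ifs
    · exact hR g
    · exact mlr_zero

theorem rv_push {F : G → ℂ} (hR : RV M F) : RV M (push N F) := by
  classical
  intro q
  unfold push
  refine mlr_sum _ _ fun g _ => ?_
  split_ifs
  · exact hR g
  · exact mlr_zero

theorem omega_push (χ : G ⧸ N → ℂ) (F : G → ℂ) :
    omega χ (push N F) = omega (χ ∘ (QuotientGroup.mk : G → G ⧸ N)) F := by
  classical
  unfold omega push
  congr 1
  simp_rw [Finset.sum_mul]
  rw [Finset.sum_comm]
  refine Finset.sum_congr rfl fun g _ => ?_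
  rw [Finset.sum_eq_single (g : G ⧸ N)]
  · rw [if_pos rfl]; rfl
  · intro q _ hne
    rw [if_neg hne.symm, zero_mul]
  · intro h; exact absurd (Finset.mem_univ _) h

theorem lam_pq {χ' : IrrCharacter (G ⧸ N)} {χ : IrrCharacter G}
    (h : (χ : G → ℂ) = (χ' : G ⧸ N → ℂ) ∘ QuotientGroup.mk) {z : MonoidAlgebra (kM M) G}
    (hz : Fixed ⊤ z) : lam χ' (pq N z) = lam χ z := by
  have h1 : pq N z = redc M (push N (lft z)) := by
    rw [redc_push N (rv_lft z), redc_lft]
  rw [h1, lam_redc χ' (push_cf N (cf_lft hz)) (rv_push N (rv_lft z)), omega_push, ← h]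
  rfl

/-- The inflation of an irreducible character. -/
noncomputable def infl (χ : IrrCharacter (G ⧸ N)) : IrrCharacter G :=
  ⟨(χ : G ⧸ N → ℂ) ∘ QuotientGroup.mk, H75.isIrrCharacter_inflate N χ.2⟩

theorem infl_coe (χ : IrrCharacter (G ⧸ N)) :
    (infl N χ : G → ℂ) = (χ : G ⧸ N → ℂ) ∘ QuotientGroup.mk := rfl

theorem fixed_top_pq {z : MonoidAlgebra (kM M) G} (hz : Fixed ⊤ z) : Fixed ⊤ (pq N z) := by
  have h := Fixed.pq N hz
  rwa [Subgroup.map_top_of_surjective _ (QuotientGroup.mk'_surjective N)] at h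

/-- If `B` contains the inflation of a member of `B̄` then `f̄` is fixed by the projection
of `f`. -/
theorem pq_eB_mul_eB {B : Set (IrrCharacter G)} (hB : IsPBlock M B)
    {B' : Set (IrrCharacter (G ⧸ N))} (hB' : IsPBlock M B') {χ : IrrCharacter (G ⧸ N)}
    (hχ : χ ∈ B') (hi : infl N χ ∈ B) : pq N (eB M B) * eB M B' = eB M B' := by
  rw [mul_eB_eq_iff hB' hχ (fixed_top_pq N (fixed_eB B))
    (by rw [← pq_mul, eB_idem hB]), lam_pq N (infl_coe N χ) (fixed_eB B), lam_eB hB, if_pos hi]

theorem mem_of_pq_eB_mul_eB {B : Set (IrrCharacter G)} (hB : IsPBlock M B)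
    {B' : Set (IrrCharacter (G ⧸ N))} (hB' : IsPBlock M B')
    (h : pq N (eB M B) * eB M B' = eB M B') {χ : IrrCharacter (G ⧸ N)}
    (hχ : χ ∈ B') : infl N χ ∈ B := by
  classical
  rw [mul_eB_eq_iff hB' hχ (fixed_top_pq N (fixed_eB B))
    (by rw [← pq_mul, eB_idem hB]), lam_pq N (infl_coe N χ) (fixed_eB B), lam_eB hB] at h
  by_contra hcon
  rw [if_neg hcon] at h
  exact zero_ne_one h

theorem map_mk'_conj (P : Subgroup G) (u : G) :
    (P.map (MulAut.conj u).toMonoidHom).map (QuotientGroup.mk' N) =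
      (P.map (QuotientGroup.mk' N)).map (MulAut.conj (QuotientGroup.mk' N u)).toMonoidHom := by
  rw [Subgroup.map_map, Subgroup.map_map]
  congr 1

end

end Cfsg.Agent.H76
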