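import Cfsg.Agent.H76.Twg1

/-!
# Reductions: passing to an intermediate normal subgroup
-/

set_option autoImplicit false
set_option linter.unusedSectionVars false
set_option linter.unusedFintypeInType false

namespace Cfsg.Agent.H76.Twc

open scoped ComplexConjugate Pointwise
open Cfsg Cfsg.Agent.CharBase Cfsg.Agent.Char

universe u v w x

section Stages

variable {X : Type u} [Group X] [Finite X] {K : Type v} [Group K] [Fintype K] {j : K →* X}
  {L : Type w} [Group L] [Fintype L]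

theorem mult_sum (i : L →* K) {χ : X → ℂ} (hχ : IsCharacter X χ) {ν : L → ℂ}
    (hν : IsIrrCharacter L ν) [Fintype (IrrCharacter K)] :
    ∃ k l : IrrCharacter K → ℕ, (∀ η : IrrCharacter K, classInner (fun x => χ (j x)) η = k η) ∧
      (∀ η : IrrCharacter K, classInner (fun x => (η : K → ℂ) (i x)) ν = l η) ∧
      classInner (fun x => χ (j (i x))) ν = ((∑ η, k η * l η : ℕ) : ℂ) := by
  classical
  have := Fintype.ofFinite X
  obtain ⟨k, hk, hsum⟩ := exists_mult_of_isCharacter (isCharacter_comp hχ j)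
  choose l hl using fun η : IrrCharacter K => classInner_natCast
    (isCharacter_comp (irr_isCharacter η) i) (isCharacter_of_isIrr hν)
  refine ⟨k, l, hk, hl, ?_⟩
  have h1 : (fun x => χ (j (i x))) = ∑ η : IrrCharacter K, (k η : ℂ) • ((η : K → ℂ) ∘ i) := by
    funext c
    have h2 := congrFun hsum (i c)
    rw [Finset.sum_apply] at h2 ⊢
    change (χ ∘ j) (i c) = _
    rw [h2]
    refine Finset.sum_congr rfl fun ξ _ => ?_
    simp
  rw [h1, classInner_sum_left]
  push_cast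
  refine Finset.sum_congr rfl fun ξ _ => ?_
  rw [classInner_smul_left, hl]

theorem under_trans (i : L →* K) {χ : X → ℂ} (hχ : IsCharacter X χ) {η : K → ℂ}
    (hη : IsIrrCharacter K η) {ν : L → ℂ}
    (hν : IsIrrCharacter L ν) (h1 : classInner (fun x => χ (j x)) η ≠ 0)
    (h2 : classInner (fun x => η (i x)) ν ≠ 0) : classInner (fun x => χ (j (i x))) ν ≠ 0 := by
  classical
  have : Fintype (IrrCharacter K) := Fintype.ofFinite _
  obtain ⟨k, l, hk, hl, hs⟩ := mult_sum (j := j) i hχ hν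
  rw [hs]
  intro h0
  have h3 : ∑ η, k η * l η = 0 := by exact_mod_cast h0
  have h4 := (Finset.sum_eq_zero_iff.mp h3) ⟨η, hη⟩ (Finset.mem_univ _)
  rcases Nat.mul_eq_zero.mp h4 with h5 | h5
  · apply h1
    have := hk ⟨η, hη⟩
    rw [h5] at this
    simpa using this
  · apply h2
    have := hl ⟨η, hη⟩
    rw [h5] at this
    simpa using this

theorem exists_between (i : L →* K) {χ : X → ℂ} (hχ : IsCharacter X χ) {ν : L → ℂ}
    (hν : IsIrrCharacter L ν) (h : classInner (fun x => χ (j (i x))) ν ≠ 0) :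
    ∃ η : K → ℂ, IsIrrCharacter K η ∧ classInner (fun x => χ (j x)) η ≠ 0 ∧
      classInner (fun x => η (i x)) ν ≠ 0 := by
  classical
  have : Fintype (IrrCharacter K) := Fintype.ofFinite _
  obtain ⟨k, l, hk, hl, hs⟩ := mult_sum (j := j) i hχ hν
  rw [hs] at h
  have h3 : ∑ η, k η * l η ≠ 0 := by
    intro h0
    rw [h0] at h
    exact h Nat.cast_zero
  obtain ⟨η, -, hη⟩ := Finset.exists_ne_zero_of_sum_ne_zero h3
  refine ⟨η, η.2, ?_, ?_⟩
  · rw [hk]
    intro h0
    have : k η = 0 := by exact_mod_cast h0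
    exact hη (by rw [this, zero_mul])
  · rw [hl]
    intro h0
    have : l η = 0 := by exact_mod_cast h0
    exact hη (by rw [this, mul_zero])

end Stages

section Sylow

variable {X : Type u} [Group X] [Finite X] {p : ℕ}

theorem exists_conj_le (hp : p.Prime) {S T : Subgroup X} (hS : IsPGroup p S)
    (hSi : ¬ p ∣ S.index) (hTi : ¬ p ∣ T.index) : ∃ g : X, ∀ s ∈ S, g * s * g⁻¹ ∈ T := by
  have := Fact.mk hp
  let P : Sylow p T := default
  let Q : Subgroup X := (P : Subgroup T).map T.subtype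
  have hQ : IsPGroup p Q := P.2.map T.subtype
  have hQi : ¬ p ∣ Q.index := by
    have h1 : Q.index = (P : Subgroup T).index * T.index := by
      have h2 := Subgroup.index_map_subtype (P : Subgroup T)
      exact h2
    rw [h1]
    intro hd
    rcases hp.dvd_mul.mp hd with h | h
    · exact P.not_dvd_index h
    · exact hTi h
  obtain ⟨g, hg⟩ := MulAction.exists_smul_eq X (hS.toSylow hSi) (hQ.toSylow hQi)
  refine ⟨g, fun s hs => ?_⟩
  have h1 : g * s * g⁻¹ ∈ ((g • (hS.toSylow hSi) : Sylow p X) : Subgroup X) := by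
    rw [Sylow.coe_subgroup_smul, Subgroup.mem_smul_pointwise_iff_exists]
    exact ⟨s, hs, rfl⟩
  rw [hg] at h1
  obtain ⟨t, -, ht⟩ := h1
  rw [← ht]
  exact t.2

theorem exists_mem_normalizer (hp : p.Prime) {S T : Subgroup X} (hS : IsPGroup p S)
    (hSi : ¬ p ∣ S.index) (hST : S ≤ T) {g : X} (hg : ∀ s ∈ S, g * s * g⁻¹ ∈ T) :
    ∃ y ∈ T, y⁻¹ * g ∈ NS S := by
  have := Fact.mk hp
  let S' : Subgroup X := S.map (MulAut.conj g).toMonoidHom
  have hS' : IsPGroup p S' := hS.map _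
  have hcard : Nat.card S' = Nat.card S :=
    Nat.card_congr (S.equivMapOfInjective _ (MulAut.conj g).injective).toEquiv.symm
  have hS'i : S'.index = S.index := by
    have h1 := S'.card_mul_index
    rw [← S.card_mul_index, hcard] at h1
    exact Nat.eq_of_mul_eq_mul_left Nat.card_pos h1
  have hS'T : S' ≤ T := by
    rintro _ ⟨s, hs, rfl⟩
    exact hg s hs
  have i1 : ¬ p ∣ (S.subgroupOf T).index := fun hd =>
    hSi (hd.trans (Subgroup.relIndex_dvd_index_of_le hST))
  have i2 : ¬ p ∣ (S'.subgroupOf T).index := fun hd =>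
    hSi (hS'i ▸ hd.trans (Subgroup.relIndex_dvd_index_of_le hS'T))
  have p1 : IsPGroup p (S.subgroupOf T) := hS.comap_of_injective _ T.subtype_injective
  have p2 : IsPGroup p (S'.subgroupOf T) := hS'.comap_of_injective _ T.subtype_injective
  obtain ⟨y, hy⟩ := MulAction.exists_smul_eq T (p1.toSylow i1) (p2.toSylow i2)
  have key : ∀ s ∈ S, (y : X) * s * (y : X)⁻¹ ∈ S' := by
    intro s hs
    have h1 : y * ⟨s, hST hs⟩ * y⁻¹ ∈ ((y • (p1.toSylow i1) : Sylow p T) : Subgroup T) := by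
      rw [Sylow.coe_subgroup_smul, Subgroup.mem_smul_pointwise_iff_exists]
      exact ⟨⟨s, hST hs⟩, hs, rfl⟩
    rw [hy] at h1
    exact h1
  refine ⟨y, y.2, ?_⟩
  -- `(y⁻¹ g)⁻¹ S (y⁻¹ g) ≤ S`
  have h2 : ∀ s ∈ S, (g⁻¹ * y) * s * (g⁻¹ * y)⁻¹ ∈ S := by
    intro s hs
    obtain ⟨s', hs', h3⟩ := key s hs
    have h4 : g * s' * g⁻¹ = (y : X) * s * (y : X)⁻¹ := h3
    have h5 : (g⁻¹ * y) * s * (g⁻¹ * y)⁻¹ = g⁻¹ * ((y : X) * s * (y : X)⁻¹) * g := by group
    rw [h5, ← h4]
    have h6 : g⁻¹ * (g * s' * g⁻¹) * g = s' := by group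
    rw [h6]
    exact hs'
  have h3 : g⁻¹ * (y : X) ∈ NS S := by
    have h4 : S.map (MulAut.conj (g⁻¹ * (y : X))).toMonoidHom ≤ S := by
      rintro _ ⟨s, hs, rfl⟩
      exact h2 s hs
    have h5 : S.map (MulAut.conj (g⁻¹ * (y : X))).toMonoidHom = S := by
      refine Subgroup.eq_of_le_of_card_ge h4 ?_
      rw [Nat.card_congr (S.equivMapOfInjective _
        (MulAut.conj (g⁻¹ * (y : X))).injective).toEquiv.symm]
    rw [Subgroup.mem_normalizer_iff]
    intro s
    constructor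
    · exact h2 s
    · intro hs
      rw [← h5] at hs
      obtain ⟨s', hs', h6⟩ := hs
      have h7 : (g⁻¹ * (y : X)) * s' * (g⁻¹ * (y : X))⁻¹ =
        (g⁻¹ * (y : X)) * s * (g⁻¹ * (y : X))⁻¹ := h6
      have h8 : s' = s := by
        have h9 := mul_right_cancel h7
        exact mul_left_cancel h9
      rw [← h8]
      exact hs'
  have h4 := (NS S).inv_mem h3
  rwa [mul_inv_rev, inv_inv] at h4

variable {K : Type v} [Group K] [Fintype K] {j : K →* X}

/-- A character of p'-degree lies over an `S`-invariant one. -/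
theorem exists_fixed_under (hp : p.Prime) (hj : Function.Injective j) (hnz : ∀ x : X, Nz j x)
    {S : Subgroup X} (hS : IsPGroup p S) (hSi : ¬ p ∣ S.index) {χ : X → ℂ}
    (hχ : IsIrrCharacter X χ) (hd : ¬ p ∣ charDegree χ) {a : K → ℂ} (ha : IsIrrCharacter K a)
    (h : classInner (fun k => χ (j k)) a ≠ 0) :
    ∃ (g : X) (b : K → ℂ), IsIrrCharacter K b ∧ CJ j g a b ∧ ∀ s ∈ S, Fx j b s := by
  obtain ⟨T, hT⟩ := exists_inertia hj hnz a
  have hTi : ¬ p ∣ T.index := fun h1 => hd (h1.trans (index_dvd_degree hj hnz ha hT hχ h))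
  obtain ⟨g, hg⟩ := exists_conj_le hp hS hSi hTi
  obtain ⟨b, hb, hab⟩ := exists_CJ hj hnz ha g
  exact ⟨g, b, hb, hab, fun s hs => hab.fx hnz ((hT _).mp (hg s hs))⟩

/-- uniqueness up to the normaliser -/
theorem exists_normalizer_CJ (hp : p.Prime) (hj : Function.Injective j) (hnz : ∀ x : X, Nz j x)
    {S : Subgroup X} (hS : IsPGroup p S) (hSi : ¬ p ∣ S.index) {χ : X → ℂ}
    (hχ : IsIrrCharacter X χ) {a b : K → ℂ} (ha : IsIrrCharacter K a)
    (hb : IsIrrCharacter K b) (haS : ∀ s ∈ S, Fx j a s) (hbS : ∀ s ∈ S, Fx j b s)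
    (h1 : classInner (fun k => χ (j k)) a ≠ 0) (h2 : classInner (fun k => χ (j k)) b ≠ 0) :
    ∃ n ∈ NS S, CJ j n a b := by
  obtain ⟨g, hg⟩ := exists_CJ_of_under hj hnz hχ ha hb h1 h2
  obtain ⟨T, hT⟩ := exists_inertia hj hnz a
  obtain ⟨y, hy, hn⟩ := exists_mem_normalizer hp hS hSi (T := T)
    (fun s hs => (hT s).mpr (haS s hs)) (g := g) (fun s hs => by
      rw [hT]
      refine hg.inv.fx hnz ?_
      have h3 : g⁻¹ * (g * s * g⁻¹) * g⁻¹⁻¹ = s := by group
      rw [h3]
      exact hbS s hs)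
  exact ⟨_, hn, CJ.mul (hnz g) (CJ.self ((hT _).mp (T.inv_mem hy))) hg⟩

end Sylow

end Cfsg.Agent.H76.Twc
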