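import Cfsg.Agent.H76.Twg3

/-!
# Reductions: group theory for the central case
-/

set_option autoImplicit false
set_option linter.unusedSectionVars false
set_option linter.unusedFintypeInType false

namespace Cfsg.Agent.H76.Twc

open scoped Pointwise

universe u v w x

variable {Q : Type u} [Group Q] [Finite Q] {p : ℕ}

theorem normal_of_central {D : Type*} [Group D] {Z : Subgroup D} (h : Z ≤ Subgroup.center D) :
    Z.Normal :=
  ⟨fun z hz g => by rw [Subgroup.mem_center_iff.mp (h hz) g, mul_inv_cancel_right]; exact hz⟩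

theorem mem_NS_iff {P : Subgroup Q} {n : Q} : n ∈ NS P ↔ ∀ x ∈ P, n * x * n⁻¹ ∈ P := by
  constructor
  · intro h x hx
    exact (Subgroup.mem_normalizer_iff.mp h x).mp hx
  · intro h
    have h4 : P.map (MulAut.conj n).toMonoidHom ≤ P := by
      rintro _ ⟨s, hs, rfl⟩
      exact h s hs
    have h5 : P.map (MulAut.conj n).toMonoidHom = P := by
      refine Subgroup.eq_of_le_of_card_ge h4 ?_
      rw [Nat.card_congr (P.equivMapOfInjective _ (MulAut.conj n).injective).toEquiv.symm]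
    rw [Subgroup.mem_normalizer_iff]
    intro s
    constructor
    · exact h s
    · intro hs
      rw [← h5] at hs
      obtain ⟨s', hs', h6⟩ := hs
      have h7 : n * s' * n⁻¹ = n * s * n⁻¹ := h6
      rw [← mul_left_cancel (mul_right_cancel h7)]
      exact hs'

/-- p'-elements lie in normal subgroups of p-power index. -/
theorem mem_of_index_ppow (hp : p.Prime) (N : Subgroup Q) [N.Normal] {a : ℕ}
    (hi : N.index = p ^ a) {x : Q} (hx : ¬ p ∣ orderOf x) : x ∈ N := by
  rw [← QuotientGroup.eq_one_iff]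
  have h1 : orderOf (x : Q ⧸ N) ∣ p ^ a := by
    rw [← hi, Subgroup.index_eq_card]
    exact orderOf_dvd_natCard _
  have h2 : orderOf (x : Q ⧸ N) ∣ orderOf x := orderOf_map_dvd (QuotientGroup.mk' N) x
  obtain ⟨r, -, hr⟩ := (Nat.dvd_prime_pow hp).mp h1
  rcases Nat.eq_zero_or_pos r with h | h
  · rw [h, pow_zero] at hr
    exact orderOf_eq_one_iff.mp hr
  · exfalso
    apply hx
    exact (hr ▸ dvd_pow_self p (by omega)).trans h2

/-- p-elements lie in normal subgroups of p'-index. -/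
theorem mem_of_index_not_dvd (hp : p.Prime) (N : Subgroup Q) [N.Normal]
    (hi : ¬ p ∣ N.index) {x : Q} {k : ℕ} (hx : x ^ p ^ k = 1) : x ∈ N := by
  rw [← QuotientGroup.eq_one_iff]
  have h1 : orderOf (x : Q ⧸ N) ∣ N.index := by
    rw [Subgroup.index_eq_card]
    exact orderOf_dvd_natCard _
  have h2 : orderOf (x : Q ⧸ N) ∣ p ^ k :=
    (orderOf_map_dvd (QuotientGroup.mk' N) x).trans (orderOf_dvd_of_pow_eq_one hx)
  obtain ⟨r, -, hr⟩ := (Nat.dvd_prime_pow hp).mp h2
  rcases Nat.eq_zero_or_pos r with h | h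
  · rw [h, pow_zero] at hr
    exact orderOf_eq_one_iff.mp hr
  · exfalso
    apply hi
    exact (hr ▸ dvd_pow_self p (by omega)).trans h1

/-- decomposition into p-part and p'-part -/
theorem exists_zpow_decomp (hp : p.Prime) (z : Q) :
    ∃ a b : ℤ, z = z ^ a * z ^ b ∧ (∃ k, (z ^ a) ^ p ^ k = 1) ∧ ¬ p ∣ orderOf (z ^ b) := by
  obtain ⟨k, n, hn, hkn⟩ : ∃ k n, ¬ p ∣ n ∧ orderOf z = p ^ k * n := by
    obtain ⟨k, n, hn, hkn⟩ := Nat.exists_eq_pow_mul_and_not_dvd (orderOf_pos z).ne' p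
      hp.ne_one
    exact ⟨k, n, hn, hkn⟩
  have hcop : Nat.Coprime (p ^ k) n :=
    Nat.Coprime.pow_left k ((Nat.Prime.coprime_iff_not_dvd hp).mpr hn)
  have hbez := Nat.gcd_eq_gcd_ab (p ^ k) n
  rw [hcop.gcd_eq_one] at hbez
  refine ⟨n * Nat.gcdB (p ^ k) n, (p ^ k : ℕ) * Nat.gcdA (p ^ k) n, ?_, ⟨k, ?_⟩, ?_⟩
  · rw [← zpow_add, add_comm, ← hbez]
    simp
  · rw [← zpow_natCast, ← zpow_mul]
    have h1 : ((n : ℤ) * Nat.gcdB (p ^ k) n * ((p ^ k : ℕ) : ℤ)) =
      (orderOf z : ℤ) * Nat.gcdB (p ^ k) n := by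
      rw [hkn]
      push_cast
      ring
    rw [h1, zpow_mul, zpow_natCast, pow_orderOf_eq_one, one_zpow]
  · intro hd
    apply hn
    refine hd.trans ?_
    apply orderOf_dvd_of_pow_eq_one
    rw [← zpow_natCast, ← zpow_mul]
    have h1 : (((p ^ k : ℕ) : ℤ) * Nat.gcdA (p ^ k) n * (n : ℤ)) =
      (orderOf z : ℤ) * Nat.gcdA (p ^ k) n := by
      rw [hkn]
      push_cast
      ring
    rw [h1, zpow_mul, zpow_natCast, pow_orderOf_eq_one, one_zpow]

/-- A normal subgroup which is a p'-group modulo a central subgroup has a normal p-complement. -/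
theorem exists_npc (hp : p.Prime) (K Z : Subgroup Q) [hK : K.Normal] (hZK : Z ≤ K)
    (hZc : Z ≤ Subgroup.center Q) (hi : ¬ p ∣ Z.relIndex K) :
    ∃ K0 : Subgroup Q, K0.Normal ∧ K0 ≤ K ∧ ¬ p ∣ Nat.card K0 ∧
      ∀ x ∈ K, ¬ p ∣ orderOf x → x ∈ K0 := by
  have := Fact.mk hp
  have hZc' : Z.subgroupOf K ≤ Subgroup.center K := by
    intro z hz
    rw [Subgroup.mem_center_iff]
    intro g
    exact Subtype.ext (Subgroup.mem_center_iff.mp (hZc hz) g)
  have hZn : (Z.subgroupOf K).Normal := normal_of_central hZc'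
  let P : Sylow p K := default
  have hPZ : (P : Subgroup K) ≤ Z.subgroupOf K := by
    intro x hx
    obtain ⟨k, hk⟩ := P.2 ⟨x, hx⟩
    exact mem_of_index_not_dvd hp (Z.subgroupOf K) hi (k := k) (congrArg Subtype.val hk)
  have hcent : Subgroup.centralizer (P : Set K) = ⊤ := by
    rw [Subgroup.centralizer_eq_top_iff_subset]
    exact fun x hx => hZc' (hPZ hx)
  have hle : Subgroup.normalizer (P : Set K) ≤ Subgroup.centralizer (P : Set K) := by
    rw [hcent]; exact le_top
  have hcompl := MonoidHom.ker_transferSylow_isComplement' P hle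
  have hnd := MonoidHom.not_dvd_card_ker_transferSylow P hle
  set N0 := (MonoidHom.transferSylow P hle).ker with hN0
  have hN0i : ∃ a, N0.index = p ^ a := by
    obtain ⟨a, ha⟩ := IsPGroup.iff_card.mp P.2
    exact ⟨a, by rw [hcompl.symm.index_eq_card]; exact ha⟩
  obtain ⟨a, ha⟩ := hN0i
  have key : ∀ x : K, x ∈ N0 ↔ ¬ p ∣ orderOf x := by
    intro x
    constructor
    · intro hx hd
      exact hnd (hd.trans (Subgroup.orderOf_dvd_natCard N0 hx))
    · intro hx
      exact mem_of_index_ppow hp N0 ha hx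
  refine ⟨N0.map K.subtype, ⟨?_⟩, ?_, ?_, ?_⟩
  · rintro _ ⟨x, hx, rfl⟩ g
    have h1 : g * (x : Q) * g⁻¹ ∈ K := hK.conj_mem x x.2 g
    refine ⟨⟨_, h1⟩, ?_, rfl⟩
    change _ ∈ N0
    rw [key]
    have h2 := (key x).mp hx
    rw [← Subgroup.orderOf_coe] at h2 ⊢
    have h3 : orderOf (g * (x : Q) * g⁻¹) = orderOf (x : Q) := by
      have := orderOf_injective (MulAut.conj g).toMonoidHom (MulAut.conj g).injective (x : Q)
      exact this
    rw [h3]
    exact h2
  · rintro _ ⟨x, -, rfl⟩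
    exact x.2
  · rw [Subgroup.card_map_of_injective K.subtype_injective]
    exact hnd
  · intro x hx hxo
    refine ⟨⟨x, hx⟩, ?_, rfl⟩
    change _ ∈ N0
    rw [key, ← Subgroup.orderOf_coe]
    exact hxo

/-- The Sylow subgroup of a central extension of a p-group. -/
theorem sylow_part (hp : p.Prime) (P Z : Subgroup Q) (hZP : Z ≤ P)
    (hZc : Z ≤ Subgroup.center Q) (hrel : ∃ a, Z.relIndex P = p ^ a) (hPi : ¬ p ∣ P.index) :
    ∃ S : Subgroup Q, IsPGroup p S ∧ ¬ p ∣ S.index ∧ S ≤ P ∧ P = Z ⊔ S ∧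
      (∀ x ∈ P, ∀ k, x ^ p ^ k = 1 → x ∈ S) ∧ NS S = NS P := by
  have := Fact.mk hp
  obtain ⟨a, ha⟩ := hrel
  have hZc' : Z.subgroupOf P ≤ Subgroup.center P := by
    intro z hz
    rw [Subgroup.mem_center_iff]
    intro g
    exact Subtype.ext (Subgroup.mem_center_iff.mp (hZc hz) g)
  let R : Sylow p P := default
  have htop : Z.subgroupOf P ⊔ (R : Subgroup P) = ⊤ := by
    rw [← Subgroup.index_eq_one]
    have h1 : (Z.subgroupOf P ⊔ (R : Subgroup P)).index ∣ p ^ a :=
      ha ▸ Subgroup.index_dvd_of_le le_sup_left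
    have h2 : (Z.subgroupOf P ⊔ (R : Subgroup P)).index ∣ (R : Subgroup P).index :=
      Subgroup.index_dvd_of_le le_sup_right
    obtain ⟨r, -, hr⟩ := (Nat.dvd_prime_pow hp).mp h1
    rcases Nat.eq_zero_or_pos r with h | h
    · rw [hr, h, pow_zero]
    · exfalso
      apply R.not_dvd_index
      exact (hr ▸ dvd_pow_self p (by omega)).trans h2
  have hRn : (R : Subgroup P).Normal := by
    rw [← Subgroup.normalizer_eq_top_iff, eq_top_iff, ← htop]
    apply sup_le
    · intro z hz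
      rw [Subgroup.mem_normalizer_iff]
      intro g
      rw [← Subgroup.mem_center_iff.mp (hZc' hz) g, mul_inv_cancel_right]
    · exact Subgroup.le_normalizer
  have key : ∀ x ∈ P, ∀ k, x ^ p ^ k = 1 → x ∈ (R : Subgroup P).map P.subtype := by
    intro x hx k hk
    exact ⟨⟨x, hx⟩, mem_of_index_not_dvd hp (R : Subgroup P) R.not_dvd_index (k := k)
      (Subtype.ext hk), rfl⟩
  have hSP : (R : Subgroup P).map P.subtype ≤ P := by
    rintro _ ⟨x, -, rfl⟩
    exact x.2
  have hSp : IsPGroup p ((R : Subgroup P).map P.subtype) := R.2.map P.subtype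
  have hsup : P = Z ⊔ (R : Subgroup P).map P.subtype := by
    have h1 := congrArg (fun H : Subgroup P => H.map P.subtype) htop
    simp only [Subgroup.map_sup, Subgroup.subgroupOf_map_subtype] at h1
    rw [inf_eq_left.mpr hZP] at h1
    rw [h1]
    ext x
    simp
  refine ⟨(R : Subgroup P).map P.subtype, hSp, ?_, hSP, hsup, key, ?_⟩
  · rw [Subgroup.index_map_subtype]
    intro hd
    rcases hp.dvd_mul.mp hd with h | h
    · exact R.not_dvd_index h
    · exact hPi h
  · ext n
    rw [mem_NS_iff, mem_NS_iff]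
    constructor
    · intro h x hx
      rw [hsup] at hx
      have hZn : Z.Normal := normal_of_central hZc
      have h1 : x ∈ (Z : Set Q) * ((R : Subgroup P).map P.subtype : Set Q) := by
        rw [← Subgroup.normal_mul]
        exact hx
      obtain ⟨z, hz, s, hs, rfl⟩ := Set.mem_mul.mp h1
      have h2 : n * (z * s) * n⁻¹ = z * (n * s * n⁻¹) := by
        have h3 := Subgroup.mem_center_iff.mp (hZc hz) n
        rw [← mul_assoc, h3]
        group
      rw [h2]
      exact P.mul_mem (hZP hz) (hSP (h s hs))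
    · intro h x hx
      obtain ⟨k, hk⟩ := hSp ⟨x, hx⟩
      have hk' : x ^ p ^ k = 1 := congrArg Subtype.val hk
      refine key _ (h x (hSP hx)) k ?_
      rw [conj_pow, hk']
      group

end Cfsg.Agent.H76.Twc
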