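import Cfsg.Agent.H75.TriA
import Cfsg.Agent.H75.BlkSum
import Cfsg.Agent.CycG.PrinData
import Cfsg.Agent.S4571
import Cfsg.Agent.S4639
import Cfsg.Agent.S0205
import Cfsg.Agent.S0215
import Cfsg.Agent.H76.Twg2
import Cfsg.Agent.H76.Twg4

/-!
# Abelian Sylow 2-subgroups with semifree inertial action
-/

set_option autoImplicit false
set_option linter.unusedSectionVars false
set_option linter.unusedFintypeInType false

namespace Cfsg.Agent.H76.AbS

open scoped ComplexConjugate Pointwise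
open Cfsg Cfsg.Agent.CharBase

universe u v

variable {G : Type u} [Group G]

/-- the normalizer -/
abbrev NN (P : Subgroup G) : Subgroup G := Subgroup.normalizer (P : Set G)

/-- the centralizer -/
abbrev CC (P : Subgroup G) : Subgroup G := Subgroup.centralizer (P : Set G)

/-- elements of `P` fixed by the normalizer -/
def Fp (P : Subgroup G) : Subgroup G := P ⊓ Subgroup.centralizer (NN P : Set G)

theorem mem_Fp {P : Subgroup G} {x : G} :
    x ∈ Fp P ↔ x ∈ P ∧ ∀ n ∈ NN P, n * x * n⁻¹ = x := by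
  unfold Fp
  rw [Subgroup.mem_inf, Subgroup.mem_centralizer_iff]
  refine and_congr_right fun _ => ?_
  constructor
  · intro h n hn
    rw [h n hn, mul_inv_cancel_right]
  · intro h n hn
    have := h n hn
    rw [mul_inv_eq_iff_eq_mul] at this
    exact this

theorem CC_le_NN (P : Subgroup G) : CC P ≤ NN P := by
  intro g hg
  rw [Subgroup.mem_normalizer_iff]
  intro x
  constructor
  · intro hx
    rw [← Subgroup.mem_centralizer_iff.mp hg x hx, mul_inv_cancel_right]
    exact hx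
  · intro hx
    have h1 := Subgroup.mem_centralizer_iff.mp hg _ hx
    have h2 : x = g * x * g⁻¹ := by
      have h3 : g * x * g⁻¹ * g = g * x := by group
      rw [h3] at h1
      have h4 := mul_left_cancel h1
      rw [← h4]
    rw [h2]
    exact hx

/-- semifree action of the inertial quotient -/
structure SF (P : Sylow 2 G) (e : ℕ) : Prop where
  comm : ∀ a ∈ (P : Subgroup G), ∀ b ∈ (P : Subgroup G), a * b = b * a
  card : (CC (P : Subgroup G)).relIndex (NN (P : Subgroup G)) = e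
  ab : ∀ g ∈ NN (P : Subgroup G), ∀ h ∈ NN (P : Subgroup G), g * h * g⁻¹ * h⁻¹ ∈ CC (P : Subgroup G)
  free : ∀ g ∈ NN (P : Subgroup G), ∀ x ∈ (P : Subgroup G), g * x * g⁻¹ = x →
    g ∈ CC (P : Subgroup G) ∨ x ∈ Fp (P : Subgroup G)

variable [Finite G]

theorem mem_NN_iff {P : Subgroup G} {n : G} : n ∈ NN P ↔ ∀ x ∈ P, n * x * n⁻¹ ∈ P :=
  Twc.mem_NS_iff

theorem odd_relIndex (P : Sylow 2 G)
    (hc : ∀ a ∈ (P : Subgroup G), ∀ b ∈ (P : Subgroup G), a * b = b * a) :
    ¬ 2 ∣ (CC (P : Subgroup G)).relIndex (NN (P : Subgroup G)) := by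
  intro h
  have h1 : (P : Subgroup G) ≤ CC (P : Subgroup G) := fun x hx =>
    Subgroup.mem_centralizer_iff.mpr fun y hy => hc y hy x hx
  have h2 : (CC (P : Subgroup G)).relIndex (NN (P : Subgroup G)) ∣
      (P : Subgroup G).relIndex (NN (P : Subgroup G)) := Subgroup.relIndex_dvd_of_le_left _ h1
  have h3 : (P : Subgroup G).relIndex (NN (P : Subgroup G)) ∣ (P : Subgroup G).index :=
    Subgroup.relIndex_dvd_index_of_le Subgroup.le_normalizer
  exact P.not_dvd_index ((h.trans h2).trans h3)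

theorem pow_mem_CC {P : Subgroup G} {n : G} (hn : n ∈ NN P) :
    n ^ (CC P).relIndex (NN P) ∈ CC P := by
  have hN : ((CC P).subgroupOf (NN P)).Normal := by
    constructor
    rintro ⟨c, hc⟩ hc' ⟨g, hg⟩
    rw [Subgroup.mem_subgroupOf] at hc' ⊢
    change g * c * g⁻¹ ∈ CC P
    rw [Subgroup.mem_centralizer_iff] at hc' ⊢
    intro x hx
    have h1 : g⁻¹ * x * g ∈ P := by
      have := (Subgroup.mem_normalizer_iff.mp ((NN P).inv_mem hg) x).mp hx
      rwa [inv_inv] at this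
    have h2 := hc' _ h1
    change g⁻¹ * x * g * c = c * (g⁻¹ * x * g) at h2
    calc x * (g * c * g⁻¹) = g * (g⁻¹ * x * g * c) * g⁻¹ := by group
      _ = g * (c * (g⁻¹ * x * g)) * g⁻¹ := by rw [h2]
      _ = g * c * g⁻¹ * x := by group
  exact Subgroup.pow_index_mem ((CC P).subgroupOf (NN P)) ⟨n, hn⟩

theorem SF.quot {G' : Type v} [Group G'] [Finite G'] (f : G →* G') {P : Sylow 2 G}
    {P' : Sylow 2 G'} (hP' : (P' : Subgroup G') = (P : Subgroup G).map f) {e : ℕ} (h : SF P e)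
    (h1 : ∀ n ∈ NN (P : Subgroup G), ∀ x ∈ (P : Subgroup G), f (n * x * n⁻¹ * x⁻¹) = 1 →
      n * x * n⁻¹ = x)
    (h2 : ∀ n' ∈ NN (P' : Subgroup G'), ∃ n ∈ NN (P : Subgroup G), f n = n') :
    SF P' e ∧ (Fp (P' : Subgroup G')).relIndex (P' : Subgroup G') =
      (Fp (P : Subgroup G)).relIndex (P : Subgroup G) := by
  have hN1 : ∀ n ∈ NN (P : Subgroup G), f n ∈ NN (P' : Subgroup G') := by
    intro n hn
    rw [mem_NN_iff, hP']
    rintro _ ⟨x, hx, rfl⟩
    rw [← map_inv, ← map_mul, ← map_mul]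
    exact ⟨_, mem_NN_iff.mp hn x hx, rfl⟩
  have hNe : NN (P' : Subgroup G') = (NN (P : Subgroup G)).map f := by
    apply le_antisymm
    · intro n' hn'
      obtain ⟨n, hn, rfl⟩ := h2 n' hn'
      exact ⟨n, hn, rfl⟩
    · rintro _ ⟨n, hn, rfl⟩
      exact hN1 n hn
  have hfc : ∀ n x : G, f n * f x * (f n)⁻¹ = f x → f (n * x * n⁻¹ * x⁻¹) = 1 := by
    intro n x hnx
    rw [map_mul, map_mul, map_mul, map_inv, map_inv, hnx, mul_inv_cancel]
  have hCC : ∀ n ∈ NN (P : Subgroup G), (f n ∈ CC (P' : Subgroup G') ↔ n ∈ CC (P : Subgroup G)) := by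
    intro n hn
    rw [Subgroup.mem_centralizer_iff, Subgroup.mem_centralizer_iff, hP']
    constructor
    · intro h3 x hx
      have h4 := h3 (f x) ⟨x, hx, rfl⟩
      have h5 := h1 n hn x hx (hfc n x (by rw [← h4, mul_inv_cancel_right]))
      rw [mul_inv_eq_iff_eq_mul] at h5
      exact h5.symm
    · rintro h3 _ ⟨x, hx, rfl⟩
      rw [← map_mul, ← map_mul, h3 x hx]
  have hFp : ∀ x ∈ (P : Subgroup G), (f x ∈ Fp (P' : Subgroup G') ↔ x ∈ Fp (P : Subgroup G)) := by
    intro x hx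
    rw [mem_Fp, mem_Fp]
    constructor
    · rintro ⟨-, h3⟩
      exact ⟨hx, fun n hn => h1 n hn x hx (hfc n x (h3 (f n) (hN1 n hn)))⟩
    · rintro ⟨-, h3⟩
      refine ⟨by rw [hP']; exact ⟨x, hx, rfl⟩, fun n' hn' => ?_⟩
      obtain ⟨n, hn, rfl⟩ := h2 n' hn'
      rw [← map_inv, ← map_mul, ← map_mul, h3 n hn]
  refine ⟨⟨?_, ?_, ?_, ?_⟩, ?_⟩
  · rw [hP']
    rintro _ ⟨a, ha, rfl⟩ _ ⟨b, hb, rfl⟩
    rw [← map_mul, ← map_mul, h.comm a ha b hb]
  · rw [hNe, ← Subgroup.relIndex_comap, ← h.card, ← Subgroup.inf_relIndex_right,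
      ← Subgroup.inf_relIndex_right (CC (P : Subgroup G))]
    congr 1
    ext n
    rw [Subgroup.mem_inf, Subgroup.mem_inf, Subgroup.mem_comap]
    constructor
    · rintro ⟨h3, h4⟩
      exact ⟨(hCC n h4).mp h3, h4⟩
    · rintro ⟨h3, h4⟩
      exact ⟨(hCC n h4).mpr h3, h4⟩
  · intro g' hg' k' hk'
    obtain ⟨g, hg, rfl⟩ := h2 g' hg'
    obtain ⟨k, hk, rfl⟩ := h2 k' hk'
    rw [← map_inv, ← map_inv, ← map_mul, ← map_mul, ← map_mul]
    have h3 := h.ab g hg k hk
    exact (hCC _ (CC_le_NN _ h3)).mpr h3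
  · intro g' hg' x' hx' hgx
    obtain ⟨g, hg, rfl⟩ := h2 g' hg'
    rw [hP'] at hx'
    obtain ⟨x, hx, rfl⟩ := hx'
    rcases h.free g hg x hx (h1 g hg x hx (hfc g x hgx)) with h3 | h3
    · exact Or.inl ((hCC g hg).mpr h3)
    · exact Or.inr ((hFp x hx).mpr h3)
  · rw [hP', ← hP', ← Subgroup.inf_relIndex_right (Fp (P : Subgroup G))]
    conv_lhs => rw [show ((P' : Sylow 2 G') : Subgroup G') = (P : Subgroup G).map f from hP']
    rw [← Subgroup.relIndex_comap, ← Subgroup.inf_relIndex_right]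
    congr 1
    ext x
    rw [Subgroup.mem_inf, Subgroup.mem_inf, Subgroup.mem_comap, ← hP']
    constructor
    · rintro ⟨h3, h4⟩
      exact ⟨(hFp x h4).mp h3, h4⟩
    · rintro ⟨h3, h4⟩
      exact ⟨(hFp x h4).mpr h3, h4⟩

/-- quotients by normal subgroups of odd order -/
theorem SF.quot_odd {P : Sylow 2 G} {e : ℕ} (h : SF P e) (N : Subgroup G) [N.Normal]
    (hN : ¬ 2 ∣ Nat.card N) : ∃ P' : Sylow 2 (G ⧸ N),
    (P' : Subgroup (G ⧸ N)) = (P : Subgroup G).map (QuotientGroup.mk' N) ∧ SF P' e ∧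
    (Fp (P' : Subgroup (G ⧸ N))).relIndex (P' : Subgroup (G ⧸ N)) =
      (Fp (P : Subgroup G)).relIndex (P : Subgroup G) := by
  have : Fact (Nat.Prime 2) := ⟨Nat.prime_two⟩
  let f := QuotientGroup.mk' N
  have hf : Function.Surjective f := QuotientGroup.mk'_surjective N
  have hd : Disjoint (P : Subgroup G) N := by
    apply Subgroup.disjoint_of_coprime_natCard
    obtain ⟨k, hk⟩ := IsPGroup.iff_card.mp P.2
    rw [hk]
    exact Nat.Coprime.pow_left _ ((Nat.Prime.coprime_iff_not_dvd Nat.prime_two).mpr hN)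
  refine ⟨P.mapSurjective hf, P.coe_mapSurjective hf, ?_⟩
  refine SF.quot f (P.coe_mapSurjective hf) h ?_ ?_
  · intro n hn x hx h1
    have h2 : n * x * n⁻¹ * x⁻¹ ∈ N := (QuotientGroup.eq_one_iff _).mp h1
    have h3 : n * x * n⁻¹ * x⁻¹ ∈ (P : Subgroup G) :=
      mul_mem (mem_NN_iff.mp hn x hx) (inv_mem hx)
    have h4 := Subgroup.disjoint_def.mp hd h3 h2
    exact mul_inv_eq_one.mp h4
  · intro n' hn'
    obtain ⟨g, rfl⟩ := hf n'
    rw [P.coe_mapSurjective hf, mem_NN_iff] at hn'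
    obtain ⟨y, hy, hyg⟩ := Twc.exists_mem_normalizer Nat.prime_two P.2 P.not_dvd_index
      (T := N ⊔ (P : Subgroup G)) le_sup_right (g := g) (fun s hs => by
        have h1 := hn' (f s) ⟨s, hs, rfl⟩
        rw [← map_inv, ← map_mul, ← map_mul] at h1
        obtain ⟨x, hx, hxe⟩ := h1
        have h2 : x⁻¹ * (g * s * g⁻¹) ∈ N := QuotientGroup.eq.mp hxe
        have h3 : g * s * g⁻¹ = x * (x⁻¹ * (g * s * g⁻¹)) := by group
        rw [h3]
        exact mul_mem ((le_sup_right : (P : Subgroup G) ≤ _) hx)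
          ((le_sup_left : N ≤ _) h2))
    have h1 : y ∈ (N : Set G) * ((P : Subgroup G) : Set G) := by
      rw [← Subgroup.normal_mul]
      exact hy
    obtain ⟨k, hk, a, ha, rfl⟩ := Set.mem_mul.mp h1
    refine ⟨k⁻¹ * g, ?_, ?_⟩
    · have h2 : k⁻¹ * g = a * ((k * a)⁻¹ * g) := by group
      rw [h2]
      exact mul_mem (Subgroup.le_normalizer ha) hyg
    · rw [map_mul, map_inv]
      have h3 : f k = 1 := (QuotientGroup.eq_one_iff _).mpr hk
      rw [h3, inv_one, one_mul]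

/-- quotients by central subgroups of order two -/
theorem SF.quot_two {P : Sylow 2 G} {e : ℕ} (h : SF P e) {u : G} (hu : orderOf u = 2)
    (huc : u ∈ Subgroup.center G) [(Subgroup.zpowers u).Normal] :
    ∃ P' : Sylow 2 (G ⧸ Subgroup.zpowers u),
    (P' : Subgroup (G ⧸ Subgroup.zpowers u)) =
      (P : Subgroup G).map (QuotientGroup.mk' (Subgroup.zpowers u)) ∧ SF P' e ∧
    (Fp (P' : Subgroup (G ⧸ Subgroup.zpowers u))).relIndex (P' : Subgroup (G ⧸ Subgroup.zpowers u)) =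
      (Fp (P : Subgroup G)).relIndex (P : Subgroup G) := by
  have : Fact (Nat.Prime 2) := ⟨Nat.prime_two⟩
  let N := Subgroup.zpowers u
  let f := QuotientGroup.mk' N
  have hf : Function.Surjective f := QuotientGroup.mk'_surjective N
  have hNp : IsPGroup 2 N := IsPGroup.of_card (n := 1) (by rw [Nat.card_zpowers, hu, pow_one])
  have hNP : N ≤ (P : Subgroup G) := by
    have h1 : IsPGroup 2 ((P : Subgroup G) ⊔ N : Subgroup G) := P.2.to_sup_of_normal_right hNp
    have h2 := P.3 h1 le_sup_left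
    rw [← h2]
    exact le_sup_right
  have hN2 : ∀ k ∈ N, k = 1 ∨ k = u := by
    intro k hk
    obtain ⟨m, rfl⟩ := Subgroup.mem_zpowers_iff.mp hk
    have hu2 : u ^ (2 : ℤ) = 1 := by
      have := pow_orderOf_eq_one u
      rw [hu] at this
      exact_mod_cast this
    rcases Int.even_or_odd m with ⟨a, ha⟩ | ⟨a, ha⟩
    · left
      rw [ha, ← two_mul, zpow_mul, hu2, one_zpow]
    · right
      rw [ha, zpow_add, zpow_mul, hu2, one_zpow, one_mul, zpow_one]
  have hu2 : u * u = 1 := by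
    have := pow_orderOf_eq_one u
    rwa [hu, pow_two] at this
  refine ⟨P.mapSurjective hf, P.coe_mapSurjective hf, ?_⟩
  refine SF.quot f (P.coe_mapSurjective hf) h ?_ ?_
  · intro n hn x hx h1
    have h2 : n * x * n⁻¹ * x⁻¹ ∈ N := (QuotientGroup.eq_one_iff _).mp h1
    have hnu : n * u = u * n := (Subgroup.mem_center_iff.mp huc n)
    -- `n ^ 2` and `n ^ e` fix `x`
    let S : Subgroup G := Subgroup.centralizer {x}
    have hS : ∀ g : G, g * x * g⁻¹ = x → g ∈ S := by
      intro g hg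
      rw [Subgroup.mem_centralizer_singleton_iff]
      rw [mul_inv_eq_iff_eq_mul] at hg
      exact hg
    have h3 : n ^ 2 ∈ S := by
      apply hS
      rcases hN2 _ h2 with h3 | h3
      · have h4 : n * x * n⁻¹ = x := mul_inv_eq_one.mp h3
        calc n ^ 2 * x * (n ^ 2)⁻¹ = n * (n * x * n⁻¹) * n⁻¹ := by rw [pow_two]; group
          _ = x := by rw [h4, h4]
      · have h4 : n * x * n⁻¹ = u * x := by rw [← h3]; group
        have h5 : n * u * n⁻¹ = u := by rw [hnu]; group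
        calc n ^ 2 * x * (n ^ 2)⁻¹ = n * (n * x * n⁻¹) * n⁻¹ := by rw [pow_two]; group
          _ = n * (u * x) * n⁻¹ := by rw [h4]
          _ = (n * u * n⁻¹) * (n * x * n⁻¹) := by group
          _ = (u * u) * x := by rw [h4, h5]; group
          _ = x := by rw [hu2, one_mul]
    have h4 : n ^ e ∈ S := by
      have := pow_mem_CC hn
      rw [h.card] at this
      rw [Subgroup.mem_centralizer_singleton_iff]
      exact (Subgroup.mem_centralizer_iff.mp this x hx).symm
    have h5 : Odd e := by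
      rw [← Nat.not_even_iff_odd, even_iff_two_dvd, ← h.card]
      exact odd_relIndex P h.comm
    obtain ⟨a, ha⟩ := h5
    have h6 : n ∈ S := by
      have h7 : n = n ^ e * ((n ^ 2) ^ a)⁻¹ := by
        rw [ha, ← pow_mul, pow_succ']
        group
      rw [h7]
      exact mul_mem h4 (inv_mem (pow_mem h3 a))
    rw [mul_inv_eq_iff_eq_mul]
    exact Subgroup.mem_centralizer_singleton_iff.mp h6
  · intro n' hn'
    obtain ⟨g, rfl⟩ := hf n'
    rw [P.coe_mapSurjective hf, mem_NN_iff] at hn'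
    refine ⟨g, mem_NN_iff.mpr fun s hs => ?_, rfl⟩
    have h1 := hn' (f s) ⟨s, hs, rfl⟩
    rw [← map_inv, ← map_mul, ← map_mul] at h1
    obtain ⟨x, hx, hxe⟩ := h1
    have h2 : x⁻¹ * (g * s * g⁻¹) ∈ N := QuotientGroup.eq.mp hxe
    have h3 : g * s * g⁻¹ = x * (x⁻¹ * (g * s * g⁻¹)) := by group
    rw [h3]
    exact mul_mem hx (hNP h2)

end Cfsg.Agent.H76.AbS
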