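import Cfsg.Agent.H76.AbA
import Cfsg.Agent.H32.SECon
import Cfsg.Agent.SigF.PC
import Cfsg.Agent.S1221
import Cfsg.Agent.S2202
import Cfsg.Agent.Fus.AbelianEss
import Cfsg.Agent.S0949

/-!
# Structure of groups with abelian Sylow 2-subgroups and free inertial action
-/

set_option autoImplicit false
set_option linter.unusedSectionVars false
set_option linter.unusedFintypeInType false

namespace Cfsg.Agent.H76.AbS

open scoped ComplexConjugate Pointwise
open Cfsg Cfsg.Agent.CharBase

universe u v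

variable {G : Type u} [Group G] [Finite G]

theorem isSolvable_of_npc {H : Type*} [Group H] [Finite H] (h : HasNormalPComplement 2 H) :
    Group.IsSolvable H := by
  have : Fact (Nat.Prime 2) := ⟨Nat.prime_two⟩
  obtain ⟨N, hN, h1, k, h2⟩ := Transfer.hasNPC_iff_exists.mp h
  have hs1 : Group.IsSolvable N := by
    apply S0205.result
    rw [Nat.coprime_comm, Nat.coprime_two_left] at h1
    exact h1
  have hs2 : Group.IsSolvable (H ⧸ N) := by
    have h3 : IsPGroup 2 (H ⧸ N) := IsPGroup.of_card (n := k) (by rw [← h2]; rfl)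
    have := h3.isNilpotent
    infer_instance
  exact (Group.isSolvable_iff_subgroup_quotient N).2 ⟨hs1, hs2⟩

theorem isPGroup_of_npc {H : Type*} [Group H] [Finite H] (h : HasNormalPComplement 2 H)
    (hO : pPrimeCore 2 H = ⊥) : IsPGroup 2 H := by
  have : Fact (Nat.Prime 2) := ⟨Nat.prime_two⟩
  obtain ⟨N, hN, h1, k, h2⟩ := Transfer.hasNPC_iff_exists.mp h
  have h3 : N = ⊥ := by
    rw [eq_bot_iff, ← hO]
    exact Solv.le_pPrimeCore hN h1
  rw [h3, Subgroup.index_bot] at h2
  exact IsPGroup.of_card (n := k) h2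

theorem isPGroup_centralizer (hO : oddCore G = ⊥) (P : Sylow 2 G)
    (hc : ∀ a ∈ (P : Subgroup G), ∀ b ∈ (P : Subgroup G), a * b = b * a)
    (hr : ¬ PRankLE 2 2 (P : Subgroup G))
    (hn : ∀ t : G, orderOf t = 2 → HasNormalPComplement 2 (Subgroup.centralizer ({t} : Set G)))
    (t : G) (ht : orderOf t = 2) : IsPGroup 2 (Subgroup.centralizer ({t} : Set G)) := by
  have : Fact (Nat.Prime 2) := ⟨Nat.prime_two⟩
  have hcm : IsMulCommutative (⊤ : Subgroup (P : Subgroup G)) :=
    ⟨⟨fun a b => Subtype.ext (Subtype.ext (hc a.1 a.1.2 b.1 b.1.2))⟩⟩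
  obtain ⟨V, hVS, hV, hV3, hSV⟩ := H32.SFB.exists_V (S := (P : Subgroup G)) (A := ⊤) inferInstance hcm
    (by
      intro h
      apply hr
      exact H32.SE.pRankLE_of_injective
        (Subgroup.topEquiv (G := (P : Subgroup G))).symm.toMonoidHom
        (MulEquiv.injective (Subgroup.topEquiv (G := (P : Subgroup G))).symm) h)
  have hS : (P : Subgroup G) ≠ ⊥ := by
    intro h
    rw [h, le_bot_iff] at hVS
    rw [hVS, Subgroup.card_bot] at hV3
    norm_num at hV3
  have hcc : H32.SE.CentConstr G := fun t ht =>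
    SigF.PC.isPConstrained_of_isSolvable (isSolvable_of_npc (hn t ht))
  have h := H32.SE.core_trivial (fun G _ _ H hH => S1221.result H hH) hcc hO P
    (H32.SE.inEight_of_normal hVS hV hV3 hSV) hS _
    (fun B hB hBr => H32.SE.cc_W_eq hcc P.2 hV hV3 hSV hB hBr) ht
  unfold Cfsg.centralizerPPrimeCore at h
  rw [Subgroup.map_eq_bot_iff_of_injective _ (Subgroup.subtype_injective _)] at h
  exact isPGroup_of_npc (hn t ht) h

/-- involution centralizers -/
theorem SF.npc_invol {P : Sylow 2 G} {e : ℕ} (h : SF P e) (hF : Fp (P : Subgroup G) = ⊥) (t : G)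
    (ht : orderOf t = 2) : HasNormalPComplement 2 (Subgroup.centralizer ({t} : Set G)) := by
  have : Fact (Nat.Prime 2) := ⟨Nat.prime_two⟩
  obtain ⟨y, hy, hty⟩ := H75.Tri.exists_conj_mem P (x := t) ⟨1, by rw [ht, pow_one]⟩
  obtain ⟨g, rfl⟩ := isConj_iff.mp hty
  have h1 : HasNormalPComplement 2 (Subgroup.centralizer ({g * t * g⁻¹} : Set G)) := by
    refine H75.Tri.npc_of_free P h.comm hy fun n hn hx => ?_
    rcases h.free n hn _ hy hx with h2 | h2
    · exact h2
    · exfalso
      rw [hF, Subgroup.mem_bot] at h2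
      have h3 : orderOf (g * t * g⁻¹) = 2 := (MulEquiv.orderOf_eq (MulAut.conj g) t).trans ht
      rw [h2, orderOf_one] at h3
      norm_num at h3
  have e1 : (Subgroup.centralizer ({t} : Set G)).map (MulAut.conj g).toMonoidHom =
      Subgroup.centralizer ({g * t * g⁻¹} : Set G) := by
    ext x
    rw [Subgroup.mem_centralizer_singleton_iff]
    constructor
    · rintro ⟨y, hy, rfl⟩
      have hy' := Subgroup.mem_centralizer_singleton_iff.mp hy
      change g * y * g⁻¹ * (g * t * g⁻¹) = g * t * g⁻¹ * (g * y * g⁻¹)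
      calc g * y * g⁻¹ * (g * t * g⁻¹) = g * (y * t) * g⁻¹ := by group
        _ = g * (t * y) * g⁻¹ := by rw [hy']
        _ = g * t * g⁻¹ * (g * y * g⁻¹) := by group
    · intro hx
      refine ⟨g⁻¹ * x * g, ?_, ?_⟩
      · rw [SetLike.mem_coe, Subgroup.mem_centralizer_singleton_iff]
        calc g⁻¹ * x * g * t = g⁻¹ * (x * (g * t * g⁻¹)) * g := by group
          _ = g⁻¹ * ((g * t * g⁻¹) * x) * g := by rw [hx]
          _ = t * (g⁻¹ * x * g) := by group
      · change g * (g⁻¹ * x * g) * g⁻¹ = x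
        group
  exact (Transfer.hasNPC_congr ((Subgroup.equivMapOfInjective _ _ (MulAut.conj g).injective).trans
    (MulEquiv.subgroupCongr e1))).mpr h1

/-- structure theorem in rank at least three -/
theorem SF.struct (hO : oddCore G = ⊥) {P : Sylow 2 G} {e : ℕ} (h : SF P e)
    (hF : Fp (P : Subgroup G) = ⊥) (hr : ¬ PRankLE 2 2 (P : Subgroup G)) :
    (P : Subgroup G).Normal ∨ (∃ (F : Type) (_ : Field F) (_ : Fintype F) (A : Type)
      (_ : CommGroup A) (_ : Finite A), CharP F 2 ∧ Odd (Nat.card A) ∧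
      Nonempty (G ≃* Matrix.SpecialLinearGroup (Fin 2) F × A)) := by
  have : Fact (Nat.Prime 2) := ⟨Nat.prime_two⟩
  have hP1 : (P : Subgroup G) ≠ ⊥ := by
    intro h1
    apply hr
    intro A _ _
    have h2 : Nat.card A ≤ Nat.card (P : Subgroup G) := Subgroup.card_le_card_group A
    have h3 : Nat.card (P : Subgroup G) = 1 := by rw [h1]; exact Subgroup.card_bot
    omega
  have heven : Even (Nat.card G) := by
    rw [even_iff_two_dvd]
    obtain ⟨k, hk⟩ := IsPGroup.iff_card.mp P.2
    rcases k with _ | k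
    · rw [pow_zero, Subgroup.card_eq_one] at hk
      exact absurd hk hP1
    · exact ((Dvd.intro_left _ rfl : 2 ∣ 2 ^ k * 2).trans (by
        rw [← pow_succ, ← hk])).trans (Subgroup.card_subgroup_dvd_card _)
  have hab : ∀ t : G, orderOf t = 2 → IsMulCommutative (Subgroup.centralizer ({t} : Set G)) := by
    intro t ht
    have h1 := isPGroup_centralizer hO P h.comm hr (h.npc_invol hF) t ht
    obtain ⟨Q, hQ⟩ := h1.exists_le_sylow
    obtain ⟨g, hg⟩ := MulAction.exists_smul_eq G Q P
    refine ⟨⟨fun a b => Subtype.ext ?_⟩⟩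
    have h2 : ∀ x ∈ (Q : Subgroup G), g * x * g⁻¹ ∈ (P : Subgroup G) := by
      intro x hx
      rw [← hg]
      exact ⟨x, hx, rfl⟩
    have h3 := h.comm _ (h2 a (hQ a.2)) _ (h2 b (hQ b.2))
    have h4 : g * (a * b : G) * g⁻¹ = g * (b * a : G) * g⁻¹ := by
      calc g * (a * b : G) * g⁻¹ = (g * a * g⁻¹) * (g * b * g⁻¹) := by group
        _ = (g * b * g⁻¹) * (g * a * g⁻¹) := h3
        _ = g * (b * a : G) * g⁻¹ := by group
    exact mul_left_cancel (mul_right_cancel h4)
  rcases S2202.result heven hab with h1 | h1 | h1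
  · exfalso
    apply hr
    have hcy := h1 P
    intro A _ hA
    have hA2 : IsCyclic A := inferInstance
    obtain ⟨a, ha⟩ := hA2.exists_generator
    have h2 : Nat.card A ≤ 2 := by
      rw [← orderOf_eq_card_of_forall_mem_zpowers ha]
      apply orderOf_le_of_pow_eq_one (by norm_num)
      exact Subtype.ext (hA a a.2)
    omega
  · exact Or.inl (h1 P)
  · exact Or.inr h1

end Cfsg.Agent.H76.AbS
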