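import Cfsg.Agent.H34.Blk1
import Cfsg.Agent.H34.Deg3
import Cfsg.Agent.H75.BlkSum

/-!
# The principal 2-block of `SL₂(q)`, `q` even
-/

set_option autoImplicit false
set_option linter.unusedSectionVars false
set_option linter.unusedFintypeInType false

namespace Cfsg.Agent.H76.AbS

open scoped ComplexConjugate Pointwise
open Cfsg Cfsg.Agent.CharBase Cfsg.Agent.H39 Cfsg.Agent.H34.Deg Matrix

theorem index_conj {G : Type*} [Group G] [Finite G] {g u : G} (h : IsConj g u) :
    (Subgroup.centralizer ({g} : Set G)).index = (Subgroup.centralizer ({u} : Set G)).index := by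
  obtain ⟨c, rfl⟩ := isConj_iff.mp h
  have e1 : (Subgroup.centralizer ({g} : Set G)).map (MulAut.conj c).toMonoidHom =
      Subgroup.centralizer ({c * g * c⁻¹} : Set G) := by
    ext x
    rw [Subgroup.mem_centralizer_singleton_iff]
    constructor
    · rintro ⟨y, hy, rfl⟩
      have hy' := Subgroup.mem_centralizer_singleton_iff.mp hy
      change c * y * c⁻¹ * (c * g * c⁻¹) = c * g * c⁻¹ * (c * y * c⁻¹)
      calc c * y * c⁻¹ * (c * g * c⁻¹) = c * (y * g) * c⁻¹ := by group
        _ = c * (g * y) * c⁻¹ := by rw [hy']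
        _ = c * g * c⁻¹ * (c * y * c⁻¹) := by group
    · intro hx
      refine ⟨c⁻¹ * x * c, ?_, ?_⟩
      · rw [SetLike.mem_coe, Subgroup.mem_centralizer_singleton_iff]
        calc c⁻¹ * x * c * g = c⁻¹ * (x * (c * g * c⁻¹)) * c := by group
          _ = c⁻¹ * ((c * g * c⁻¹) * x) * c := by rw [hx]
          _ = g * (c⁻¹ * x * c) := by group
      · change c * (c⁻¹ * x * c) * c⁻¹ = x
        group
  have h1 : Nat.card (Subgroup.centralizer ({g} : Set G)) =
      Nat.card (Subgroup.centralizer ({c * g * c⁻¹} : Set G)) := by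
    rw [← e1]
    exact Nat.card_congr (Subgroup.equivMapOfInjective _ _ (MulAut.conj c).injective).toEquiv
  have h2 := (Subgroup.centralizer ({g} : Set G)).card_mul_index
  rw [← (Subgroup.centralizer ({c * g * c⁻¹} : Set G)).card_mul_index, h1] at h2
  exact Nat.eq_of_mul_eq_mul_left Nat.card_pos h2

section SL

variable {F : Type*} [Field F] [Fintype F] [DecidableEq F] {M : Ideal AlgInt}

theorem isConj_uSL (h2 : (2 : F) = 0) {x : F} (hx : x ≠ 0) :
    IsConj (uSL (1 : F)) (uSL x) := by
  have : CharP F 2 := CharTwo.of_one_ne_zero_of_two_eq_zero one_ne_zero h2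
  obtain ⟨s, hs⟩ := FiniteField.isSquare_of_char_two (by
    rw [ringChar.eq_iff]; exact this) x
  have hs0 : s ≠ 0 := by
    rintro rfl
    exact hx (by rw [hs, mul_zero])
  let g : SpecialLinearGroup (Fin 2) F := ⟨!![s, 0; 0, s⁻¹], by
    rw [Matrix.det_fin_two]; simp [hs0]⟩
  rw [isConj_iff]
  refine ⟨g, ?_⟩
  rw [mul_inv_eq_iff_eq_mul]
  have key : (!![s, 0; 0, s⁻¹] : Matrix (Fin 2) (Fin 2) F) * !![1, 1; 0, 1] =
      !![1, x; 0, 1] * !![s, 0; 0, s⁻¹] := by
    ext i j
    fin_cases i <;> fin_cases j <;> simp [Matrix.mul_apply, Fin.sum_univ_two, hs, hs0]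
  exact Subtype.ext key

theorem index_u (h2 : (2 : F) = 0) :
    (Subgroup.centralizer ({uSL (1 : F)} : Set (SpecialLinearGroup (Fin 2) F))).index =
      (Fintype.card F + 1) * (Fintype.card F - 1) := by
  have h1 := (Subgroup.centralizer ({uSL (1 : F)} : Set (SpecialLinearGroup (Fin 2) F))).card_mul_index
  rw [card_centralizer_sl, card_sq_one_even h2, one_mul, card_SL] at h1
  have h3 : 0 < Fintype.card F := Fintype.card_pos
  apply Nat.eq_of_mul_eq_mul_left h3
  rw [h1]
  try ring

theorem mem_principal (hM : IsPModular 2 M) (h2 : (2 : F) = 0)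
    (χ : IrrCharacter (SpecialLinearGroup (Fin 2) F))
    (h : ((χ : SpecialLinearGroup (Fin 2) F → ℂ) 1 = Fintype.card F + 1 ∧
        (χ : SpecialLinearGroup (Fin 2) F → ℂ) (uSL 1) = 1) ∨
      ((χ : SpecialLinearGroup (Fin 2) F → ℂ) 1 = Fintype.card F - 1 ∧
        (χ : SpecialLinearGroup (Fin 2) F → ℂ) (uSL 1) = -1)) :
    χ ∈ principalBlock M (SpecialLinearGroup (Fin 2) F) := by
  classical
  have := hM.2.1.isPrime
  have hp2 : Fact (Nat.Prime 2) := ⟨Nat.prime_two⟩
  have hch : CharP F 2 := CharTwo.of_one_ne_zero_of_two_eq_zero one_ne_zero h2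
  have hq : 1 < Fintype.card F := Fintype.one_lt_card
  have hev : 2 ∣ Fintype.card F := by
    rw [← CharP.cast_eq_zero_iff F 2, FiniteField.cast_card_eq_zero]
  have hχ1 : (χ : SpecialLinearGroup (Fin 2) F → ℂ) 1 ≠ 0 := irr_one_ne_zero χ.2
  have hdeg : ¬ 2 ∣ charDegree (χ : SpecialLinearGroup (Fin 2) F → ℂ) := by
    have h3 := BlkC.charDegree_spec χ
    rcases h with ⟨h4, -⟩ | ⟨h4, -⟩
    · rw [h4] at h3
      have : Fintype.card F + 1 = charDegree (χ : SpecialLinearGroup (Fin 2) F → ℂ) := by
        exact_mod_cast h3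
      omega
    · rw [h4] at h3
      have : Fintype.card F = charDegree (χ : SpecialLinearGroup (Fin 2) F → ℂ) + 1 := by
        have h5 : (Fintype.card F : ℂ) = (charDegree (χ : SpecialLinearGroup (Fin 2) F → ℂ) : ℂ) + 1 := by
          rw [← h3]; ring
        exact_mod_cast h5
      omega
  intro g
  by_cases hg : 2 ∣ (Subgroup.centralizer ({g} : Set (SpecialLinearGroup (Fin 2) F))).index
  · have hpos := Nat.prime_two.factorization_pos_of_dvd Subgroup.index_ne_zero_of_finite hg
    have h1 := BlkC.mli_centralChar_of_lt hM χ g (by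
      unfold BlkC.nu
      rw [Nat.factorization_eq_zero_of_not_dvd hdeg]; exact hpos)
    have h2 := BlkC.mli_centralChar_of_lt hM (CharBase.oneIrr (SpecialLinearGroup (Fin 2) F)) g (by
      have : charDegree ((CharBase.oneIrr (SpecialLinearGroup (Fin 2) F) :
          IrrCharacter (SpecialLinearGroup (Fin 2) F)) : SpecialLinearGroup (Fin 2) F → ℂ) = 1 := by
        have h3 := BlkC.charDegree_spec (CharBase.oneIrr (SpecialLinearGroup (Fin 2) F))
        rw [CharBase.oneIrr_apply] at h3
        exact_mod_cast h3.symm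
      unfold BlkC.nu
      rw [this, Nat.factorization_one]
      simpa using hpos)
    exact Blk.mli_sub h2 h1
  · obtain ⟨x, hx⟩ := exists_isConj_of_not_dvd 2 hg
    have hx' : IsConj g (uSL x) := by
      rcases hx with h3 | h3
      · exact h3
      · have : -uSL x = uSL x := by
          apply Subtype.ext
          rw [SpecialLinearGroup.coe_neg]
          change -!![1, x; 0, 1] = !![1, x; 0, 1]
          have h4 : ∀ a : F, -a = a := fun a => by
            have : a + a = 0 := by rw [← two_mul, h2, zero_mul]
            exact neg_eq_of_add_eq_zero_left this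
          ext i j
          rw [Matrix.neg_apply, h4]
        rwa [this] at h3
    by_cases hx0 : x = 0
    · have hg1 : g = 1 := by
        rw [hx0] at hx'
        have h3 : (uSL (0 : F)) = 1 := by
          apply Subtype.ext
          change !![1, 0; 0, 1] = (1 : Matrix (Fin 2) (Fin 2) F)
          rw [Matrix.one_fin_two]
        rw [h3] at hx'
        exact isConj_one_left.mp hx'
      have h3 : centralChar (fun _ : SpecialLinearGroup (Fin 2) F => (1 : ℂ)) g -
          centralChar (χ : SpecialLinearGroup (Fin 2) F → ℂ) g = 0 := by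
        unfold centralChar
        rw [hg1, mul_div_assoc, mul_div_assoc, div_self hχ1]
        simp
      rw [h3]
      exact Blk.mli_zero
    · have hgu : IsConj g (uSL 1) := hx'.trans (isConj_uSL h2 hx0).symm
      have hidx : (Subgroup.centralizer ({g} : Set (SpecialLinearGroup (Fin 2) F))).index =
          (Fintype.card F + 1) * (Fintype.card F - 1) := by
        rw [← index_u h2]
        exact index_conj hgu
      have hχg : (χ : SpecialLinearGroup (Fin 2) F → ℂ) g = (χ : SpecialLinearGroup (Fin 2) F → ℂ) (uSL 1) := by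
        obtain ⟨c, hc⟩ := isConj_iff.mp hgu
        rw [← hc]
        exact ((CharBase.irr_isClassFunction χ) g c).symm
      have hqc : ((Fintype.card F - 1 : ℕ) : ℂ) = (Fintype.card F : ℂ) - 1 := by
        rw [Nat.cast_sub hq.le, Nat.cast_one]
      have hqm : (Fintype.card F : ℂ) - 1 ≠ 0 := by
        rw [← hqc]
        exact_mod_cast (by omega : Fintype.card F - 1 ≠ 0)
      have hqp : (Fintype.card F : ℂ) + 1 ≠ 0 := by
        exact_mod_cast (by omega : Fintype.card F + 1 ≠ 0)
      have h3 : ∃ m : ℕ, 2 ∣ m ∧ centralChar (fun _ : SpecialLinearGroup (Fin 2) F => (1 : ℂ)) g -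
          centralChar (χ : SpecialLinearGroup (Fin 2) F → ℂ) g = (m : ℂ) := by
        unfold centralChar
        rw [hidx, hχg]
        rcases h with ⟨h4, h5⟩ | ⟨h4, h5⟩
        · refine ⟨(Fintype.card F - 1) * Fintype.card F, Dvd.dvd.mul_left hev _, ?_⟩
          rw [h4, h5]
          push_cast
          rw [hqc]
          field_simp
          ring
        · refine ⟨(Fintype.card F + 1) * Fintype.card F, Dvd.dvd.mul_left hev _, ?_⟩
          rw [h4, h5]
          push_cast
          rw [hqc]
          field_simp
          ring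
      obtain ⟨m, hm, he⟩ := h3
      rw [he, Blk.mli_natCast_iff hM]
      exact hm

theorem card_block_sl (hM : IsPModular 2 M) (h2 : (2 : F) = 0) (hq : 3 ≤ Fintype.card F) :
    Fintype.card F ≤ Nat.card (principalBlock M (SpecialLinearGroup (Fin 2) F)) := by
  classical
  have := hM.2.1.isPrime
  obtain ⟨h1, h3, h4⟩ := deg_sl_even (F := F) h2
  obtain ⟨h5, -, h6⟩ := h4 hq
  have hone : CharBase.oneIrr (SpecialLinearGroup (Fin 2) F) ∈
      principalBlock M (SpecialLinearGroup (Fin 2) F) := by
    intro g
    rw [show centralChar (fun _ : SpecialLinearGroup (Fin 2) F => (1 : ℂ)) g -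
      centralChar ((CharBase.oneIrr (SpecialLinearGroup (Fin 2) F) :
        IrrCharacter (SpecialLinearGroup (Fin 2) F)) : SpecialLinearGroup (Fin 2) F → ℂ) g = 0 from
      sub_eq_zero.mpr rfl]
    exact Blk.mli_zero
  let A := {χ : IrrCharacter (SpecialLinearGroup (Fin 2) F) // (χ : SpecialLinearGroup (Fin 2) F → ℂ) 1 = (Fintype.card F : ℂ) + 1}
  let B := {χ : IrrCharacter (SpecialLinearGroup (Fin 2) F) // (χ : SpecialLinearGroup (Fin 2) F → ℂ) 1 = (Fintype.card F : ℂ) - 1}
  have hqR : (3 : ℝ) ≤ (Fintype.card F : ℝ) := by exact_mod_cast hq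
  have hne1 : (Fintype.card F : ℂ) + 1 ≠ 1 := by
    intro h
    have := congrArg Complex.re h
    simp at this
  have hne2 : (Fintype.card F : ℂ) - 1 ≠ 1 := by
    intro h
    have := congrArg Complex.re h
    simp at this
    linarith
  have hne3 : (Fintype.card F : ℂ) + 1 ≠ (Fintype.card F : ℂ) - 1 := by
    intro h
    have := congrArg Complex.re h
    simp at this
    linarith
  have hne4 : (Fintype.card F : ℂ) + 1 ≠ (Fintype.card F : ℂ) := by
    intro h
    have := congrArg Complex.re h
    simp at this
  have hne5 : (Fintype.card F : ℂ) - 1 ≠ (Fintype.card F : ℂ) := by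
    intro h
    have := congrArg Complex.re h
    simp at this
  have hst : ∀ χ : IrrCharacter (SpecialLinearGroup (Fin 2) F),
      (χ : SpecialLinearGroup (Fin 2) F → ℂ) = pSL 1 - (fun _ => (1 : ℂ)) →
      (χ : SpecialLinearGroup (Fin 2) F → ℂ) 1 = Fintype.card F := by
    intro χ hχ
    rw [hχ]
    show pSL 1 1 - 1 = _
    rw [pSL_one]; ring
  let f : A ⊕ B ⊕ Unit → principalBlock M (SpecialLinearGroup (Fin 2) F) := fun z =>
    match z with
    | Sum.inl a => ⟨a.1, by
        apply mem_principal hM h2
        rcases h1 a.1 with h | h | h | h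
        · exfalso
          have := a.2
          rw [h] at this
          exact hne1 this.symm
        · exfalso
          have := a.2
          rw [hst _ h] at this
          exact hne4 this.symm
        · exact Or.inl h
        · exact Or.inr h⟩
    | Sum.inr (Sum.inl b) => ⟨b.1, by
        apply mem_principal hM h2
        rcases h1 b.1 with h | h | h | h
        · exfalso
          have := b.2
          rw [h] at this
          exact hne2 this.symm
        · exfalso
          have := b.2
          rw [hst _ h] at this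
          exact hne5 this.symm
        · exact Or.inl h
        · exact Or.inr h⟩
    | Sum.inr (Sum.inr _) => ⟨CharBase.oneIrr _, hone⟩
  have hf : Function.Injective f := by
    rintro (⟨a, ha⟩ | ⟨b, hb⟩ | _) (⟨a', ha'⟩ | ⟨b', hb'⟩ | _) h
    all_goals have h7 := congrArg Subtype.val h
    · exact congrArg Sum.inl (Subtype.ext h7)
    · exfalso
      change a = b' at h7
      rw [h7, hb'] at ha
      exact hne3 ha.symm
    · exfalso
      change a = CharBase.oneIrr _ at h7
      rw [h7, CharBase.oneIrr_apply] at ha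
      exact hne1 ha.symm
    · exfalso
      change b = a' at h7
      rw [h7, ha'] at hb
      exact hne3 hb
    · exact congrArg (fun z => Sum.inr (Sum.inl z)) (Subtype.ext h7)
    · exfalso
      change b = CharBase.oneIrr _ at h7
      rw [h7, CharBase.oneIrr_apply] at hb
      exact hne2 hb.symm
    · exfalso
      change CharBase.oneIrr _ = a' at h7
      rw [← h7, CharBase.oneIrr_apply] at ha'
      exact hne1 ha'.symm
    · exfalso
      change CharBase.oneIrr _ = b' at h7
      rw [← h7, CharBase.oneIrr_apply] at hb'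
      exact hne2 hb'.symm
    · rfl
  have h7 := Nat.card_le_card_of_injective f hf
  rw [Nat.card_sum, Nat.card_sum, Nat.card_unique (α := Unit)] at h7
  have h8 : Nat.card A * 2 + 2 = Fintype.card F := h3
  have h9 : Nat.card B * 2 = Fintype.card F := h6
  omega

end SL

end Cfsg.Agent.H76.AbS
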