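import Cfsg.Agent.CharBase.Column
import Cfsg.Agent.Supersolvable.Hereditary
import Cfsg.Agent.Coh.FrobArith
import Cfsg.Agent.OddP.Class3

/-!
# A p-group outside whose commutator subgroup there is one class (under a larger group)
-/

set_option autoImplicit false
set_option linter.unusedSectionVars false

namespace Cfsg.Agent.H76

open scoped commutatorElement
open Subgroup

/-- If the class of `x` is the coset `x Y`, then `|C(x)| |Y| = |Q|`. -/
theorem card_centralizer_of_cam {Q : Type*} [Group Q] [Finite Q] (Y : Subgroup Q) (x : Q)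
    (h1 : ∀ y ∈ Y, IsConj x (x * y)) (h2 : ∀ g, IsConj x g → x⁻¹ * g ∈ Y) :
    Nat.card (centralizer ({x} : Set Q)) * Nat.card Y = Nat.card Q := by
  rw [mul_comm, ← CharBase.card_isConj_mul_card_centralizer x]
  congr 1
  apply Nat.card_congr
  exact
    { toFun := fun y => ⟨x * y, h1 y y.2⟩
      invFun := fun g => ⟨x⁻¹ * g, h2 g g.2⟩
      left_inv := fun y => Subtype.ext (by simp)
      right_inv := fun g => Subtype.ext (by simp) }

variable {Γ : Type*} [Group Γ] [Finite Γ]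

theorem relIndex_lt_of_cam (P Y A B : Subgroup Γ) [hB : B.Normal] (hBA : B ≤ A) (hAY : A ≤ Y)
    (hYP : Y ≤ P) {x : Γ} (hxP : x ∈ P) (hxY : x ∉ Y)
    (hcam : ∀ y ∈ Y, ∃ u ∈ P, u * x * u⁻¹ = x * y)
    (hP' : ∀ u ∈ P, x⁻¹ * (u * x * u⁻¹) ∈ Y)
    (hcen : ∀ a ∈ A, x⁻¹ * (a * x * a⁻¹) ∈ B) :
    B.relIndex A < Y.relIndex P := by
  set f := QuotientGroup.mk' (B.subgroupOf P) with hf
  have hfs : Function.Surjective f := QuotientGroup.mk'_surjective _
  have hBY : B ≤ Y := hBA.trans hAY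
  have hBP : B ≤ P := hBY.trans hYP
  have hrel : ∀ D : Subgroup Γ, D ≤ P → Nat.card ((D.subgroupOf P).map f) = B.relIndex D := by
    intro D hD
    rw [← Subgroup.relIndex_ker, hf, QuotientGroup.ker_mk',
      Subgroup.relIndex_subgroupOf hD]
  set X : ↥P ⧸ B.subgroupOf P := f ⟨x, hxP⟩ with hX
  have hmem : ∀ (D : Subgroup Γ), B ≤ D → ∀ d : P, f d ∈ (D.subgroupOf P).map f → (d : Γ) ∈ D := by
    intro D hD d hd
    obtain ⟨e, he, hde⟩ := hd
    have h1 : e⁻¹ * d ∈ B.subgroupOf P := QuotientGroup.eq.mp hde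
    have h2 : (e : Γ)⁻¹ * d ∈ B := h1
    have h3 : (e : Γ) ∈ D := he
    have h4 : (d : Γ) = e * ((e : Γ)⁻¹ * d) := by group
    rw [h4]
    exact D.mul_mem h3 (hD h2)
  have hC := card_centralizer_of_cam ((Y.subgroupOf P).map f) X (by
      rintro _ ⟨y, hy, rfl⟩
      obtain ⟨u, hu, he⟩ := hcam y hy
      rw [isConj_iff]
      refine ⟨f ⟨u, hu⟩, ?_⟩
      rw [hX, ← map_mul, ← map_inv, ← map_mul, ← map_mul]
      congr 1
      exact Subtype.ext he) (by
      intro g hg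
      obtain ⟨c, hc⟩ := isConj_iff.mp hg
      obtain ⟨u, rfl⟩ := hfs c
      refine ⟨⟨x, hxP⟩⁻¹ * (u * ⟨x, hxP⟩ * u⁻¹), ?_, ?_⟩
      · exact hP' u u.2
      · rw [← hc, map_mul, map_mul, map_mul, map_inv, map_inv])
  rw [hrel Y hYP] at hC
  have hQ : Nat.card (↥P ⧸ B.subgroupOf P) = B.relIndex Y * Y.relIndex P := by
    rw [Subgroup.relIndex_mul_relIndex B Y P hBY hYP]; rfl
  rw [hQ, mul_comm] at hC
  have hpos : 0 < B.relIndex Y := Nat.pos_of_ne_zero
    (Subgroup.index_ne_zero_of_finite (H := B.subgroupOf Y))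
  have hC' := Nat.eq_of_mul_eq_mul_left hpos hC
  rw [← hC', ← hrel A (hAY.trans hYP)]
  have hle : (A.subgroupOf P).map f ≤ centralizer ({X} : Set _) := by
    rintro _ ⟨a, ha, rfl⟩
    rw [mem_centralizer_singleton_iff]
    have h1 := hcen a ha
    have h2 : f (⟨x, hxP⟩⁻¹ * (a * ⟨x, hxP⟩ * a⁻¹)) = 1 := by
      rw [hf, QuotientGroup.mk'_apply, QuotientGroup.eq_one_iff]
      exact h1
    rw [map_mul, map_mul, map_mul, map_inv, map_inv, ← hX, inv_mul_eq_one] at h2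
    rw [eq_comm, mul_inv_eq_iff_eq_mul] at h2
    exact h2
  apply lt_of_le_of_ne
  · exact Subgroup.card_le_of_le hle
  · intro he
    have h1 := Subgroup.eq_of_le_of_card_ge hle he.ge
    have h2 : X ∈ centralizer ({X} : Set (↥P ⧸ B.subgroupOf P)) := by
      rw [mem_centralizer_singleton_iff]
    rw [← h1] at h2
    exact hxY (hAY (hmem A hBA ⟨x, hxP⟩ h2))

/-- `A / B` is a chief factor of `Γ`. -/
def IsChief (B A : Subgroup Γ) : Prop :=
  A.Normal ∧ B.Normal ∧ B < A ∧ ∀ D : Subgroup Γ, D.Normal → B ≤ D → D ≤ A → D = B ∨ D = A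

theorem mem_map_mk {B A : Subgroup Γ} [B.Normal] (h : B ≤ A) (a : Γ) :
    QuotientGroup.mk' B a ∈ A.map (QuotientGroup.mk' B) ↔ a ∈ A := by
  constructor
  · rintro ⟨c, hc, he⟩
    have h1 : c⁻¹ * a ∈ B := QuotientGroup.eq.mp he
    have h2 : a = c * (c⁻¹ * a) := by group
    rw [h2]
    exact A.mul_mem hc (h h1)
  · intro ha
    exact ⟨a, ha, rfl⟩

theorem chief_central {p : ℕ} [Fact p.Prime] {A B P : Subgroup Γ} (h : IsChief B A) [hPn : P.Normal]
    (hP : IsPGroup p P) (hAP : A ≤ P) {a u : Γ} (ha : a ∈ A) (hu : u ∈ P) : ⁅a, u⁆ ∈ B := by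
  obtain ⟨hA, hB, hlt, hmax⟩ := h
  set f := QuotientGroup.mk' B with hf
  have hfs : Function.Surjective f := QuotientGroup.mk'_surjective _
  have hPf : (P.map f).Normal := Subgroup.Normal.map hPn _ hfs
  have hAf : (A.map f).Normal := Subgroup.Normal.map hA _ hfs
  have h1 := Cfsg.Agent.Supersolvable.inf_centralizer_ne_bot (P.map f) (A.map f) (hP.map f)
    ((hP.to_le hAP).map f) (fun x _ => by rw [Subgroup.normalizer_eq_top]; trivial) (by
      intro h2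
      apply hlt.ne
      apply le_antisymm hlt.le
      intro c hc
      have h3 : f c ∈ A.map f := ⟨c, hc, rfl⟩
      rw [h2, mem_bot, hf, QuotientGroup.mk'_apply, QuotientGroup.eq_one_iff] at h3
      exact h3)
  have hCn : (centralizer (P.map f : Set (Γ ⧸ B))).Normal := Subgroup.normal_centralizer
  have h4 := hmax (A ⊓ (centralizer (P.map f : Set (Γ ⧸ B))).comap f) inferInstance
    (le_inf hlt.le (fun c hc => by
      rw [mem_comap]
      have : f c = 1 := by rw [hf, QuotientGroup.mk'_apply, QuotientGroup.eq_one_iff]; exact hc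
      rw [this]; exact one_mem _)) inf_le_left
  rcases h4 with h4 | h4
  · exfalso
    apply h1
    rw [eq_bot_iff]
    rintro _ ⟨⟨c, hc, rfl⟩, hc2⟩
    have h5 : c ∈ A ⊓ (centralizer (P.map f : Set (Γ ⧸ B))).comap f := ⟨hc, hc2⟩
    rw [h4] at h5
    rw [mem_bot, hf, QuotientGroup.mk'_apply, QuotientGroup.eq_one_iff]
    exact h5
  · rw [← h4] at ha
    have h5 : f a ∈ centralizer (P.map f : Set (Γ ⧸ B)) := ha.2
    have h6 := mem_centralizer_iff.mp h5 (f u) ⟨u, hu, rfl⟩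
    have h7 : f ⁅a, u⁆ = 1 := by
      rw [commutatorElement_def, map_mul, map_mul, map_mul, map_inv, map_inv, ← h6]
      group
    rw [hf, QuotientGroup.mk'_apply, QuotientGroup.eq_one_iff] at h7
    exact h7

/-- the centralizer of the factor `A / B` -/
def facCent (B A : Subgroup Γ) [B.Normal] : Subgroup Γ :=
  (centralizer (A.map (QuotientGroup.mk' B) : Set (Γ ⧸ B))).comap (QuotientGroup.mk' B)

theorem mem_facCent {B A : Subgroup Γ} [B.Normal] {g : Γ} :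
    g ∈ facCent B A ↔ ∀ a ∈ A, ⁅g, a⁆ ∈ B := by
  unfold facCent
  rw [mem_comap, mem_centralizer_iff]
  constructor
  · intro h a ha
    have h1 := h _ ⟨a, ha, rfl⟩
    have h2 : QuotientGroup.mk' B ⁅g, a⁆ = 1 := by
      rw [commutatorElement_def, map_mul, map_mul, map_mul, map_inv, map_inv, ← h1]
      group
    rw [QuotientGroup.mk'_apply, QuotientGroup.eq_one_iff] at h2
    exact h2
  · rintro h _ ⟨a, ha, rfl⟩
    have h1 := h a ha
    have h2 : QuotientGroup.mk' B ⁅g, a⁆ = 1 := by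
      rw [QuotientGroup.mk'_apply, QuotientGroup.eq_one_iff]; exact h1
    rw [commutatorElement_def, map_mul, map_mul, map_mul, map_inv, map_inv, mul_inv_eq_one,
      mul_inv_eq_iff_eq_mul] at h2
    exact h2.symm

theorem index_dvd_card_sub_one_of_central (V W : Subgroup Γ) [W.Normal]
    (hV : ∀ a ∈ V, ∀ b ∈ W, a * b = b * a)
    (hC : ∀ w ∈ W, w ≠ 1 → ∀ x : Γ, x * w = w * x → x ∈ V) : V.index ∣ Nat.card W - 1 := by
  classical
  let _ := Coh.conjNe W
  have : Fintype Γ := Fintype.ofFinite _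
  have : Fintype {w : Γ // w ∈ W ∧ w ≠ 1} := Fintype.ofFinite _
  have hstab : ∀ w : {w : Γ // w ∈ W ∧ w ≠ 1}, MulAction.stabilizer Γ w = V := by
    intro w
    ext x
    rw [MulAction.mem_stabilizer_iff]
    have h1 : x • w = w ↔ x * (w : Γ) * x⁻¹ = w := by
      constructor
      · intro h; exact congrArg Subtype.val h
      · intro h; exact Subtype.ext h
    rw [h1, mul_inv_eq_iff_eq_mul]
    constructor
    · exact hC w w.2.1 w.2.2 x
    · intro hx
      exact hV x hx w w.2.1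
  have hcard : Nat.card {w : Γ // w ∈ W ∧ w ≠ 1} = Nat.card W - 1 := by
    have h1 : Nat.card {w : Γ // w ∈ W ∧ w ≠ 1} = Nat.card {w : W // w ≠ 1} :=
      Nat.card_congr
        { toFun := fun w => ⟨⟨w, w.2.1⟩, fun h => w.2.2 (congrArg Subtype.val h)⟩
          invFun := fun w => ⟨w, w.1.2, fun h => w.2 (Subtype.ext h)⟩
          left_inv := fun w => rfl
          right_inv := fun w => rfl }
    rw [h1]
    have : Fintype W := Fintype.ofFinite _
    rw [Nat.card_eq_fintype_card, Fintype.card_subtype_compl, Fintype.card_subtype_eq,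
      ← Nat.card_eq_fintype_card]
  rw [← hcard]
  have hdvd := MulAction.card_eq_sum_card_group_div_card_stabilizer' Γ
    {w : Γ // w ∈ W ∧ w ≠ 1} (φ := Quotient.out) (fun x => Quotient.out_eq' x)
  rw [Nat.card_eq_fintype_card, hdvd]
  refine Finset.dvd_sum fun ω _ => ?_
  have h2 : Fintype.card Γ / Fintype.card (MulAction.stabilizer Γ (Quotient.out ω)) = V.index := by
    rw [← Nat.card_eq_fintype_card, ← Nat.card_eq_fintype_card, hstab]
    rw [← V.card_mul_index, Nat.mul_div_cancel_left _ Nat.card_pos]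
  rw [h2]

theorem chief_dvd {A B : Subgroup Γ} [hB' : B.Normal] (h : IsChief B A)
    (hab : ∀ g h : Γ, ⁅g, h⁆ ∈ facCent B A) : (facCent B A).index ∣ B.relIndex A - 1 := by
  obtain ⟨hA, hB, hlt, hmax⟩ := h
  set f := QuotientGroup.mk' B with hf
  have hfs : Function.Surjective f := QuotientGroup.mk'_surjective _
  have hAf : (A.map f).Normal := Subgroup.Normal.map hA _ hfs
  have h1 : (facCent B A).index = (centralizer (A.map f : Set (Γ ⧸ B))).index :=
    Subgroup.index_comap_of_surjective _ hfs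
  have h2 : B.relIndex A = Nat.card (A.map f) := by
    rw [← Subgroup.relIndex_ker, hf, QuotientGroup.ker_mk']
  rw [h1, h2]
  apply index_dvd_card_sub_one_of_central
  · intro a ha b hb
    exact (mem_centralizer_iff.mp ha b hb).symm
  · intro w hw hw1 x hxw
    have hFn : (A.map f ⊓ centralizer ({x} : Set (Γ ⧸ B))).Normal := by
      constructor
      rintro c ⟨hc1, hc2⟩ g
      refine ⟨hAf.conj_mem _ hc1 g, ?_⟩
      replace hc2 : c ∈ centralizer ({x} : Set (Γ ⧸ B)) := hc2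
      change g * c * g⁻¹ ∈ centralizer ({x} : Set (Γ ⧸ B))
      rw [mem_centralizer_singleton_iff] at hc2 ⊢
      obtain ⟨g', rfl⟩ := hfs g
      obtain ⟨x', rfl⟩ := hfs x
      have h3 : f ⁅x'⁻¹, g'⁆ ∈ centralizer (A.map f : Set (Γ ⧸ B)) := hab x'⁻¹ g'
      have h4 := mem_centralizer_iff.mp h3 (f g' * c * (f g')⁻¹) (hAf.conj_mem _ hc1 _)
      simp only [commutatorElement_def, map_mul, map_inv, inv_inv] at h4
      set X := f x'
      set Y := f g'
      have h5 : Y * c * Y⁻¹ * (Y * X * Y⁻¹) = Y * X * Y⁻¹ * (Y * c * Y⁻¹) := by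
        have : Y * c * Y⁻¹ * (Y * X * Y⁻¹) = Y * (c * X) * Y⁻¹ := by group
        rw [this, hc2]; group
      have h6 : Y * X * Y⁻¹ = X * (X⁻¹ * Y * X * Y⁻¹) := by group
      rw [h6] at h5
      have h7 : Y * c * Y⁻¹ * X * (X⁻¹ * Y * X * Y⁻¹) =
          X * (Y * c * Y⁻¹) * (X⁻¹ * Y * X * Y⁻¹) := by
        rw [mul_assoc (Y * c * Y⁻¹) X, h5, mul_assoc X, ← h4, mul_assoc X]
      exact mul_right_cancel h7
    have h3 := hmax (A ⊓ (A.map f ⊓ centralizer ({x} : Set (Γ ⧸ B))).comap f) inferInstance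
      (le_inf hlt.le (fun c hc => by
        rw [mem_comap]
        have : f c = 1 := by rw [hf, QuotientGroup.mk'_apply, QuotientGroup.eq_one_iff]; exact hc
        rw [this]; exact one_mem _)) inf_le_left
    rcases h3 with h3 | h3
    · exfalso
      apply hw1
      obtain ⟨w', hw', rfl⟩ := hw
      have h4 : w' ∈ A ⊓ (A.map f ⊓ centralizer ({x} : Set (Γ ⧸ B))).comap f := by
        refine ⟨hw', ⟨w', hw', rfl⟩, ?_⟩
        change f w' ∈ centralizer ({x} : Set (Γ ⧸ B))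
        rw [mem_centralizer_singleton_iff]
        exact hxw.symm
      rw [h3] at h4
      rw [hf, QuotientGroup.mk'_apply, QuotientGroup.eq_one_iff]
      exact h4
    · rw [mem_centralizer_iff]
      rintro _ ⟨a, ha, rfl⟩
      have ha' : a ∈ A := ha
      rw [← h3] at ha'
      exact mem_centralizer_singleton_iff.mp ha'.2.2

theorem arith_bound {p k a m : ℕ} (hp : 2 ≤ p) (ha : 0 < a) (hak : a < k) (h1 : m ∣ p ^ a - 1)
    (h2 : m ∣ p ^ k - 1) : ∃ s, 2 ≤ s ∧ s ^ 2 ≤ p ^ k ∧ m ≤ s - 1 := by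
  have h3 := Nat.dvd_gcd h1 h2
  rw [Nat.pow_sub_one_gcd_pow_sub_one] at h3
  set d := Nat.gcd a k with hd
  have hd0 : 0 < d := Nat.gcd_pos_of_pos_left _ ha
  have hda : d ≤ a := Nat.gcd_le_left _ ha
  obtain ⟨c, hc⟩ := Nat.gcd_dvd_right a k
  rw [← hd] at hc
  have hc2 : 2 ≤ c := by
    rcases Nat.lt_or_ge c 2 with h | h
    · exfalso
      have : d * c ≤ d * 1 := Nat.mul_le_mul_left _ (by omega)
      omega
    · exact h
  have hs : 2 ≤ p ^ d := by
    calc 2 = 2 ^ 1 := rfl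
      _ ≤ p ^ 1 := by simpa using hp
      _ ≤ p ^ d := Nat.pow_le_pow_right (by omega) hd0
  refine ⟨p ^ d, hs, ?_, Nat.le_of_dvd (by omega) h3⟩
  rw [← pow_mul]
  apply Nat.pow_le_pow_right (by omega)
  rw [hc]
  exact Nat.mul_le_mul_left _ hc2

theorem arith_final {q s t m n : ℕ} (hs : 2 ≤ s) (ht : 2 ≤ t) (hs2 : s ^ 2 ≤ q) (ht2 : t ^ 2 ≤ q)
    (hm : m ≤ s - 1) (hn : n ≤ t - 1) : m * n < q - 1 := by
  have h1 : m * n ≤ (s - 1) * (t - 1) := Nat.mul_le_mul hm hn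
  obtain ⟨s, rfl⟩ : ∃ s', s = s' + 1 := ⟨s - 1, by omega⟩
  obtain ⟨t, rfl⟩ : ∃ t', t = t' + 1 := ⟨t - 1, by omega⟩
  simp only [Nat.add_sub_cancel] at h1
  have h2 : (s * t) < q - 1 := by
    have h3 : s * t + 1 < q := by
      rcases le_total s t with h | h <;> nlinarith
    omega
  omega

/-- The set-up: `P` a normal `p`-subgroup of `Γ`, `Y = P'`, one class outside. -/
structure CamSetup (p k : ℕ) (P Y : Subgroup Γ) : Prop where
  hPn : P.Normal
  hYn : Y.Normal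
  hP : IsPGroup p P
  hYP : Y ≤ P
  hq : Y.relIndex P = p ^ k
  hidx : P.index = p ^ k - 1
  hone : ∀ x ∈ P, x ∉ Y → ∀ x' ∈ P, x' ∉ Y → ∃ g, g * x * g⁻¹ = x'
  hcam : ∀ x ∈ P, x ∉ Y → ∀ y ∈ Y, ∃ u ∈ P, u * x * u⁻¹ = x * y
  hP' : ∀ x ∈ P, ∀ u ∈ P, x⁻¹ * (u * x * u⁻¹) ∈ Y
  hfree : ∀ g, ∀ x ∈ P, x ∉ Y → x⁻¹ * (g * x * g⁻¹) ∈ Y → g ∈ P
  hab : ∀ a b : Γ, ⁅a, b⁆ ∈ P

theorem CamSetup.chief_index {p k : ℕ} [hpf : Fact p.Prime] {P Y : Subgroup Γ}
    (h : CamSetup p k P Y) {x : Γ} (hx : x ∈ P) (hxY : x ∉ Y) {A B : Subgroup Γ} [hB : B.Normal]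
    (hAB : IsChief B A) (hAY : A ≤ Y) :
    ∃ s, 2 ≤ s ∧ s ^ 2 ≤ p ^ k ∧ (facCent B A).index ≤ s - 1 ∧ P ≤ facCent B A := by
  have := h.hPn
  have hAP := hAY.trans h.hYP
  have hc : ∀ a ∈ A, ∀ u ∈ P, ⁅a, u⁆ ∈ B := fun a ha u hu => chief_central hAB h.hP hAP ha hu
  have hPC : P ≤ facCent B A := by
    intro u hu
    rw [mem_facCent]
    intro a ha
    rw [← commutatorElement_inv]
    exact B.inv_mem (hc a ha u hu)
  have h1 := chief_dvd hAB (fun g k => hPC (h.hab g k))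
  have h2 : B.relIndex A < p ^ k := by
    rw [← h.hq]
    apply relIndex_lt_of_cam P Y A B hAB.2.2.1.le hAY h.hYP hx hxY (h.hcam x hx hxY)
      (fun u hu => h.hP' x hx u hu)
    intro a ha
    have h3 := hB.conj_mem _ (hc a ha x hx) x⁻¹
    rw [commutatorElement_def] at h3
    have h4 : x⁻¹ * (a * x * a⁻¹) = x⁻¹ * (a * x * a⁻¹ * x⁻¹) * x⁻¹⁻¹ := by group
    rw [h4]; exact h3
  obtain ⟨a, ha⟩ : ∃ a, B.relIndex A = p ^ a :=
    (IsPGroup.iff_card.mp (h.hP.to_le hAP)).elim fun n hn => by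
      have h5 : B.relIndex A ∣ p ^ n := by rw [← hn]; exact Subgroup.relIndex_dvd_card B A
      obtain ⟨a, _, ha⟩ := (Nat.dvd_prime_pow hpf.out).mp h5
      exact ⟨a, ha⟩
  have ha0 : 0 < a := by
    rcases Nat.eq_zero_or_pos a with h0 | h0
    · exfalso
      rw [h0, pow_zero, Subgroup.relIndex_eq_one] at ha
      exact absurd (le_antisymm hAB.2.2.1.le ha) hAB.2.2.1.ne
    · exact h0
  rw [ha] at h1 h2
  have hak : a < k := (Nat.pow_lt_pow_iff_right hpf.out.one_lt).mp h2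
  obtain ⟨s, hs, hs2, hm⟩ := arith_bound hpf.out.two_le ha0 hak h1 (by
    rw [← h.hidx]; exact Subgroup.index_dvd_of_le hPC)
  exact ⟨s, hs, hs2, hm, hPC⟩

theorem CamSetup.comm_eq_bot {p k : ℕ} [hpf : Fact p.Prime] {P Y : Subgroup Γ}
    (h : CamSetup p k P Y) {x : Γ} (hx : x ∈ P) (hxY : x ∉ Y) : ⁅Y, P⁆ = ⊥ := by
  by_contra hT
  have hPn := h.hPn
  have hYn := h.hYn
  have hTn : (⁅Y, P⁆ : Subgroup Γ).Normal := inferInstance
  have hTY : ⁅Y, P⁆ ≤ Y := Subgroup.commutator_le_left Y P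
  obtain ⟨R, hR⟩ := Set.Finite.exists_maximal
    (Set.toFinite {D : Subgroup Γ | D.Normal ∧ D < ⁅Y, P⁆})
    ⟨⊥, inferInstance, bot_lt_iff_ne_bot.mpr hT⟩
  have hRn : R.Normal := hR.1.1
  have hRT : R < ⁅Y, P⁆ := hR.1.2
  have hc1 : IsChief R ⁅Y, P⁆ := by
    refine ⟨hTn, hRn, hRT, fun D hD hRD hDT => ?_⟩
    rcases hDT.eq_or_lt with h1 | h1
    · exact Or.inr h1
    · exact Or.inl (le_antisymm (hR.2 ⟨hD, h1⟩ hRD) hRD)
  obtain ⟨U, hU⟩ := Set.Finite.exists_minimal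
    (Set.toFinite {D : Subgroup Γ | D.Normal ∧ D ≤ Y ∧ ¬ ⁅D, P⁆ ≤ R})
    ⟨Y, hYn, le_rfl, not_le_of_gt hRT⟩
  have hUn : U.Normal := hU.1.1
  have hUY : U ≤ Y := hU.1.2.1
  have hUR : ¬ ⁅U, P⁆ ≤ R := hU.1.2.2
  set f := QuotientGroup.mk' R with hf
  have hfs : Function.Surjective f := QuotientGroup.mk'_surjective _
  have hPf : (P.map f).Normal := Subgroup.Normal.map hPn _ hfs
  have hCn : (centralizer (P.map f : Set (Γ ⧸ R))).Normal := Subgroup.normal_centralizer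
  set U₀ : Subgroup Γ := U ⊓ (centralizer (P.map f : Set (Γ ⧸ R))).comap f with hU₀
  have hU₀n : U₀.Normal := inferInstance
  have hmem₀ : ∀ u, u ∈ U₀ ↔ u ∈ U ∧ ∀ z ∈ P, ⁅u, z⁆ ∈ R := by
    intro u
    have h2 : u ∈ (centralizer (P.map f : Set (Γ ⧸ R))).comap f ↔ ∀ z ∈ P, ⁅u, z⁆ ∈ R :=
      mem_facCent (B := R) (A := P)
    rw [hU₀, Subgroup.mem_inf, h2]
  have hc2 : IsChief U₀ U := by
    refine ⟨hUn, hU₀n, ?_, fun D hD hRD hDT => ?_⟩
    · apply lt_of_le_of_ne inf_le_left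
      intro he
      apply hUR
      rw [Subgroup.commutator_le]
      intro u hu z hz
      rw [← he] at hu
      exact ((hmem₀ u).mp hu).2 z hz
    · rcases hDT.eq_or_lt with h1 | h1
      · exact Or.inr h1
      · left
        refine le_antisymm ?_ hRD
        intro d hd
        rw [hmem₀]
        refine ⟨hDT hd, fun z hz => ?_⟩
        by_contra h3
        have h4 := hU.2 (y := D) ⟨hD, hDT.trans hUY, fun h5 => h3 (h5 (Subgroup.commutator_mem_commutator hd hz))⟩ hDT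
        exact absurd h4 (not_le_of_gt h1)
  obtain ⟨s, hs, hs2, hm, hPC₁⟩ := h.chief_index hx hxY hc1 hTY
  obtain ⟨t, ht, ht2, hn, hPC₂⟩ := h.chief_index hx hxY hc2 hUY
  have hlt := arith_final hs ht hs2 ht2 hm hn
  rw [← h.hidx] at hlt
  have hne : ¬ (facCent R ⁅Y, P⁆ ⊓ facCent U₀ U) ≤ P := by
    intro h1
    have h2 : P = facCent R ⁅Y, P⁆ ⊓ facCent U₀ U := le_antisymm (le_inf hPC₁ hPC₂) h1
    have h3 := Subgroup.index_inf_le (H := facCent R ⁅Y, P⁆) (K := facCent U₀ U)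
    rw [← h2] at h3
    omega
  obtain ⟨b, hb, hbP⟩ := Set.not_subset.mp hne
  have hb1 := mem_facCent.mp hb.1
  have hb2 := mem_facCent.mp hb.2
  -- the commutator identities modulo `R`
  have hTc : ∀ a ∈ (⁅Y, P⁆ : Subgroup Γ), ∀ u ∈ P, ⁅a, u⁆ ∈ R :=
    fun a ha u hu => chief_central hc1 h.hP (hTY.trans h.hYP) ha hu
  set x' := x⁻¹ * (b * x * b⁻¹) with hx'
  have hbx : b * x * b⁻¹ = x * x' := by rw [hx']; group
  have hx'P : x' ∈ P := P.mul_mem (P.inv_mem hx) (hPn.conj_mem _ hx _)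
  have hx'Y : x' ∉ Y := fun h1 => hbP (h.hfree b x hx hxY h1)
  have key : ∀ u ∈ U, ⁅u, x'⁆ ∈ R := by
    intro u hu
    have e1 : f ⁅b, ⁅u, x⁆⁆ = 1 := by
      rw [hf, QuotientGroup.mk'_apply, QuotientGroup.eq_one_iff]
      exact hb1 _ (Subgroup.commutator_mem_commutator (hUY hu) hx)
    set u₀ := u⁻¹ * (b * u * b⁻¹) with hu₀
    have hu₀m : u₀ ∈ U₀ := by
      have h1 := hb2 u hu
      have h2 := hU₀n.conj_mem _ h1 u⁻¹
      have h3 : u₀ = u⁻¹ * ⁅b, u⁆ * u⁻¹⁻¹ := by rw [hu₀, commutatorElement_def]; group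
      rw [h3]; exact h2
    have hbu : b * u * b⁻¹ = u * u₀ := by rw [hu₀]; group
    have e2 : ∀ z ∈ P, f ⁅u₀, z⁆ = 1 := by
      intro z hz
      rw [hf, QuotientGroup.mk'_apply, QuotientGroup.eq_one_iff]
      exact ((hmem₀ u₀).mp hu₀m).2 z hz
    have e3 : ∀ z ∈ P, f ⁅⁅u, x⁆, z⁆ = 1 := by
      intro z hz
      rw [hf, QuotientGroup.mk'_apply, QuotientGroup.eq_one_iff]
      exact hTc _ (Subgroup.commutator_mem_commutator (hUY hu) hx) z hz
    have e4 : ∀ z ∈ P, f ⁅⁅u, x'⁆, z⁆ = 1 := by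
      intro z hz
      rw [hf, QuotientGroup.mk'_apply, QuotientGroup.eq_one_iff]
      exact hTc _ (Subgroup.commutator_mem_commutator (hUY hu) hx'P) z hz
    have e5 : f (b * ⁅u, x⁆ * b⁻¹) = f ⁅u, x⁆ := by
      have h1 : b * ⁅u, x⁆ * b⁻¹ = ⁅b, ⁅u, x⁆⁆ * ⁅u, x⁆ := by
        rw [commutatorElement_def b]; group
      rw [h1, map_mul, e1, one_mul]
    have e6 : b * ⁅u, x⁆ * b⁻¹ = ⁅u * u₀, x * x'⁆ := by
      rw [← hbu, ← hbx, commutatorElement_def, commutatorElement_def]; group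
    have e7 : f ⁅u * u₀, x * x'⁆ = f ⁅u, x * x'⁆ := by
      have h1 : ⁅u * u₀, x * x'⁆ = u * ⁅u₀, x * x'⁆ * u⁻¹ * ⁅u, x * x'⁆ := by
        simp only [commutatorElement_def]; group
      rw [h1, map_mul, map_mul, map_mul, e2 _ (P.mul_mem hx hx'P), mul_one, ← map_mul,
        mul_inv_cancel, map_one, one_mul]
    have e8 : f ⁅u, x * x'⁆ = f ⁅u, x⁆ * f ⁅u, x'⁆ := by
      have h1 : ⁅u, x * x'⁆ = ⁅u, x⁆ * (⁅x, ⁅u, x'⁆⁆ * ⁅u, x'⁆) := by
        simp only [commutatorElement_def]; group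
      have h2 : f ⁅x, ⁅u, x'⁆⁆ = 1 := by
        rw [← commutatorElement_inv, map_inv, e4 x hx, inv_one]
      rw [h1, map_mul, map_mul, h2, one_mul]
    have e9 : f ⁅u, x'⁆ = 1 := by
      have h1 : f ⁅u, x⁆ * f ⁅u, x'⁆ = f ⁅u, x⁆ := by
        rw [← e8, ← e7, ← e6, e5]
      exact mul_eq_left.mp h1
    rw [hf, QuotientGroup.mk'_apply, QuotientGroup.eq_one_iff] at e9
    exact e9
  have key2 : ∀ z ∈ P, z ∉ Y → ∀ u ∈ U, ⁅u, z⁆ ∈ R := by
    intro z hz hzY u hu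
    obtain ⟨g, rfl⟩ := h.hone x' hx'P hx'Y z hz hzY
    have h1 := hRn.conj_mem _ (key (g⁻¹ * u * g⁻¹⁻¹) (hUn.conj_mem _ hu g⁻¹)) g
    have h2 : ⁅u, g * x' * g⁻¹⁆ = g * ⁅g⁻¹ * u * g⁻¹⁻¹, x'⁆ * g⁻¹ := by
      simp only [commutatorElement_def]; group
    rw [h2]; exact h1
  apply hUR
  rw [Subgroup.commutator_le]
  intro u hu z hz
  by_cases hzY : z ∈ Y
  · have h1 : z * x ∉ Y := fun h2 => hxY (by
      have := Y.mul_mem (Y.inv_mem hzY) h2
      rwa [inv_mul_cancel_left] at this)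
    have h2 : ⁅u, z⁆ = ⁅u, z * x⁆ * (z * ⁅u, x⁆⁻¹ * z⁻¹) := by
      simp only [commutatorElement_def]; group
    rw [h2]
    refine R.mul_mem (key2 _ (P.mul_mem hz hx) h1 u hu) (hRn.conj_mem _ (R.inv_mem ?_) _)
    exact key2 x hx hxY u hu
  · exact key2 z hz hzY u hu

theorem CamSetup.pow_mem {p k : ℕ} [hpf : Fact p.Prime] {P Y : Subgroup Γ}
    (h : CamSetup p k P Y) {x : Γ} (hx : x ∈ P) : x ^ p ∈ Y := by
  classical
  have hYn := h.hYn
  by_cases hxY : x ∈ Y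
  · exact Y.pow_mem hxY p
  obtain ⟨n, hn⟩ := h.hP ⟨x, hx⟩
  have hn' : x ^ p ^ n ∈ Y := by
    have : x ^ p ^ n = 1 := congrArg Subtype.val hn
    rw [this]; exact one_mem _
  have hex : ∃ n, x ^ p ^ n ∈ Y := ⟨n, hn'⟩
  have h1 := Nat.find_spec hex
  have h2 : Nat.find hex ≠ 0 := by
    intro h0
    rw [h0, pow_zero, pow_one] at h1
    exact hxY h1
  obtain ⟨j, hj⟩ := Nat.exists_eq_succ_of_ne_zero h2
  have h3 : x ^ p ^ j ∉ Y := Nat.find_min hex (by omega)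
  obtain ⟨g, hg⟩ := h.hone (x ^ p ^ j) (P.pow_mem hx _) h3 x hx hxY
  rw [hj, Nat.succ_eq_add_one, pow_succ, pow_mul] at h1
  rw [← hg, conj_pow]
  exact hYn.conj_mem _ h1 g

theorem CamSetup.pow_eq_one {p k : ℕ} [hpf : Fact p.Prime] (hp2 : p ≠ 2) {P Y : Subgroup Γ}
    (h : CamSetup p k P Y) {x : Γ} (hx : x ∈ P) (hxY : x ∉ Y) : x ^ p = 1 := by
  classical
  have hYn := h.hYn
  have hPn := h.hPn
  have hT := h.comm_eq_bot hx hxY
  have hcomm : ∀ y ∈ Y, ∀ u ∈ P, Commute y u := by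
    intro y hy u hu
    have h1 := Subgroup.commutator_mem_commutator hy hu
    rw [hT, mem_bot] at h1
    exact commutatorElement_eq_one_iff_commute.mp h1
  have hYp : ∀ y ∈ Y, y ^ p = 1 := by
    intro y hy
    obtain ⟨u, hu, he⟩ := h.hcam x hx hxY y hy
    have h1 : u * x = x * u * y := by
      rw [mul_inv_eq_iff_eq_mul] at he
      rw [he, mul_assoc, (hcomm y hy u hu).eq, mul_assoc]
    exact OddP.comm_pow_eq_one h1 (hcomm y hy u hu) (hcomm _ (h.pow_mem hu) x hx)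
  have hmul : ∀ a ∈ P, ∀ b ∈ P, (a * b) ^ p = a ^ p * b ^ p := by
    intro a ha b hb
    have hz : b⁻¹ * (a⁻¹ * b * a⁻¹⁻¹) ∈ Y := h.hP' b hb a⁻¹ (P.inv_mem ha)
    refine OddP.mul_pow_p_class2 (z := b⁻¹ * (a⁻¹ * b * a⁻¹⁻¹)) hpf.out hp2 ?_
      (hcomm _ hz a ha) (hcomm _ hz b hb) (hYp _ hz)
    group
  let φ : P →* Γ :=
    { toFun := fun a => (a : Γ) ^ p
      map_one' := by simp
      map_mul' := fun a b => hmul a a.2 b b.2 }
  have hrange : φ.range ≤ Y := by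
    rintro _ ⟨a, rfl⟩
    exact h.pow_mem a.2
  have hlt : Nat.card Y < p ^ k := by
    rw [← h.hq, ← Subgroup.relIndex_bot_left]
    apply relIndex_lt_of_cam P Y Y ⊥ bot_le le_rfl h.hYP hx hxY (h.hcam x hx hxY)
      (fun u hu => h.hP' x hx u hu)
    intro a ha
    rw [mem_bot, (hcomm a ha x hx).eq]
    group
  by_contra hne
  have hker : φ.ker = Y.subgroupOf P := by
    ext a
    rw [MonoidHom.mem_ker, Subgroup.mem_subgroupOf]
    constructor
    · intro h1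
      by_contra h2
      apply hne
      obtain ⟨g, hg⟩ := h.hone a a.2 h2 x hx hxY
      have h3 : (a : Γ) ^ p = 1 := h1
      rw [← hg, conj_pow, h3]
      group
    · exact hYp a
  have h1 : φ.ker.index = Nat.card φ.range := Subgroup.index_ker φ
  rw [hker] at h1
  have h2 : (Y.subgroupOf P).index = p ^ k := h.hq
  rw [h2] at h1
  have h3 := Subgroup.card_le_of_le hrange
  omega

end Cfsg.Agent.H76
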