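import Cfsg.Agent.H76.FongReynolds
import Cfsg.Agent.BlkC.Rank
import Cfsg.Agent.BlkC.Principal

/-!
# The Fong–Reynolds correspondence preserves `k` and `l`
-/

set_option autoImplicit false
set_option linter.unusedSectionVars false

namespace Cfsg.Agent.H76

open scoped ComplexConjugate
open Cfsg Cfsg.Agent.CharBase Cfsg.Agent.Char Cfsg.Agent.Blk Cfsg.Agent.BlkC

universe u

variable {G : Type u} [Group G] [Fintype G] {M : Ideal AlgInt} {p : ℕ} [hp : Fact p.Prime]
variable {N T : Subgroup G} [hN : N.Normal] [Fintype T] [Fintype N] (hNT : N ≤ T)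
  {b : Set (IrrCharacter N)}

theorem regInner_sum_left' {A : Type*} [Group A] [Fintype A] {ι : Type*} (s : Finset ι)
    (c : ι → ℂ) (f : ι → A → ℂ) (ψ : A → ℂ) :
    regInner p (∑ i ∈ s, c i • f i) ψ = ∑ i ∈ s, c i * regInner p (f i) ψ := by
  unfold regInner
  rw [Finset.sum_congr rfl fun i _ => mul_left_comm (c i) _ _, ← Finset.mul_sum]
  congr 1
  simp only [Finset.mul_sum, Finset.sum_apply, Finset.sum_mul, Pi.smul_apply, smul_eq_mul]
  rw [Finset.sum_comm]
  refine Finset.sum_congr rfl fun i _ => Finset.sum_congr rfl fun x _ => ?_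
  ring

theorem IsStab.regInner_eq [M.IsPrime] (h : IsStab N T b) (hM : IsPModular p M)
    (hb : IsPBlock M b) {χ : IrrCharacter G} {ψ : IrrCharacter T} (hψ : OverT N T hNT b ψ)
    (hχ : (χ : G → ℂ) = indFun T (ψ : T → ℂ)) :
    regInner p (χ : G → ℂ) (χ : G → ℂ) = regInner p (ψ : T → ℂ) (ψ : T → ℂ) := by
  classical
  have := Fintype.ofFinite (IrrCharacter T)
  have h1 : regInner p (χ : G → ℂ) (χ : G → ℂ) =
      regInner p (χ : G → ℂ) (indFun T (ψ : T → ℂ)) := by rw [← hχ]
  have hcl : IsClassFunction T (fun t : T => (χ : G → ℂ) t) :=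
    isClassFunction_of_isCharacter (isCharacter_restrict (irr_isCharacter χ) T)
  rw [h1, regInner_indFun T (irr_isClassFunction χ), classFun_eq_sum hcl, regInner_sum_left',
    Finset.sum_eq_single ψ]
  · rw [classInner_indFun_self hχ, one_mul]
  · intro ζ _ hne
    by_cases hz : classInner (fun t : T => (χ : G → ℂ) t) (ζ : T → ℂ) = 0
    · rw [hz, zero_mul]
    · rw [regInner_eq_zero hM, mul_zero]
      intro hs
      apply hne
      exact h.eq_of_overT hNT hψ (h.overT_of_sameBlock hNT hb (sameBlock_symm hs) hψ) hχ hz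
  · intro h'; exact absurd (Finset.mem_univ _) h'

theorem IsStab.rank_eq [M.IsPrime] (h : IsStab N T b) (hM : IsPModular p M)
    (hb : IsPBlock M b) {B' : Set (IrrCharacter T)} {B : Set (IrrCharacter G)}
    (hind : IsInducedBlock M T B' B) (hcov : ∃ ψ ∈ B', OverT N T hNT b ψ) :
    Nat.card B = Nat.card B' ∧ blockRank p B = blockRank p B' := by
  classical
  have hov : ∀ ψ ∈ B', OverT N T hNT b ψ := by
    obtain ⟨ψ₀, hψ₀, h0⟩ := hcov
    intro ψ hψ
    exact h.overT_of_sameBlock hNT hb (Blk.sameBlock_of_mem hind.1 hψ₀ hψ) h0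
  choose f hf using fun ψ : B' => h.exists_indFun hNT (hov ψ ψ.2)
  have hfB : ∀ ψ : B', f ψ ∈ B := fun ψ => h.mem_of_isInducedBlock hind ψ.2 (hf ψ)
  let e : B' → B := fun ψ => ⟨f ψ, hfB ψ⟩
  have he : Function.Bijective e := by
    constructor
    · intro ψ ψ' h1
      have h2 : f ψ = f ψ' := congrArg Subtype.val h1
      apply Subtype.ext
      symm
      apply h.eq_of_overT hNT (hov ψ ψ.2) (hov ψ' ψ'.2) (hf ψ)
      rw [h2, classInner_indFun_self (hf ψ')]
      exact one_ne_zero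
    · rintro ⟨χ, hχ⟩
      obtain ⟨ψ, hψ, hχψ⟩ := (h.mem_iff hNT hb hind hcov χ).mp hχ
      refine ⟨⟨ψ, hψ⟩, ?_⟩
      apply Subtype.ext
      apply Subtype.ext
      rw [hχψ]
      exact hf ⟨ψ, hψ⟩
  refine ⟨(Nat.card_congr (Equiv.ofBijective e he)).symm, ?_⟩
  have h1 : (blockRank p B : ℂ) = (blockRank p B' : ℂ) := by
    rw [← sum_regInner_self hM hind.2.1, ← sum_regInner_self hM hind.1]
    have := Fintype.ofFinite B
    have := Fintype.ofFinite B'
    have hs : ∀ {A : Type u} [Group A] [Fintype A] (C : Set (IrrCharacter A)) [Fintype C]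
        (g : IrrCharacter A → ℂ), ∑ χ ∈ Bfin C, g χ = ∑ χ : C, g χ := by
      intro A _ _ C _ g
      refine Finset.sum_subtype _ (fun x => ?_) _
      exact mem_Bfin
    rw [hs, hs]
    symm
    refine Fintype.sum_equiv (Equiv.ofBijective e he) _ _ fun ψ => ?_
    exact (h.regInner_eq hNT hM hb (hov ψ ψ.2) (hf ψ)).symm
  exact_mod_cast h1

end Cfsg.Agent.H76
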