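import Cfsg.Agent.H4.K3Def
import Cfsg.Agent.H79.ProdChar
import Cfsg.Agent.H74.Prin2
import Cfsg.Agent.Char.Linear

set_option autoImplicit false
set_option linter.unusedSectionVars false

/-! S2219 (V1), character part: integrality of twisted multiplicities (helper76). -/

namespace Cfsg.Agent.H76.K3

open scoped ComplexConjugate
open Cfsg Cfsg.Agent.CharBase

universe u v

theorem exists_omega : ∃ w : ℂ, w ^ 3 = 1 ∧ 1 + w + w ^ 2 = 0 ∧ conj w = w ^ 2 := by
  have h : IsPrimitiveRoot (Complex.exp (2 * Real.pi * Complex.I / (3 : ℕ))) 3 :=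
    Complex.isPrimitiveRoot_exp 3 (by norm_num)
  set w := Complex.exp (2 * Real.pi * Complex.I / (3 : ℕ)) with hw
  have h3 : w ^ 3 = 1 := h.pow_eq_one
  have h1 : w ≠ 1 := h.ne_one (by norm_num)
  have h2 : 1 + w + w ^ 2 = 0 := by
    have h4 : (w - 1) * (1 + w + w ^ 2) = 0 := by ring_nf; rw [h3]; ring
    rcases mul_eq_zero.mp h4 with h5 | h5
    · exact absurd (sub_eq_zero.mp h5) h1
    · exact h5
  refine ⟨w, h3, h2, ?_⟩
  have hn : ‖w‖ = 1 := by
    have h5 : ‖w‖ ^ 3 = 1 := by rw [← norm_pow, h3, norm_one]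
    exact (pow_eq_one_iff_of_nonneg (norm_nonneg _) (by norm_num)).mp h5
  have hne : w ≠ 0 := by
    intro h0
    rw [h0] at h3
    norm_num at h3
  have h6 : w * conj w = 1 := by
    rw [Complex.mul_conj, Complex.normSq_eq_norm_sq, hn]
    norm_num
  have h7 : w * w ^ 2 = 1 := by rw [← h3]; ring
  exact mul_left_cancel₀ hne (h6.trans h7.symm)

/-- the linear character of the cyclic group of order three -/
noncomputable def lam (w : ℂ) (hw : w ^ 3 = 1) : Multiplicative (ZMod 3) →* ℂ :=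
  (AddChar.zmodChar 3 hw).toMonoidHom

theorem lam_apply (w : ℂ) (hw : w ^ 3 = 1) (c : ZMod 3) :
    lam w hw (Multiplicative.ofAdd c) = w ^ c.val := by
  unfold lam
  rw [AddChar.toMonoidHom_apply, toAdd_ofAdd, AddChar.zmodChar_apply]

theorem sum_z3 (F : Multiplicative (ZMod 3) → ℂ) :
    ∑ c, F c = F (Multiplicative.ofAdd 0) + F (Multiplicative.ofAdd 1) + F (Multiplicative.ofAdd 2) := by
  have h : ∑ c, F c = ∑ c : ZMod 3, F (Multiplicative.ofAdd c) :=
    (Equiv.sum_comp (Multiplicative.ofAdd : ZMod 3 ≃ Multiplicative (ZMod 3)) F).symm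
  rw [h]
  change ∑ c : Fin 3, F (Multiplicative.ofAdd (c : ZMod 3)) = _
  rw [Fin.sum_univ_three]
  rfl

theorem card_z3 : Nat.card (Multiplicative (ZMod 3)) = 3 := by
  rw [Nat.card_congr Multiplicative.toAdd, Nat.card_zmod]

/-- integrality of the inner products `⟨χ(f(·,c)), φ⟩` -/
theorem inner_tri {G : Type u} [Group G] [Finite G] {A : Type v} [Group A] [Fintype A]
    (f : A × Multiplicative (ZMod 3) →* G) {χ : G → ℂ} (hχ : IsCharacter G χ) {φ : A → ℂ}
    (hφ : IsCharacter A φ)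
    (h12 : classInner (fun a => χ (f (a, Multiplicative.ofAdd 1))) φ =
      classInner (fun a => χ (f (a, Multiplicative.ofAdd 2))) φ) :
    ∃ m₀ m₁ : ℤ, classInner (fun a => χ (f (a, Multiplicative.ofAdd 1))) φ = (m₀ : ℂ) - m₁ ∧
      classInner (fun a => χ (f (a, Multiplicative.ofAdd 0))) φ = (m₀ : ℂ) + 2 * m₁ := by
  classical
  obtain ⟨w, hw3, hw1, hwc⟩ := exists_omega
  have key : ∀ β : Multiplicative (ZMod 3) → ℂ, IsCharacter (Multiplicative (ZMod 3)) β →
      ∃ m : ℕ, (m : ℂ) = (3 : ℂ)⁻¹ * (classInner (fun a => χ (f (a, Multiplicative.ofAdd 0))) φ *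
          conj (β (Multiplicative.ofAdd 0)) +
        classInner (fun a => χ (f (a, Multiplicative.ofAdd 1))) φ * conj (β (Multiplicative.ofAdd 1)) +
        classInner (fun a => χ (f (a, Multiplicative.ofAdd 2))) φ *
          conj (β (Multiplicative.ofAdd 2))) := by
    intro β hβ
    obtain ⟨m, hm⟩ := classInner_natCast (isCharacter_comp hχ f) (H79.isCharacter_prod hφ hβ)
    refine ⟨m, ?_⟩
    rw [← hm]
    unfold classInner
    rw [Nat.card_prod, card_z3, Fintype.sum_prod_type]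
    have h1 : ∀ a : A, ∑ c : Multiplicative (ZMod 3), χ (f (a, c)) * conj (φ a * β c) =
        χ (f (a, Multiplicative.ofAdd 0)) * conj (φ a) * conj (β (Multiplicative.ofAdd 0)) +
        χ (f (a, Multiplicative.ofAdd 1)) * conj (φ a) * conj (β (Multiplicative.ofAdd 1)) +
        χ (f (a, Multiplicative.ofAdd 2)) * conj (φ a) * conj (β (Multiplicative.ofAdd 2)) := by
      intro a
      rw [sum_z3]
      simp only [map_mul]
      ring
    simp only [Function.comp_apply]
    rw [Finset.sum_congr rfl fun a _ => h1 a]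
    simp only [Finset.sum_add_distrib, ← Finset.sum_mul]
    push_cast
    rw [mul_inv]
    ring
  obtain ⟨m₀, hm₀⟩ := key (fun _ => 1) Char.isCharacter_one
  obtain ⟨m₁, hm₁⟩ := key (lam w hw3) (Char.isCharacter_of_hom _)
  rw [← h12] at hm₀ hm₁
  rw [lam_apply, lam_apply, lam_apply] at hm₁
  have v0 : ZMod.val (0 : ZMod 3) = 0 := rfl
  have v1 : ZMod.val (1 : ZMod 3) = 1 := rfl
  have v2 : ZMod.val (2 : ZMod 3) = 2 := rfl
  rw [v0, v1, v2, pow_zero, pow_one, map_one, map_pow, hwc] at hm₁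
  simp only [map_one, mul_one] at hm₀ hm₁
  set u₀ := classInner (fun a => χ (f (a, Multiplicative.ofAdd 0))) φ
  set u₁ := classInner (fun a => χ (f (a, Multiplicative.ofAdd 1))) φ
  have hw4 : (w ^ 2) ^ 2 = w := by
    have : (w ^ 2) ^ 2 = w ^ 3 * w := by ring
    rw [this, hw3, one_mul]
  have hw5 : w + w ^ 2 = -1 := by linear_combination hw1
  have hm₁' : (m₁ : ℂ) = 3⁻¹ * (u₀ - u₁) := by
    rw [hm₁, hw4]
    linear_combination (3⁻¹ * u₁) * hw5
  refine ⟨m₀, m₁, ?_, ?_⟩
  · push_cast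
    rw [hm₀, hm₁']
    ring
  · push_cast
    rw [hm₀, hm₁']
    ring

end Cfsg.Agent.H76.K3
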