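import Cfsg.Agent.H76.K3A

set_option autoImplicit false
set_option linter.unusedSectionVars false

/-! S2219 (V1), vectors (helper76). -/

namespace Cfsg.Agent.H76.K3

open scoped ComplexConjugate
open Cfsg Cfsg.Agent.CharBase Cfsg.Agent.H4.K3 Subgroup

universe u

structure Half {G : Type u} [Group G] [Finite G] [Fintype (IrrCharacter G)] (M : Ideal AlgInt) (k₁ k₂ e₁ : G) (K : Subgroup G) (φ : Fin 3 → IrrCharacter K)
    (ε : Fin 3 → ℤ) [DecidablePred (· ∈ principalBlock M G)] : Prop where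
  comm : ∀ h ∈ K, k₁ * h = h * k₁
  dec : ∀ c : G, k₁ * c = c * k₁ → ∃ j : ℕ, ∃ h ∈ K, c = k₁ ^ j * h
  uniq : ∀ j : ℕ, k₁ ^ j ∈ K → k₁ ^ j = 1
  inv : ∀ h ∈ K, e₁ * h * e₁⁻¹ ∈ K
  inj : Function.Injective φ
  phi0 : φ 0 = oneIrr K
  eps0 : ε 0 = 1
  sg : ∀ i, ε i = 1 ∨ ε i = -1
  sum : ∀ h : K, ∑ i, (ε i : ℂ) * (φ i : K → ℂ) h = if 3 ∣ orderOf h then 3 else 0
  val : ∀ i (h : K), 3 ∣ orderOf h → (ε i : ℂ) * (φ i : K → ℂ) h = 1
  fix : ∀ i (h h' : K), (h' : G) = e₁ * h * e₁⁻¹ → (φ i : K → ℂ) h' = (φ i : K → ℂ) h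
  sing : ∀ χ ∈ principalBlock M G, ∀ h : K, 3 ∣ orderOf h → (χ : G → ℂ) (k₁ * h) = (χ : G → ℂ) (k₁ * k₂)
  kernel : ∀ y y' : K, ¬ 3 ∣ orderOf y → ¬ 3 ∣ orderOf y' → ∑ χ : IrrCharacter G, (if χ ∈ principalBlock M G then (χ : G → ℂ) (k₁ * y) * conj ((χ : G → ℂ) (k₁ * y')) else 0) = 3 * ∑ i, (φ i : K → ℂ) y * conj ((φ i : K → ℂ) y')

section

variable {G : Type u} [Group G] [Finite G] [Fintype (IrrCharacter G)] {M : Ideal AlgInt}
  [DecidablePred (· ∈ principalBlock M G)]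

/-- block kernel -/
noncomputable def KB (M : Ideal AlgInt) [DecidablePred (· ∈ principalBlock M G)] (a b : G) : ℂ :=
  ∑ χ : IrrCharacter G, (if χ ∈ principalBlock M G then (χ : G → ℂ) a * conj ((χ : G → ℂ) b) else 0)

variable {k₁ k₂ e₁ : G} {K : Subgroup G} [Fintype K] {φ : Fin 3 → IrrCharacter K} {ε : Fin 3 → ℤ}

/-- the vector `p_i` as a complex number -/
noncomputable def PV (M : Ideal AlgInt) [DecidablePred (· ∈ principalBlock M G)] (k₁ : G)
    (φ : Fin 3 → IrrCharacter K) (ε : Fin 3 → ℤ) (i : Fin 3) (χ : IrrCharacter G) : ℂ :=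
  if χ ∈ principalBlock M G then
    (ε i : ℂ) * ((Nat.card K : ℂ)⁻¹ * ∑ h : K, (χ : G → ℂ) (k₁ * h) * conj ((φ i : K → ℂ) h)) else 0

theorem card_ne : (Nat.card K : ℂ) ≠ 0 := by exact_mod_cast (Nat.card_pos (α := K)).ne'

theorem sum_sing (H : Half M k₁ k₂ e₁ K φ ε) :
    (Nat.card K : ℂ)⁻¹ * ∑ h : K, (if 3 ∣ orderOf h then (1 : ℂ) else 0) = 3⁻¹ := by
  have h1 : classInner (fun h : K => ∑ i, (ε i : ℂ) * (φ i : K → ℂ) h) (φ 0 : K → ℂ) = 1 := by
    have h2 : (fun h : K => ∑ i, (ε i : ℂ) * (φ i : K → ℂ) h) =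
        ∑ i, (ε i : ℂ) • (φ i : K → ℂ) := by
      funext h
      simp
    rw [h2, classInner_sum_left, Fin.sum_univ_three]
    simp only [classInner_smul_left]
    rw [classInner_irr_self, classInner_irr_of_ne (H.inj.ne (by decide)),
      classInner_irr_of_ne (H.inj.ne (by decide)), H.eps0]
    simp
  unfold classInner at h1
  have h3 : ∀ h : K, (fun h : K => ∑ i, (ε i : ℂ) * (φ i : K → ℂ) h) h * conj ((φ 0 : K → ℂ) h) =
      3 * (if 3 ∣ orderOf h then (1 : ℂ) else 0) := by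
    intro h
    rw [H.phi0, oneIrr_apply, map_one, mul_one]
    change ∑ i, (ε i : ℂ) * (φ i : K → ℂ) h = _
    rw [H.sum]
    split_ifs <;> simp
  rw [Finset.sum_congr rfl fun h _ => h3 h, ← Finset.mul_sum] at h1
  have h4 : (3 : ℂ) ≠ 0 := by norm_num
  have h5 := card_ne (K := K)
  field_simp
  field_simp at h1
  linear_combination h1

theorem eps_sq (H : Half M k₁ k₂ e₁ K φ ε) (i : Fin 3) : (ε i : ℂ) * (ε i : ℂ) = 1 := by
  rcases H.sg i with h | h <;> rw [h] <;> norm_num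

theorem phi_sing (H : Half M k₁ k₂ e₁ K φ ε) (i : Fin 3) (h : K) (hh : 3 ∣ orderOf h) :
    (φ i : K → ℂ) h = ε i := by
  have h1 := H.val i h hh
  have h2 := eps_sq H i
  calc (φ i : K → ℂ) h = ((ε i : ℂ) * (ε i : ℂ)) * (φ i : K → ℂ) h := by rw [h2, one_mul]
    _ = (ε i : ℂ) * ((ε i : ℂ) * (φ i : K → ℂ) h) := by ring
    _ = ε i := by rw [h1, mul_one]

theorem conj_eps_phi (H : Half M k₁ k₂ e₁ K φ ε) (i : Fin 3) (h : K) (hh : 3 ∣ orderOf h) :
    (ε i : ℂ) * conj ((φ i : K → ℂ) h) = 1 := by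
  rw [phi_sing H i h hh, map_intCast, eps_sq H i]

/-- (b) -/
theorem PV_sum (H : Half M k₁ k₂ e₁ K φ ε) {χ : IrrCharacter G} (hχ : χ ∈ principalBlock M G) :
    ∑ i, PV M k₁ φ ε i χ = (χ : G → ℂ) (k₁ * k₂) := by
  unfold PV
  simp only [if_pos hχ]
  have h1 : ∀ i, (ε i : ℂ) * ((Nat.card K : ℂ)⁻¹ * ∑ h : K, (χ : G → ℂ) (k₁ * h) *
      conj ((φ i : K → ℂ) h)) = (Nat.card K : ℂ)⁻¹ * ∑ h : K, (χ : G → ℂ) (k₁ * h) *
        conj ((ε i : ℂ) * (φ i : K → ℂ) h) := by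
    intro i
    rw [mul_left_comm, Finset.mul_sum]
    congr 1
    refine Finset.sum_congr rfl fun h _ => ?_
    rw [map_mul, map_intCast]
    ring
  have c3 : conj (3 : ℂ) = 3 := by
    have := Complex.conj_ofReal (3 : ℝ)
    push_cast at this
    exact this
  rw [Finset.sum_congr rfl fun i _ => h1 i, ← Finset.mul_sum, Finset.sum_comm]
  have h2 : ∀ h : K, ∑ i, (χ : G → ℂ) (k₁ * h) * conj ((ε i : ℂ) * (φ i : K → ℂ) h) =
      (3 * (χ : G → ℂ) (k₁ * k₂)) * (if 3 ∣ orderOf h then (1 : ℂ) else 0) := by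
    intro h
    rw [← Finset.mul_sum, ← map_sum, H.sum h]
    split_ifs with h3
    · rw [H.sing χ hχ h h3, c3]
      ring
    · simp
  rw [Finset.sum_congr rfl fun h _ => h2 h, ← Finset.mul_sum, mul_left_comm, sum_sing H]
  field_simp

theorem KB_sing_left (H : Half M k₁ k₂ e₁ K φ ε) (h : K) (hh : 3 ∣ orderOf h) (b : G) :
    KB M (k₁ * h) b = KB M (k₁ * k₂) b := by
  unfold KB
  refine Finset.sum_congr rfl fun χ _ => ?_
  split_ifs with h1
  · rw [H.sing χ h1 h hh]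
  · rfl

theorem KB_sing_right (H : Half M k₁ k₂ e₁ K φ ε) (h : K) (hh : 3 ∣ orderOf h) (a : G) :
    KB M a (k₁ * h) = KB M a (k₁ * k₂) := by
  unfold KB
  refine Finset.sum_congr rfl fun χ _ => ?_
  split_ifs with h1
  · rw [H.sing χ h1 h hh]
  · rfl

instance : Fact (Nat.Prime 3) := ⟨Nat.prime_three⟩

theorem ispp_reg (H : Half M k₁ k₂ e₁ K φ ε) (ho : orderOf k₁ = 3) (h : K) (hh : ¬ 3 ∣ orderOf h) :
    IsPPart 3 (k₁ * h) k₁ :=
  ⟨h, rfl, H.comm h h.2, ⟨1, by rw [ho, pow_one]⟩, by rwa [Subgroup.orderOf_coe]⟩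

/-- the kernel on `K` -/
theorem KB_eq (hM : IsPModular 3 M) (H : Half M k₁ k₂ e₁ K φ ε) (ho : orderOf k₁ = 3)
    (ho12 : orderOf (k₁ * k₂) = 3) (hnc : ¬ IsConj k₁ (k₁ * k₂))
    (h9 : KB M (k₁ * k₂) (k₁ * k₂) = 9) (h h' : K) :
    KB M (k₁ * h) (k₁ * h') = 3 * ∑ m, (φ m : K → ℂ) h * conj ((φ m : K → ℂ) h') := by
  have hs : ∑ m, (ε m : ℂ) * (ε m : ℂ) = 3 := by
    rw [Finset.sum_congr rfl fun m _ => eps_sq H m]
    simp
  have hp12 : IsPPart 3 (k₁ * k₂) (k₁ * k₂) := H74.isPPart_self' ⟨1, by rw [ho12, pow_one]⟩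
  by_cases a : 3 ∣ orderOf h
  · rw [KB_sing_left H h a]
    by_cases b : 3 ∣ orderOf h'
    · rw [KB_sing_right H h' b, h9]
      have : ∀ m, (φ m : K → ℂ) h * conj ((φ m : K → ℂ) h') = (ε m : ℂ) * (ε m : ℂ) := by
        intro m
        rw [phi_sing H m h a, phi_sing H m h' b, map_intCast]
      rw [Finset.sum_congr rfl fun m _ => this m, hs]
      norm_num
    · have h1 : KB M (k₁ * k₂) (k₁ * h') = 0 :=
        H74.sum_principal_orth hM hp12 (ispp_reg H ho h' b) (fun hc => hnc hc.symm)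
      rw [h1]
      have : ∀ m, (φ m : K → ℂ) h * conj ((φ m : K → ℂ) h') =
          conj ((ε m : ℂ) * (φ m : K → ℂ) h') := by
        intro m
        rw [phi_sing H m h a, map_mul, map_intCast]
      rw [Finset.sum_congr rfl fun m _ => this m, ← map_sum, H.sum, if_neg b]
      simp
  · by_cases b : 3 ∣ orderOf h'
    · rw [KB_sing_right H h' b]
      have h1 : KB M (k₁ * h) (k₁ * k₂) = 0 :=
        H74.sum_principal_orth hM (ispp_reg H ho h a) hp12 hnc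
      rw [h1]
      have : ∀ m, (φ m : K → ℂ) h * conj ((φ m : K → ℂ) h') =
          (ε m : ℂ) * (φ m : K → ℂ) h := by
        intro m
        rw [phi_sing H m h' b, map_intCast, mul_comm]
      rw [Finset.sum_congr rfl fun m _ => this m, H.sum, if_neg a]
      simp
    · exact H.kernel h h' a b

/-- bilinear expansion -/
theorem PV_mul {K' : Subgroup G} [Fintype K'] {k : G} {φ' : Fin 3 → IrrCharacter K'} {ε' : Fin 3 → ℤ}
    (i j : Fin 3) :
    ∑ χ : IrrCharacter G, PV M k₁ φ ε i χ * conj (PV M k φ' ε' j χ) =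
      (ε i : ℂ) * (ε' j : ℂ) * ((Nat.card K : ℂ)⁻¹ * ((Nat.card K' : ℂ)⁻¹ * ∑ h : K, ∑ h' : K',
        (conj ((φ i : K → ℂ) h) * (φ' j : K' → ℂ) h' * KB M (k₁ * h) (k * h')))) := by
  have h1 : ∀ χ : IrrCharacter G, PV M k₁ φ ε i χ * conj (PV M k φ' ε' j χ) =
      (ε i : ℂ) * (ε' j : ℂ) * ((Nat.card K : ℂ)⁻¹ * ((Nat.card K' : ℂ)⁻¹ * ∑ h : K, ∑ h' : K',
        (conj ((φ i : K → ℂ) h) * (φ' j : K' → ℂ) h' *
          (if χ ∈ principalBlock M G then (χ : G → ℂ) (k₁ * h) * conj ((χ : G → ℂ) (k * h')) else 0)))) := by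
    intro χ
    unfold PV
    split_ifs with hχ
    · rw [map_mul, map_mul, map_inv₀, map_sum, map_intCast, Complex.conj_natCast]
      have h2 : ∑ h : K, ∑ h' : K', (conj ((φ i : K → ℂ) h) * (φ' j : K' → ℂ) h' *
          ((χ : G → ℂ) (k₁ * h) * conj ((χ : G → ℂ) (k * h')))) =
          (∑ h : K, (χ : G → ℂ) (k₁ * h) * conj ((φ i : K → ℂ) h)) *
          (∑ h' : K', conj ((χ : G → ℂ) (k * h') * conj ((φ' j : K' → ℂ) h'))) := by
        rw [Finset.sum_mul_sum]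
        refine Finset.sum_congr rfl fun h _ => Finset.sum_congr rfl fun h' _ => ?_
        rw [map_mul, Complex.conj_conj]
        ring
      rw [h2]
      ring
    · simp
  rw [Finset.sum_congr rfl fun χ _ => h1 χ, ← Finset.mul_sum, ← Finset.mul_sum, ← Finset.mul_sum,
    Finset.sum_comm]
  congr 3
  refine Finset.sum_congr rfl fun h _ => ?_
  rw [Finset.sum_comm]
  refine Finset.sum_congr rfl fun h' _ => ?_
  rw [← Finset.mul_sum]
  rfl

/-- (c) Gram matrix -/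
theorem PV_gram (hM : IsPModular 3 M) (H : Half M k₁ k₂ e₁ K φ ε) (ho : orderOf k₁ = 3)
    (ho12 : orderOf (k₁ * k₂) = 3) (hnc : ¬ IsConj k₁ (k₁ * k₂))
    (h9 : KB M (k₁ * k₂) (k₁ * k₂) = 9) (i j : Fin 3) :
    ∑ χ : IrrCharacter G, PV M k₁ φ ε i χ * conj (PV M k₁ φ ε j χ) = if i = j then 3 else 0 := by
  rw [PV_mul]
  have h1 : ∑ h : K, ∑ h' : K, (conj ((φ i : K → ℂ) h) * (φ j : K → ℂ) h' *
      KB M (k₁ * h) (k₁ * h')) = ∑ m, 3 * ((∑ h : K, (φ m : K → ℂ) h * conj ((φ i : K → ℂ) h)) *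
        (∑ h' : K, (φ j : K → ℂ) h' * conj ((φ m : K → ℂ) h'))) := by
    have h2 : ∀ h h' : K, conj ((φ i : K → ℂ) h) * (φ j : K → ℂ) h' * KB M (k₁ * h) (k₁ * h') =
        ∑ m, 3 * (((φ m : K → ℂ) h * conj ((φ i : K → ℂ) h)) *
          ((φ j : K → ℂ) h' * conj ((φ m : K → ℂ) h'))) := by
      intro h h'
      rw [KB_eq hM H ho ho12 hnc h9 h h', Finset.mul_sum, Finset.mul_sum]
      refine Finset.sum_congr rfl fun m _ => ?_
      ring
    simp only [h2]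
    have h3 : ∀ h : K, ∑ h' : K, ∑ m, 3 * (((φ m : K → ℂ) h * conj ((φ i : K → ℂ) h)) *
          ((φ j : K → ℂ) h' * conj ((φ m : K → ℂ) h'))) =
        ∑ m, ∑ h' : K, 3 * (((φ m : K → ℂ) h * conj ((φ i : K → ℂ) h)) *
          ((φ j : K → ℂ) h' * conj ((φ m : K → ℂ) h'))) := fun h => Finset.sum_comm
    simp only [h3]
    rw [Finset.sum_comm]
    refine Finset.sum_congr rfl fun m _ => ?_
    rw [Finset.sum_mul_sum, Finset.mul_sum]
    refine Finset.sum_congr rfl fun h _ => ?_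
    rw [Finset.mul_sum]
  rw [h1]
  have h4 : ∀ a b : Fin 3, (Nat.card K : ℂ)⁻¹ * ∑ h : K, (φ a : K → ℂ) h * conj ((φ b : K → ℂ) h) =
      if a = b then 1 else 0 := by
    intro a b
    have h5 : classInner (φ a : K → ℂ) (φ b : K → ℂ) = if a = b then 1 else 0 := by
      by_cases hab : a = b
      · rw [hab, if_pos rfl, classInner_irr_self]
      · rw [if_neg hab, classInner_irr_of_ne (H.inj.ne hab)]
    exact h5
  have h6 : (Nat.card K : ℂ)⁻¹ * ((Nat.card K : ℂ)⁻¹ * ∑ m, 3 * ((∑ h : K, (φ m : K → ℂ) h *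
      conj ((φ i : K → ℂ) h)) * (∑ h' : K, (φ j : K → ℂ) h' * conj ((φ m : K → ℂ) h')))) =
      ∑ m, 3 * ((if m = i then 1 else 0) * (if j = m then 1 else 0)) := by
    rw [Finset.mul_sum, Finset.mul_sum]
    refine Finset.sum_congr rfl fun m _ => ?_
    rw [← h4 m i, ← h4 j m]
    ring
  rw [h6]
  by_cases hij : i = j
  · subst hij
    rw [if_pos rfl, Finset.sum_eq_single i]
    · rw [if_pos rfl, eps_sq H i]
      norm_num
    · intro m _ hm
      rw [if_neg hm]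
      ring
    · intro h; exact absurd (Finset.mem_univ _) h
  · rw [if_neg hij, Finset.sum_eq_zero, mul_zero]
    intro m _
    by_cases hm : m = i
    · rw [if_neg (fun h : j = m => hij (h.trans hm).symm)]
      ring
    · rw [if_neg hm]
      ring

/-- (e) cross terms -/
theorem PV_cross (hM : IsPModular 3 M) {e₂ : G} {K' : Subgroup G} [Fintype K']
    {φ' : Fin 3 → IrrCharacter K'} {ε' : Fin 3 → ℤ}
    (H : Half M k₁ k₂ e₁ K φ ε) (H' : Half M k₂ k₁ e₂ K' φ' ε') (ho : orderOf k₁ = 3)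
    (ho2 : orderOf k₂ = 3) (hc : k₁ * k₂ = k₂ * k₁)
    (ho12 : orderOf (k₁ * k₂) = 3) (hnc : ¬ IsConj k₁ (k₁ * k₂)) (hnc2 : ¬ IsConj k₂ (k₁ * k₂))
    (hnc12 : ¬ IsConj k₁ k₂)
    (h9 : KB M (k₁ * k₂) (k₁ * k₂) = 9) (i j : Fin 3) :
    ∑ χ : IrrCharacter G, PV M k₁ φ ε i χ * conj (PV M k₂ φ' ε' j χ) = 1 := by
  rw [PV_mul]
  have hp12 : IsPPart 3 (k₁ * k₂) (k₁ * k₂) := H74.isPPart_self' ⟨1, by rw [ho12, pow_one]⟩
  have h1 : ∀ h : K, ∀ h' : K', KB M (k₁ * h) (k₂ * h') =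
      9 * ((if 3 ∣ orderOf h then (1 : ℂ) else 0) * (if 3 ∣ orderOf h' then (1 : ℂ) else 0)) := by
    intro h h'
    by_cases a : 3 ∣ orderOf h
    · rw [KB_sing_left H h a, if_pos a]
      by_cases b : 3 ∣ orderOf h'
      · rw [KB_sing_right H' h' b, if_pos b, ← hc, h9]
        norm_num
      · rw [if_neg b, mul_zero, mul_zero]
        exact H74.sum_principal_orth hM hp12 (ispp_reg H' ho2 h' b) (fun hc => hnc2 hc.symm)
    · rw [if_neg a, zero_mul, mul_zero]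
      by_cases b : 3 ∣ orderOf h'
      · rw [KB_sing_right H' h' b, ← hc]
        exact H74.sum_principal_orth hM (ispp_reg H ho h a) hp12 hnc
      · exact H74.sum_principal_orth hM (ispp_reg H ho h a) (ispp_reg H' ho2 h' b) hnc12
  have h2 : (ε i : ℂ) * (ε' j : ℂ) * ((Nat.card K : ℂ)⁻¹ * ((Nat.card K' : ℂ)⁻¹ * ∑ h : K, ∑ h' : K',
        (conj ((φ i : K → ℂ) h) * (φ' j : K' → ℂ) h' * KB M (k₁ * h) (k₂ * h')))) =
      9 * (((Nat.card K : ℂ)⁻¹ * ∑ h : K, (if 3 ∣ orderOf h then (1 : ℂ) else 0)) *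
        ((Nat.card K' : ℂ)⁻¹ * ∑ h' : K', (if 3 ∣ orderOf h' then (1 : ℂ) else 0))) := by
    have h3 : (ε i : ℂ) * (ε' j : ℂ) * ∑ h : K, ∑ h' : K',
        (conj ((φ i : K → ℂ) h) * (φ' j : K' → ℂ) h' * KB M (k₁ * h) (k₂ * h')) =
        9 * ((∑ h : K, (if 3 ∣ orderOf h then (1 : ℂ) else 0)) *
          (∑ h' : K', (if 3 ∣ orderOf h' then (1 : ℂ) else 0))) := by
      rw [Finset.sum_mul_sum, Finset.mul_sum, Finset.mul_sum]
      refine Finset.sum_congr rfl fun h _ => ?_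
      rw [Finset.mul_sum, Finset.mul_sum]
      refine Finset.sum_congr rfl fun h' _ => ?_
      rw [h1]
      by_cases a : 3 ∣ orderOf h
      · by_cases b : 3 ∣ orderOf h'
        · rw [if_pos a, if_pos b]
          have e1 := conj_eps_phi H i h a
          have e2 := H'.val j h' b
          linear_combination (9 * (ε' j : ℂ) * (φ' j : K' → ℂ) h') * e1 + 9 * e2
        · rw [if_neg b]; ring
      · rw [if_neg a]; ring
    linear_combination ((Nat.card K : ℂ)⁻¹ * (Nat.card K' : ℂ)⁻¹) * h3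
  rw [h2, sum_sing H, sum_sing H']
  norm_num

/-- (f) regular elements -/
theorem PV_reg (hM : IsPModular 3 M) (H : Half M k₁ k₂ e₁ K φ ε) (ho : orderOf k₁ = 3)
    (ho12 : orderOf (k₁ * k₂) = 3) (i : Fin 3) (g : G) (hg : ¬ 3 ∣ orderOf g) :
    ∑ χ : IrrCharacter G, PV M k₁ φ ε i χ * (χ : G → ℂ) g = 0 := by
  have hp12 : IsPPart 3 (k₁ * k₂) (k₁ * k₂) := H74.isPPart_self' ⟨1, by rw [ho12, pow_one]⟩
  have hgp : IsPPart 3 g⁻¹ 1 := H74.isPPart_one (by rwa [orderOf_inv])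
  have hk1 : k₁ ≠ 1 := by
    intro h; rw [h, orderOf_one] at ho; norm_num at ho
  have hk12 : k₁ * k₂ ≠ 1 := by
    intro h; rw [h, orderOf_one] at ho12; norm_num at ho12
  have h1 : ∀ h : K, KB M (k₁ * h) g⁻¹ = 0 := by
    intro h
    by_cases a : 3 ∣ orderOf h
    · rw [KB_sing_left H h a]
      exact H74.sum_principal_orth hM hp12 hgp (fun hc => hk12 (isConj_one_left.mp hc))
    · exact H74.sum_principal_orth hM (ispp_reg H ho h a) hgp (fun hc => hk1 (isConj_one_left.mp hc))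
  have h2 : ∀ χ : IrrCharacter G, PV M k₁ φ ε i χ * (χ : G → ℂ) g =
      (ε i : ℂ) * (Nat.card K : ℂ)⁻¹ * ∑ h : K, conj ((φ i : K → ℂ) h) *
        (if χ ∈ principalBlock M G then (χ : G → ℂ) (k₁ * h) * conj ((χ : G → ℂ) g⁻¹) else 0) := by
    intro χ
    unfold PV
    split_ifs with hχ
    · rw [irr_inv, Complex.conj_conj, mul_assoc, mul_assoc, mul_assoc, Finset.sum_mul]
      congr 2
      refine Finset.sum_congr rfl fun h _ => ?_
      ring
    · simp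
  rw [Finset.sum_congr rfl fun χ _ => h2 χ, ← Finset.mul_sum, Finset.sum_comm]
  have h3 : ∀ h : K, ∑ χ : IrrCharacter G, conj ((φ i : K → ℂ) h) *
        (if χ ∈ principalBlock M G then (χ : G → ℂ) (k₁ * h) * conj ((χ : G → ℂ) g⁻¹) else 0) = 0 := by
    intro h
    rw [← Finset.mul_sum]
    change _ * KB M (k₁ * h) g⁻¹ = 0
    rw [h1, mul_zero]
  rw [Finset.sum_congr rfl fun h _ => h3 h]
  simp

/-- values at the principal character -/
theorem PV_one (hMp : M.IsPrime) (H : Half M k₁ k₂ e₁ K φ ε) (i : Fin 3) :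
    PV M k₁ φ ε i (oneIrr G) = if i = 0 then 1 else 0 := by
  have hmem : oneIrr G ∈ principalBlock M G := Blk.mem_blockOf_self (oneIrr G)
  unfold PV
  rw [if_pos hmem]
  have h1 : (Nat.card K : ℂ)⁻¹ * ∑ h : K, (oneIrr G : G → ℂ) (k₁ * h) * conj ((φ i : K → ℂ) h) =
      classInner (φ 0 : K → ℂ) (φ i : K → ℂ) := by
    unfold classInner
    rw [H.phi0]
    rfl
  rw [h1]
  by_cases hi : i = 0
  · rw [hi, if_pos rfl, classInner_irr_self, H.eps0]
    simp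
  · rw [if_neg hi, classInner_irr_of_ne (H.inj.ne (fun h => hi h.symm)), mul_zero]

end

end Cfsg.Agent.H76.K3
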