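import Cfsg.Agent.H76.K3B
import Cfsg.Agent.Glaub.PGroup

set_option autoImplicit false
set_option linter.unusedSectionVars false

/-! S2219 (V1), integrality and assembly (helper76). -/

namespace Cfsg.Agent.H76.K3

open scoped ComplexConjugate
open Cfsg Cfsg.Agent.CharBase Cfsg.Agent.H4.K3 Subgroup

universe u

section

variable {G : Type u} [Group G]

/-- the hom `ZMod 3 → G` given by an element of order three -/
def cyc (k : G) (hk : orderOf k = 3) : Multiplicative (ZMod 3) →* G where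
  toFun c := k ^ (Multiplicative.toAdd c).val
  map_one' := by
    change k ^ (0 : ZMod 3).val = 1
    rw [ZMod.val_zero, pow_zero]
  map_mul' a b := by
    rw [toAdd_mul, ZMod.val_add, ← pow_add]
    have h := pow_mod_orderOf k ((Multiplicative.toAdd a).val + (Multiplicative.toAdd b).val)
    rw [hk] at h
    exact h

theorem cyc_one (k : G) (hk : orderOf k = 3) : cyc k hk (Multiplicative.ofAdd 1) = k := by
  change k ^ (1 : ZMod 3).val = k
  have : (1 : ZMod 3).val = 1 := rfl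
  rw [this, pow_one]

theorem cyc_two (k : G) (hk : orderOf k = 3) : cyc k hk (Multiplicative.ofAdd 2) = k⁻¹ := by
  change k ^ (2 : ZMod 3).val = k⁻¹
  have : (2 : ZMod 3).val = 2 := rfl
  have h3 : k ^ 3 = 1 := by rw [← hk, pow_orderOf_eq_one]
  rw [this, eq_inv_iff_mul_eq_one, ← pow_succ]
  exact h3

theorem cyc_zero (k : G) (hk : orderOf k = 3) : cyc k hk (Multiplicative.ofAdd 0) = 1 :=
  (cyc k hk).map_one

/-- (d) values at an element of order three conjugate to its inverse -/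
theorem val_int [Finite G] {χ : G → ℂ} (hχ : IsCharacter G χ) {x : G} (hx : orderOf x = 3)
    (hc : IsConj x x⁻¹) : ∃ m₀ m₁ : ℤ, χ x = (m₀ : ℂ) - m₁ ∧ χ 1 = (m₀ : ℂ) + 2 * m₁ := by
  have hcf := isClassFunction_of_isCharacter hχ
  let f : PUnit.{1} × Multiplicative (ZMod 3) →* G := (cyc x hx).comp (MonoidHom.snd _ _)
  have h1 : ∀ y : PUnit.{1} → ℂ, classInner y (fun _ => (1 : ℂ)) = y PUnit.unit := by
    intro y
    unfold classInner
    simp
  obtain ⟨m₀, m₁, h2, h3⟩ := inner_tri f hχ (φ := fun _ => (1 : ℂ)) Char.isCharacter_one (by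
    rw [h1, h1]
    change χ (cyc x hx (Multiplicative.ofAdd 1)) = χ (cyc x hx (Multiplicative.ofAdd 2))
    rw [cyc_one, cyc_two]
    exact classFun_eq_of_isConj hcf hc)
  rw [h1] at h2 h3
  change χ (cyc x hx (Multiplicative.ofAdd 1)) = _ at h2
  change χ (cyc x hx (Multiplicative.ofAdd 0)) = _ at h3
  rw [cyc_one] at h2
  rw [cyc_zero] at h3
  exact ⟨m₀, m₁, h2, h3⟩

end

section

variable {G : Type u} [Group G] [Finite G] [Fintype (IrrCharacter G)] {M : Ideal AlgInt}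
  [DecidablePred (· ∈ principalBlock M G)]
  {k₁ k₂ e₁ : G} {K : Subgroup G} [Fintype K] {φ : Fin 3 → IrrCharacter K} {ε : Fin 3 → ℤ}

theorem exists_conj_equiv (H : Half M k₁ k₂ e₁ K φ ε) :
    ∃ σ : K ≃ K, ∀ h, (σ h : G) = e₁ * h * e₁⁻¹ := by
  have hinj : Function.Injective (fun h : K => (⟨e₁ * h * e₁⁻¹, H.inv h h.2⟩ : K)) := by
    intro a b hab
    have := congrArg (Subtype.val : K → G) hab
    simpa using this
  exact ⟨Equiv.ofBijective _ (Finite.injective_iff_bijective.mp hinj), fun h => rfl⟩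

theorem inner_int (H : Half M k₁ k₂ e₁ K φ ε) (ho : orderOf k₁ = 3)
    (he : e₁ * k₁ * e₁⁻¹ = k₁⁻¹) (i : Fin 3) (χ : IrrCharacter G) :
    ∃ m : ℤ, (Nat.card K : ℂ)⁻¹ * ∑ h : K, (χ : G → ℂ) (k₁ * h) * conj ((φ i : K → ℂ) h) = m := by
  obtain ⟨σ, hσ⟩ := exists_conj_equiv H
  have hcf := irr_isClassFunction χ
  let f : K × Multiplicative (ZMod 3) →* G :=
    { toFun := fun a => (a.1 : G) * cyc k₁ ho a.2
      map_one' := by
        change ((1 : K) : G) * cyc k₁ ho 1 = 1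
        rw [map_one, OneMemClass.coe_one, mul_one]
      map_mul' := by
        rintro ⟨a, c⟩ ⟨b, d⟩
        change ((a * b : K) : G) * cyc k₁ ho (c * d) = (a : G) * cyc k₁ ho c * ((b : G) * cyc k₁ ho d)
        rw [map_mul, Subgroup.coe_mul]
        have h1 : Commute (b : G) (cyc k₁ ho c) := by
          have h2 : Commute (b : G) k₁ := (H.comm b b.2).symm
          exact h2.pow_right _
        rw [mul_assoc, mul_assoc]
        congr 1
        rw [← mul_assoc, ← mul_assoc, h1.eq] }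
  have h1 : (fun a : K => (χ : G → ℂ) (f (a, Multiplicative.ofAdd 1))) =
      fun a : K => (χ : G → ℂ) (k₁ * a) := by
    funext a
    change (χ : G → ℂ) ((a : G) * cyc k₁ ho (Multiplicative.ofAdd 1)) = _
    rw [cyc_one, H.comm a a.2]
  have h2 : (fun a : K => (χ : G → ℂ) (f (a, Multiplicative.ofAdd 2))) =
      fun a : K => (χ : G → ℂ) (k₁⁻¹ * a) := by
    funext a
    change (χ : G → ℂ) ((a : G) * cyc k₁ ho (Multiplicative.ofAdd 2)) = _
    have h3 : Commute (a : G) k₁ := (H.comm a a.2).symm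
    rw [cyc_two, h3.inv_right.eq]
  have h12 : classInner (fun a : K => (χ : G → ℂ) (k₁ * a)) (φ i : K → ℂ) =
      classInner (fun a : K => (χ : G → ℂ) (k₁⁻¹ * a)) (φ i : K → ℂ) := by
    unfold classInner
    congr 1
    rw [← Equiv.sum_comp σ (fun a : K => (χ : G → ℂ) (k₁⁻¹ * a) * conj ((φ i : K → ℂ) a))]
    refine Finset.sum_congr rfl fun h _ => ?_
    rw [H.fix i h (σ h) (hσ h), hσ h]
    have h4 : k₁⁻¹ * (e₁ * (h : G) * e₁⁻¹) = e₁ * (k₁ * h) * e₁⁻¹ := by
      rw [← he]; group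
    rw [h4, hcf]
  obtain ⟨m₀, m₁, h5, -⟩ := inner_tri f (irr_isCharacter χ) (irr_isCharacter (φ i)) (by
    rw [h1, h2, h12])
  rw [h1] at h5
  refine ⟨m₀ - m₁, ?_⟩
  push_cast
  exact h5

/-- (a) the vectors are integral -/
theorem PV_int (H : Half M k₁ k₂ e₁ K φ ε) (ho : orderOf k₁ = 3)
    (he : e₁ * k₁ * e₁⁻¹ = k₁⁻¹) (i : Fin 3) (χ : IrrCharacter G) :
    ∃ m : ℤ, PV M k₁ φ ε i χ = m := by
  unfold PV
  split_ifs with h
  · obtain ⟨m, hm⟩ := inner_int H ho he i χ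
    refine ⟨ε i * m, ?_⟩
    rw [hm]
    push_cast
    rfl
  · exact ⟨0, by simp⟩

theorem KB_nine (hM : IsPModular 3 M) {x : G} (hx : orderOf x = 3)
    (hcore : ∃ k, (pPrimeCore 3 (centralizer ({x} : Set G))).index = 3 ^ k)
    (hcard : 3 ^ (Nat.card (centralizer ({x} : Set G))).factorization 3 = 9) :
    KB M x x = 9 := by
  have hx1 : x ≠ 1 := by
    intro h; rw [h, orderOf_one] at hx; norm_num at hx
  have h1 := (S0947.result 3 M hM x ⟨1, by rw [hx, pow_one]⟩ hx1 1 (by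
    rw [orderOf_one, Nat.dvd_one]; norm_num)).2 hcore
  rw [hcard] at h1
  have h2 := H4.ofReal_finsum_norm_sq (principalBlock M G)
    (x * ((1 : Subgroup.centralizer ({x} : Set G)) : G))
  rw [h1, OneMemClass.coe_one, mul_one] at h2
  unfold KB
  have h3 : (((9 : ℕ) : ℝ) : ℂ) = 9 := by norm_num
  rw [h3] at h2
  rw [h2]
  refine Finset.sum_congr rfl fun χ _ => ?_
  split_ifs <;> rfl

end

/-- assembly -/
theorem vec_of_half {G : Type u} [Group G] [Finite G] [Fintype (IrrCharacter G)]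
    {M : Ideal AlgInt} [DecidablePred (· ∈ principalBlock M G)] (hM : IsPModular 3 M)
    {P : Sylow 3 G} {k₁ k₂ e₁ e₂ : G}
    (S : V4Sit P k₁ k₂ e₁ e₂) {K K' : Subgroup G} {φ : Fin 3 → IrrCharacter K}
    {φ' : Fin 3 → IrrCharacter K'} {ε ε' : Fin 3 → ℤ}
    (H : Half M k₁ k₂ e₁ K φ ε) (H' : Half M k₂ k₁ e₂ K' φ' ε')
    (nc : ¬ IsConj k₁ k₂ ∧ ¬ IsConj k₁ (k₁ * k₂) ∧ ¬ IsConj k₂ (k₁ * k₂))
    (hcore : ∃ k, (pPrimeCore 3 (centralizer ({k₁ * k₂} : Set G))).index = 3 ^ k)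
    (hcard : 3 ^ (Nat.card (centralizer ({k₁ * k₂} : Set G))).factorization 3 = 9)
    (ho12 : orderOf (k₁ * k₂) = 3) :
    ∃ p p' : Fin 3 → IrrCharacter G → ℤ, Vec p p' := by
  have := Fintype.ofFinite K
  have := Fintype.ofFinite K'
  have : M.IsPrime := Blk.isPrime_of_isPModular hM
  have h9 : KB M (k₁ * k₂) (k₁ * k₂) = 9 := KB_nine hM ho12 hcore hcard
  have h9' : KB M (k₂ * k₁) (k₂ * k₁) = 9 := by rw [← S.comm]; exact h9
  have ho21 : orderOf (k₂ * k₁) = 3 := by rw [← S.comm]; exact ho12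
  obtain ⟨nc12, nc1, nc2⟩ := nc
  have nc2' : ¬ IsConj k₂ (k₂ * k₁) := by rw [← S.comm]; exact nc2
  choose p hp using fun i => PV_int H S.o₁ S.a₁ i
  choose p' hp' using fun i => PV_int H' S.o₂ S.b₂ i
  have cj : ∀ z : ℤ, conj (z : ℂ) = z := fun z => map_intCast (starRingEnd ℂ) z
  have hsum : ∀ χ : IrrCharacter G, χ ∈ principalBlock M G →
      ((∑ i, p i χ : ℤ) : ℂ) = (χ : G → ℂ) (k₁ * k₂) := by
    intro χ hχ
    rw [← PV_sum H hχ]
    push_cast
    exact Finset.sum_congr rfl fun i _ => (hp i χ).symm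
  have hsum' : ∀ χ : IrrCharacter G, χ ∈ principalBlock M G →
      ((∑ i, p' i χ : ℤ) : ℂ) = (χ : G → ℂ) (k₁ * k₂) := by
    intro χ hχ
    rw [S.comm, ← PV_sum H' hχ]
    push_cast
    exact Finset.sum_congr rfl fun i _ => (hp' i χ).symm
  have hout : ∀ χ : IrrCharacter G, χ ∉ principalBlock M G → ∀ i, p i χ = 0 := by
    intro χ hχ i
    have h := hp i χ
    unfold PV at h
    rw [if_neg hχ] at h
    exact_mod_cast h.symm
  have hout' : ∀ χ : IrrCharacter G, χ ∉ principalBlock M G → ∀ i, p' i χ = 0 := by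
    intro χ hχ i
    have h := hp' i χ
    unfold PV at h
    rw [if_neg hχ] at h
    exact_mod_cast h.symm
  refine ⟨p, p', ?_, ?_, ?_, ?_, ?_, ?_, ?_, ?_, ?_⟩
  · intro i j
    have h := PV_gram hM H S.o₁ ho12 nc1 h9 i j
    simp only [hp, cj] at h
    have h2 : ((∑ χ, p i χ * p j χ : ℤ) : ℂ) = ((if i = j then 3 else 0 : ℤ) : ℂ) := by
      push_cast
      rw [h]
    exact_mod_cast h2
  · intro i j
    have h := PV_gram hM H' S.o₂ ho21 nc2' h9' i j
    simp only [hp', cj] at h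
    have h2 : ((∑ χ, p' i χ * p' j χ : ℤ) : ℂ) = ((if i = j then 3 else 0 : ℤ) : ℂ) := by
      push_cast
      rw [h]
    exact_mod_cast h2
  · intro i j
    have h := PV_cross hM H H' S.o₁ S.o₂ S.comm ho12 nc1 nc2 nc12 h9 i j
    simp only [hp, hp', cj] at h
    exact_mod_cast h
  · intro χ
    by_cases hχ : χ ∈ principalBlock M G
    · have h1 := (hsum χ hχ).trans (hsum' χ hχ).symm
      exact_mod_cast h1
    · rw [Finset.sum_congr rfl fun i _ => hout χ hχ i, Finset.sum_congr rfl fun i _ => hout' χ hχ i]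
  · intro i
    have h := PV_one (M := M) inferInstance H i
    rw [hp] at h
    have h2 : ((p i (oneIrr G) : ℤ) : ℂ) = ((if i = 0 then 1 else 0 : ℤ) : ℂ) := by
      rw [h]; split_ifs <;> simp
    exact_mod_cast h2
  · intro i
    have h := PV_one (M := M) inferInstance H' i
    rw [hp'] at h
    have h2 : ((p' i (oneIrr G) : ℤ) : ℂ) = ((if i = 0 then 1 else 0 : ℤ) : ℂ) := by
      rw [h]; split_ifs <;> simp
    exact_mod_cast h2
  · intro i g hg
    have h := PV_reg hM H S.o₁ ho12 i g hg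
    simp only [hp] at h
    exact h
  · intro i g hg
    have h := PV_reg hM H' S.o₂ ho21 i g hg
    simp only [hp'] at h
    exact h
  · intro χ hne
    by_cases hχ : χ ∈ principalBlock M G
    · have hcj : IsConj (k₁ * k₂) (k₁ * k₂)⁻¹ := by
        refine isConj_iff.mpr ⟨e₁ * e₂, ?_⟩
        calc e₁ * e₂ * (k₁ * k₂) * (e₁ * e₂)⁻¹ =
            e₁ * ((e₂ * k₁ * e₂⁻¹) * (e₂ * k₂ * e₂⁻¹)) * e₁⁻¹ := by group
          _ = (e₁ * k₁ * e₁⁻¹) * (e₁ * k₂ * e₁⁻¹)⁻¹ := by rw [S.b₁, S.b₂]; group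
          _ = (k₁ * k₂)⁻¹ := by rw [S.a₁, S.a₂, S.comm]; group
      obtain ⟨m₀, m₁, h1, h2⟩ := val_int (irr_isCharacter χ) ho12 hcj
      rw [← hsum χ hχ] at h1
      rw [H75.deg_spec] at h2
      have h3 : (H75.deg χ : ℤ) = m₀ + 2 * m₁ := by exact_mod_cast h2
      have h4 : ∑ i, p i χ = m₀ - m₁ := by exact_mod_cast h1
      exact ⟨m₁, by rw [h3, h4]; ring⟩
    · exact absurd (Finset.sum_eq_zero fun i _ => hout χ hχ i) hne

end Cfsg.Agent.H76.K3
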