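import Cfsg.Agent.H76.K3C
import Cfsg.Agent.JY.V1S

set_option autoImplicit false
set_option linter.unusedSectionVars false

/-! S2219 (V1): the vectors exist (helper60, helper76). -/

namespace Cfsg.Agent.H76.K3

open scoped ComplexConjugate
open Cfsg Cfsg.Agent.CharBase Cfsg.Agent.H4.K3 Subgroup

universe u

open Classical in
theorem half_conv {G : Type u} [Group G] [Finite G] [Fintype (IrrCharacter G)] {M : Ideal AlgInt}
    {k₁ k₂ e₁ : G} {K : Subgroup G} {φ : Fin 3 → IrrCharacter K} {ε : Fin 3 → ℤ}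
    (H : JY.V1.Half M k₁ k₂ e₁ K φ ε) : Half M k₁ k₂ e₁ K φ ε where
  comm := H.comm
  dec := H.dec
  uniq := H.uniq
  inv := H.inv
  inj := H.inj
  phi0 := H.phi0
  eps0 := H.eps0
  sg := H.sg
  sum := H.sum
  val := H.val
  fix := H.fix
  sing := H.sing
  kernel := by
    intro y y' hy hy'
    rw [← H.kernel y y' hy hy']

/-- (V1) of S2219 -/
theorem exists_vec {G : Type u} [Group G] [Finite G] [Fintype (IrrCharacter G)] {P : Sylow 3 G}
    {k₁ k₂ e₁ e₂ : G} (S : V4Sit P k₁ k₂ e₁ e₂) : ∃ p p' : Fin 3 → IrrCharacter G → ℤ, Vec p p' := by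
  classical
  obtain ⟨M, hM⟩ := Glaub.exists_isPModular Nat.prime_three
  obtain ⟨K, φ, ε, H⟩ := JY.V1.exists_half S hM
  obtain ⟨K', φ', ε', H'⟩ := JY.V1.exists_half (JY.V1.symm S) hM
  exact vec_of_half hM S (half_conv H) (half_conv H') (JY.V1.not_conj S) (JY.V1.core12 S)
    (JY.V1.card12 S) (JY.V1.ord12 S)

end Cfsg.Agent.H76.K3
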