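import Cfsg.Agent.H76.Triple2
import Cfsg.Agent.Char.ExtCyclic
import Cfsg.Agent.H75.Ito
import Cfsg.Agent.H75.Perm
import Cfsg.Agent.Char.RelGlaub2

/-!
# Automorphisms acting trivially modulo a normal subgroup, of coprime order
-/

set_option autoImplicit false
set_option linter.unusedSectionVars false
set_option linter.unusedFintypeInType false

namespace Cfsg.Agent.H76.OS

open scoped ComplexConjugate
open Cfsg Cfsg.Agent.CharBase Cfsg.Agent.Char

universe u v w

variable {G : Type u} [Group G] [Finite G]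

/-- the restriction of an automorphism to a finite stable subgroup -/
noncomputable def resAut (α : MulAut G) (M : Subgroup G) (hα : ∀ m ∈ M, α m ∈ M) : M ≃* M :=
  MulEquiv.ofBijective
    ({ toFun := fun m => ⟨α m, hα m m.2⟩
       map_one' := Subtype.ext (by simp)
       map_mul' := fun a b => Subtype.ext (by simp) } : M →* M)
    (Finite.injective_iff_bijective.mp fun a b hab =>
      Subtype.ext (α.injective (congrArg Subtype.val hab)))

theorem resAut_coe (α : MulAut G) (M : Subgroup G) (hα : ∀ m ∈ M, α m ∈ M) (m : M) :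
    ((resAut α M hα m : M) : G) = α m := rfl

theorem mem_of_pow_mem {I : Subgroup G} {g : G} {a b : ℕ} (hab : a.Coprime b) (ha : g ^ a ∈ I)
    (hb : g ^ b ∈ I) : g ∈ I := by
  have h1 := Nat.gcd_eq_gcd_ab a b
  rw [hab] at h1
  have h2 : g = (g ^ a) ^ (a.gcdA b) * (g ^ b) ^ (a.gcdB b) := by
    rw [← zpow_natCast, ← zpow_natCast, ← zpow_mul, ← zpow_mul, ← zpow_add, ← h1, Nat.cast_one,
      zpow_one]
  rw [h2]
  exact I.mul_mem (I.zpow_mem ha _) (I.zpow_mem hb _)

theorem pow_fix {α : MulAut G} {M : Subgroup G} (htriv : ∀ g, α g * g⁻¹ ∈ M) (g : G) :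
    ∃ m ∈ M, α⁻¹ g = g * m := by
  refine ⟨g⁻¹ * α⁻¹ g, ?_, by group⟩
  have h1 := htriv (α⁻¹ g)⁻¹
  rw [map_inv, MulAut.apply_inv_self, inv_inv] at h1
  exact h1

/-- If `χ` is invariant, all its constituents in `M` are invariant. -/
theorem constituent_invariant (M : Subgroup G) [hMn : M.Normal] [Fintype M] (α : MulAut G) {n : ℕ}
    (hn : α ^ n = 1) (hcop : n.Coprime (Nat.card G)) (hαM : ∀ m ∈ M, α m ∈ M)
    (htriv : ∀ g, α g * g⁻¹ ∈ M) {χ : G → ℂ} (hχ : IsIrrCharacter G χ)
    (hinv : ∀ g, χ (α g) = χ g) {φ : M → ℂ} (hφ : IsIrrCharacter M φ)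
    (h : classInner (fun m : M => χ m) φ ≠ 0) (m : M) : φ ⟨α m, hαM m m.2⟩ = φ m := by
  classical
  have := Fintype.ofFinite G
  have hφcl := isClassFunction_of_isCharacter (isCharacter_of_isIrr hφ)
  have h1 : IsIrrCharacter M (fun m => φ (resAut α M hαM m)) :=
    isIrrCharacter_comp_surjective hφ (resAut α M hαM).toMonoidHom (resAut α M hαM).surjective
  have h2 : classInner (fun m : M => χ m) (fun m => φ (resAut α M hαM m)) ≠ 0 := by
    have e1 := classInner_comp_equiv (resAut α M hαM) (fun m : M => χ m) φ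
    have h' := h
    rw [← e1] at h'
    convert h' using 2
    funext m
    exact (hinv m).symm
  obtain ⟨g, hg⟩ := exists_conj_of_constituents M hχ hφ h1 h h2
  have key : ∀ k : ℕ, ∀ m : M, ∀ m' : M, (m' : G) = (α ^ k) m → φ m' = cj M (g ^ k) φ m := by
    intro k
    induction k with
    | zero =>
      intro m m' hm
      rw [pow_zero, cj_one]
      rw [pow_zero] at hm
      congr 1
      exact Subtype.ext hm
    | succ k ih =>
      intro m m' hm
      rw [pow_succ, MulAut.mul_apply] at hm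
      rw [ih (resAut α M hαM m) m' hm]
      -- now commute `α` past the conjugation
      obtain ⟨m₀, hm₀, hx⟩ := pow_fix htriv (g ^ k)
      have e1 : ∀ y : M, φ (resAut α M hαM y) = cj M g φ y := fun y => (congrFun hg y).symm
      let y : M := ⟨g ^ k * m₀ * m * (g ^ k * m₀)⁻¹, hMn.conj_mem m m.2 _⟩
      have e2 : resAut α M hαM y = ⟨g ^ k * (resAut α M hαM m : M) * (g ^ k)⁻¹,
          hMn.conj_mem _ (resAut α M hαM m).2 _⟩ := by
        apply Subtype.ext
        rw [resAut_coe]
        change α (g ^ k * m₀ * m * (g ^ k * m₀)⁻¹) = g ^ k * α m * (g ^ k)⁻¹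
        rw [← hx, map_mul, map_mul, map_inv, MulAut.apply_inv_self]
      rw [cj_apply, ← e2, e1, cj_apply, cj_apply]
      -- conjugate by an element of `M`
      let w : M := ⟨g ^ (k + 1) * m₀ * (g ^ (k + 1))⁻¹, hMn.conj_mem m₀ hm₀ _⟩
      let v : M := ⟨g ^ (k + 1) * m * (g ^ (k + 1))⁻¹, hMn.conj_mem m m.2 _⟩
      have e3 := hφcl v w
      rw [← e3]
      congr 1
      apply Subtype.ext
      change g * (g ^ k * m₀ * m * (g ^ k * m₀)⁻¹) * g⁻¹ =
        g ^ (k + 1) * m₀ * (g ^ (k + 1))⁻¹ * (g ^ (k + 1) * m * (g ^ (k + 1))⁻¹) *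
          (g ^ (k + 1) * m₀ * (g ^ (k + 1))⁻¹)⁻¹
      rw [pow_succ' g k]
      group
  have h3 : g ^ n ∈ inertia M φ := by
    rw [mem_inertia]
    funext m
    rw [← key n m m (by rw [hn]; rfl)]
  have h4 : g ^ Nat.card G ∈ inertia M φ := by
    rw [pow_card_eq_one']
    exact one_mem _
  have h5 := mem_of_pow_mem hcop h3 h4
  rw [mem_inertia] at h5
  rw [h5] at hg
  exact (congrFun hg m).symm

theorem inv_of_cyclic (M : Subgroup G) [hMn : M.Normal] [Fintype M] (hcyc : IsCyclic (G ⧸ M))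
    (α : MulAut G) {n : ℕ} (hn : α ^ n = 1) (hcop : n.Coprime (Nat.card G))
    (hαM : ∀ m ∈ M, α m ∈ M) (htriv : ∀ g, α g * g⁻¹ ∈ M) {φ : M → ℂ} (hφ : IsIrrCharacter M φ)
    (hφG : ∀ g, cj M g φ = φ) (hφα : ∀ m : M, φ ⟨α m, hαM m m.2⟩ = φ m) {χ : G → ℂ}
    (hχ : IsIrrCharacter G χ) (h : classInner (fun m : M => χ m) φ ≠ 0) (g : G) :
    χ (α g) = χ g := by
  classical
  have := Fintype.ofFinite G
  obtain ⟨E, hE, hEφ⟩ := exists_extension_of_cyclic M hcyc hφ hφG
  obtain ⟨β, hβk, hβ⟩ := exists_gallagher M hφ hE hEφ hχ h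
  have hβ1 : (β : G → ℂ) 1 = 1 := by
    obtain ⟨β', hβ', h1⟩ := H75.exists_deflate_irr M β.2 hβk
    have h2 := H75.irr_one_of_comm (G := G ⧸ M) (fun a b => by
      obtain ⟨c, hc⟩ := hcyc.exists_generator
      obtain ⟨i, rfl⟩ := hc a
      obtain ⟨j, rfl⟩ := hc b
      simp only
      rw [← zpow_add, ← zpow_add, add_comm]) ⟨β', hβ'⟩
    rw [← h1]
    exact h2
  have hχφ : ∀ m : M, χ m = φ m := by
    intro m
    rw [hβ, Pi.mul_apply, hβk m m.2, hβ1, one_mul, hEφ]
  have hχα : IsIrrCharacter G (fun g => χ (α g)) :=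
    isIrrCharacter_comp_surjective hχ α.toMonoidHom α.surjective
  have h1 : classInner (fun m : M => χ (α m)) φ ≠ 0 := by
    have : (fun m : M => χ (α m)) = φ := by
      funext m
      have := hχφ ⟨α m, hαM m m.2⟩
      rw [hφα] at this
      exact this
    rw [this, classInner_self_of_irr hφ]
    exact one_ne_zero
  obtain ⟨δ, hδk, hδ⟩ := exists_gallagher M hφ hχ hχφ hχα h1
  have hδ1 : (δ : G → ℂ) 1 = 1 := by
    have h2 := congrFun hδ 1
    simp only [map_one, Pi.mul_apply] at h2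
    have h3 := irr_one_ne_zero hχ
    exact mul_right_cancel₀ h3 (by rw [one_mul]; exact h2.symm)
  have hδmul : ∀ a b : G, (δ : G → ℂ) (a * b) = (δ : G → ℂ) a * (δ : G → ℂ) b := fun a b =>
    linChar_mul (isCharacter_of_isIrr δ.2) hδ1 a b
  have hδα : ∀ g, (δ : G → ℂ) (α g) = (δ : G → ℂ) g := by
    intro g
    have h2 : α g = (α g * g⁻¹) * g := by group
    rw [h2, hδmul, hδk _ (htriv g), hδ1, one_mul]
  have hpow : ∀ k : ℕ, ∀ g, χ ((α ^ k) g) = (δ : G → ℂ) g ^ k * χ g := by
    intro k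
    induction k with
    | zero => intro g; simp
    | succ k ih =>
      intro g
      rw [pow_succ, MulAut.mul_apply, ih (α g), hδα]
      have h2 := congrFun hδ g
      simp only [Pi.mul_apply] at h2
      rw [h2, pow_succ]
      ring
  -- choose a point where `χ` does not vanish
  have hres : IsIrrCharacter M (fun m : M => χ m) := by
    have : (fun m : M => χ m) = φ := funext hχφ
    rw [this]; exact hφ
  obtain ⟨m, hm, hne⟩ : ∃ m ∈ M, χ (m * g) ≠ 0 := by
    by_contra hcon
    push Not at hcon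
    have e1 := avgN_mul_conj_of_restrict_irr M hχ hres
    have e2 := congrFun e1 g
    rw [avgN_apply] at e2
    have e3 : ∀ n : M, (χ * fun g => conj (χ g)) ((n : G) * g) = 0 := by
      intro n
      change χ (n * g) * _ = 0
      rw [hcon n n.2, zero_mul]
    rw [Finset.sum_congr rfl (fun n _ => e3 n), Finset.sum_const_zero, mul_zero] at e2
    exact zero_ne_one e2
  have h2 : (δ : G → ℂ) (m * g) = (δ : G → ℂ) g := by
    rw [hδmul, hδk m hm, hδ1, one_mul]
  have h3 : (δ : G → ℂ) g ^ n = 1 := by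
    have h4 := hpow n (m * g)
    rw [hn, h2] at h4
    change χ (m * g) = _ at h4
    exact (mul_right_cancel₀ hne (by rw [one_mul]; exact h4)).symm
  have h4 : (δ : G → ℂ) g ^ Nat.card G = 1 := by
    have h5 : ∀ k : ℕ, (δ : G → ℂ) (g ^ k) = (δ : G → ℂ) g ^ k := by
      intro k
      induction k with
      | zero => simpa using hδ1
      | succ k ih => rw [pow_succ, hδmul, ih, pow_succ]
    rw [← h5, pow_card_eq_one', hδ1]
  have h5 : (δ : G → ℂ) g = 1 := by
    have h6 : orderOf ((δ : G → ℂ) g) ∣ Nat.gcd n (Nat.card G) :=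
      Nat.dvd_gcd (orderOf_dvd_of_pow_eq_one h3) (orderOf_dvd_of_pow_eq_one h4)
    rw [hcop] at h6
    exact orderOf_eq_one_iff.mp (Nat.dvd_one.mp h6)
  have h6 := congrFun hδ g
  simp only [Pi.mul_apply] at h6
  rw [h6, h5, one_mul]

/-- All characters above an invariant character (stable under `G` and `α`) are invariant. -/
theorem inv_of_over (M : Subgroup G) [hMn : M.Normal] [Fintype M]
    (α : MulAut G) {n : ℕ} (hn : α ^ n = 1) (hcop : n.Coprime (Nat.card G))
    (hαM : ∀ m ∈ M, α m ∈ M) (htriv : ∀ g, α g * g⁻¹ ∈ M) {φ : M → ℂ} (hφ : IsIrrCharacter M φ)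
    (hφG : ∀ g, cj M g φ = φ) (hφα : ∀ m : M, φ ⟨α m, hαM m m.2⟩ = φ m) {χ : G → ℂ}
    (hχ : IsIrrCharacter G χ) (h : classInner (fun m : M => χ m) φ ≠ 0) (g : G) :
    χ (α g) = χ g := by
  classical
  have := Fintype.ofFinite G
  obtain ⟨E, hEdef⟩ : ∃ E : Subgroup G, E = M ⊔ Subgroup.zpowers g := ⟨_, rfl⟩
  have hME : M ≤ E := hEdef ▸ le_sup_left
  have hgE : g ∈ E := hEdef ▸ (le_sup_right : Subgroup.zpowers g ≤ _) (Subgroup.mem_zpowers g)
  have := Fintype.ofFinite E
  have := Fintype.ofFinite (M.subgroupOf E)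
  have hαE : ∀ x ∈ E, α x ∈ E := by
    intro x hx
    have h1 : α x = (α x * x⁻¹) * x := by group
    rw [h1]
    exact E.mul_mem (hME (htriv x)) hx
  have hαM' : ∀ m ∈ M.subgroupOf E, resAut α E hαE m ∈ M.subgroupOf E := by
    intro m hm
    exact hαM _ hm
  let e : M.subgroupOf E ≃* M := Subgroup.subgroupOfEquivOfLe hME
  have he : ∀ m : M.subgroupOf E, ((e m : M) : G) = ((m : E) : G) := fun m => rfl
  have hφ' : IsIrrCharacter (M.subgroupOf E) (fun m => φ (e m)) :=
    isIrrCharacter_comp_surjective hφ e.toMonoidHom e.surjective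
  have hcyc : IsCyclic (E ⧸ M.subgroupOf E) := by
    refine ⟨⟨((⟨g, hgE⟩ : E) : E ⧸ M.subgroupOf E), ?_⟩⟩
    intro x
    obtain ⟨⟨x, hx⟩, rfl⟩ := QuotientGroup.mk_surjective x
    have hx' := hx
    rw [hEdef] at hx'
    obtain ⟨m, hm, c, hc, hmc⟩ := Subgroup.mem_sup_of_normal_left.mp hx'
    obtain ⟨k, rfl⟩ := hc
    refine ⟨k, ?_⟩
    simp only
    rw [← QuotientGroup.mk_zpow]
    symm
    rw [eq_comm, QuotientGroup.eq, Subgroup.mem_subgroupOf]
    change (g ^ k)⁻¹ * x ∈ M
    rw [← hmc]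
    have := hMn.conj_mem m hm (g ^ k)⁻¹
    rwa [inv_inv, mul_assoc] at this
  have key : ∀ ψ : IrrCharacter E, classInner (fun x : E => χ x) (ψ : E → ℂ) ≠ 0 →
      ∀ x : E, (ψ : E → ℂ) (resAut α E hαE x) = (ψ : E → ℂ) x := by
    intro ψ hψ
    refine inv_of_cyclic (M.subgroupOf E) hcyc (resAut α E hαE) (n := n) ?_ ?_ hαM' ?_ hφ' ?_ ?_
      ψ.2 ?_
    · have h1 : ∀ k : ℕ, ∀ x : E, ((((resAut α E hαE : MulAut E) ^ k) x : E) : G) = (α ^ k) x := by
        intro k
        induction k with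
        | zero => intro x; rfl
        | succ k ih =>
          intro x
          rw [pow_succ, pow_succ]
          exact ih (resAut α E hαE x)
      ext x
      rw [h1, hn]
      rfl
    · exact hcop.coprime_dvd_right (Subgroup.card_subgroup_dvd_card E)
    · intro x
      exact htriv x
    · intro x
      funext m
      have h1 := congrFun (hφG (x : G)) (e m)
      rw [← h1]
      rfl
    · intro m
      exact hφα (e m)
    · obtain ⟨θ, hθ, hθ2⟩ := exists_constituent_restrict (M.subgroupOf E) (irr_isCharacter ψ)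
        (irr_one_ne_zero ψ.2)
      have h1 : classInner (fun m : M.subgroupOf E => χ (m : E)) θ ≠ 0 :=
        RG.inner_comp_ne_zero (M.subgroupOf E).subtype
          (isCharacter_restrict (isCharacter_of_isIrr hχ) E) ψ.2 hθ hψ hθ2
      have h2 : IsIrrCharacter M (fun m => θ (e.symm m)) :=
        isIrrCharacter_comp_surjective hθ e.symm.toMonoidHom e.symm.surjective
      have h3 : classInner (fun m : M => χ m) (fun m => θ (e.symm m)) ≠ 0 := by
        rw [← classInner_comp_equiv e]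
        convert h1 using 2
        · funext m
          rfl
        · funext m
          rw [MulEquiv.symm_apply_apply]
      obtain ⟨x, hx⟩ := exists_conj_of_constituents M hχ hφ h2 h h3
      rw [hφG] at hx
      have h4 : (fun m => φ (e m)) = θ := by
        funext m
        rw [hx]
        simp only [MulEquiv.symm_apply_apply]
      rw [h4]
      exact hθ2
  have : Fintype (IrrCharacter E) := Fintype.ofFinite _
  obtain ⟨k, hk, hsum⟩ := exists_mult_of_isCharacter (isCharacter_restrict (isCharacter_of_isIrr hχ) E)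
  have h1 := congrFun hsum (resAut α E hαE ⟨g, hgE⟩)
  have h2 := congrFun hsum ⟨g, hgE⟩
  change χ (α g) = _ at h1
  change χ g = _ at h2
  rw [h1, h2, Finset.sum_apply, Finset.sum_apply]
  refine Finset.sum_congr rfl fun ψ _ => ?_
  rw [Pi.smul_apply, Pi.smul_apply]
  by_cases h0 : k ψ = 0
  · rw [h0, zero_smul, zero_smul]
  · rw [key ψ (by
      have := hk ψ
      change classInner (fun x : E => χ x) (ψ : E → ℂ) = _ at this
      rw [this]
      exact_mod_cast h0)]

end Cfsg.Agent.H76.OS
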