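import Cfsg.Agent.H76.CamD
import Cfsg.Agent.Transfer.Tate
import Cfsg.Agent.S0033
import Cfsg.Agent.H10.HallBasic
import Cfsg.Agent.Solv.Frattini

/-!
# Group theory for S4805
-/

set_option autoImplicit false
set_option linter.unusedSectionVars false

namespace Cfsg.Agent.H76

open scoped commutatorElement
open Subgroup

universe u

variable {Γ : Type u} [Group Γ] [Finite Γ]

/-- A normal subgroup whose nonidentity elements form one class is elementary abelian. -/
theorem elemab_of_class (V : Subgroup Γ) [hVn : V.Normal] (hV : V ≠ ⊥)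
    (h : ∀ x ∈ V, x ≠ 1 → ∀ y ∈ V, y ≠ 1 → IsConj x y) :
    ∃ p, p.Prime ∧ (∀ x ∈ V, x ^ p = 1) ∧ V ≤ centralizer (V : Set Γ) := by
  have h1 : Nat.card V ≠ 1 := by
    intro h2
    exact hV (Subgroup.card_eq_one.mp h2)
  obtain ⟨p, hp, hpd⟩ := Nat.exists_prime_and_dvd h1
  have : Fact p.Prime := ⟨hp⟩
  obtain ⟨z, hz⟩ := exists_prime_orderOf_dvd_card' (G := V) p hpd
  have hz1 : (z : Γ) ≠ 1 := by
    intro h2
    have h3 : z = 1 := Subtype.ext h2
    rw [h3, orderOf_one] at hz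
    exact hp.one_lt.ne hz
  have hzp : (z : Γ) ^ p = 1 := by
    rw [← hz]
    have := pow_orderOf_eq_one z
    exact congrArg Subtype.val this
  have hall : ∀ x ∈ V, x ^ p = 1 := by
    intro x hx
    by_cases hx1 : x = 1
    · rw [hx1, one_pow]
    · obtain ⟨c, hc⟩ := isConj_iff.mp (h z z.2 hz1 x hx hx1)
      rw [← hc, conj_pow, hzp]
      group
  refine ⟨p, hp, hall, ?_⟩
  have hPV : IsPGroup p V := fun x => ⟨1, by
    rw [pow_one]
    exact Subtype.ext (hall x x.2)⟩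
  have h2 := Cfsg.Agent.Supersolvable.inf_centralizer_ne_bot V V hPV hPV
    (fun x _ => by rw [Subgroup.normalizer_eq_top]; trivial) hV
  obtain ⟨⟨w, hw⟩, hw2⟩ := Subgroup.ne_bot_iff_exists_ne_one.mp h2
  have hw1 : w ≠ 1 := fun h => hw2 (Subtype.ext h)
  have hCn : (centralizer (V : Set Γ)).Normal := Subgroup.normal_centralizer
  intro x hx
  by_cases hx1 : x = 1
  · rw [hx1]; exact one_mem _
  · obtain ⟨c, hc⟩ := isConj_iff.mp (h w hw.1 hw1 x hx hx1)
    rw [← hc]
    exact hCn.conj_mem _ hw.2 c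

theorem card_class_add {g : Γ} {N K : Subgroup Γ} (hKN : K ≤ N)
    (hcl : ∀ y, IsConj g y ↔ y ∈ N ∧ y ∉ K) :
    Nat.card {y : Γ // IsConj g y} + Nat.card K = Nat.card N := by
  have h1 : {y : Γ | IsConj g y} = (N : Set Γ) \ (K : Set Γ) := by
    ext y
    exact hcl y
  have h2 : Nat.card {y : Γ // IsConj g y} = ((N : Set Γ) \ (K : Set Γ)).ncard := by
    rw [← h1]; rfl
  have h3 : Nat.card K = (K : Set Γ).ncard := rfl
  have h4 : Nat.card N = (N : Set Γ).ncard := rfl
  rw [h2, h3, h4]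
  exact Set.ncard_sdiff_add_ncard_of_subset hKN

section classV

variable {V : Subgroup Γ} [hVn : V.Normal] (hab : ∀ a b : Γ, ⁅a, b⁆ ∈ V)
  (hVc : V ≤ centralizer (V : Set Γ)) {x : Γ} (hx : x ∈ V) (hx1 : x ≠ 1)
  (h : ∀ y ∈ V, y ≠ 1 → IsConj x y)

include hab hVc hx h in
theorem centralizer_eq_of_class : centralizer ({x} : Set Γ) = centralizer (V : Set Γ) := by
  apply le_antisymm
  · intro s hs
    rw [mem_centralizer_singleton_iff] at hs
    rw [mem_centralizer_iff]
    intro y hy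
    by_cases hy1 : y = 1
    · rw [hy1]; group
    · obtain ⟨c, hc⟩ := isConj_iff.mp (h y hy hy1)
      have h1 : x * ⁅s⁻¹, c⁻¹⁆ = ⁅s⁻¹, c⁻¹⁆ * x := mem_centralizer_iff.mp (hVc (hab s⁻¹ c⁻¹)) x hx
      have h2 : c⁻¹ * s * c = s * ⁅s⁻¹, c⁻¹⁆ := by simp only [commutatorElement_def]; group
      have h3 : (c⁻¹ * s * c) * x = x * (c⁻¹ * s * c) := by
        rw [h2, mul_assoc, ← h1, ← mul_assoc, hs, mul_assoc]
      rw [← hc]
      have h4 : c * x * c⁻¹ * s = c * (x * (c⁻¹ * s * c)) * c⁻¹ := by group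
      rw [h4, ← h3]
      group
  · exact Subgroup.centralizer_le (by simpa using hx)

include hab hVc hx hx1 h in
theorem index_centralizer_of_class : (centralizer (V : Set Γ)).index + 1 = Nat.card V := by
  rw [← centralizer_eq_of_class hab hVc hx h, ← CharBase.card_isConj_eq_index]
  have h1 := card_class_add (g := x) (N := V) (K := ⊥) bot_le (by
    intro y
    constructor
    · intro hy
      obtain ⟨c, hc⟩ := isConj_iff.mp hy
      refine ⟨by rw [← hc]; exact hVn.conj_mem _ hx c, ?_⟩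
      rw [mem_bot]
      rintro rfl
      exact hx1 (isConj_one_left.mp hy)
    · rintro ⟨h1, h2⟩
      exact h y h1 (fun h3 => h2 (mem_bot.mpr h3)))
  rw [Subgroup.card_bot] at h1
  exact h1

include hab hVc hx hx1 h in
theorem comm_of_centralizer (hV2 : 2 < Nat.card V) {a b : Γ} (ha : a ∈ centralizer (V : Set Γ))
    (hb : b ∈ centralizer (V : Set Γ)) : ⁅a, b⁆ = 1 := by
  have hCn : (centralizer (V : Set Γ)).Normal := Subgroup.normal_centralizer
  by_contra hne
  have hcent : ∀ g : Γ, g * ⁅a, b⁆ * g⁻¹ = ⁅a, b⁆ := by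
    intro g
    set a₁ := a⁻¹ * (g * a * g⁻¹) with ha₁
    set b₁ := b⁻¹ * (g * b * g⁻¹) with hb₁
    have ha₁V : a₁ ∈ V := by
      have : a₁ = ⁅a⁻¹, g⁆ := by rw [ha₁, commutatorElement_def]; group
      rw [this]; exact hab _ _
    have hb₁V : b₁ ∈ V := by
      have : b₁ = ⁅b⁻¹, g⁆ := by rw [hb₁, commutatorElement_def]; group
      rw [this]; exact hab _ _
    have e1 : g * ⁅a, b⁆ * g⁻¹ = ⁅a * a₁, b * b₁⁆ := by
      have h1 : a * a₁ = g * a * g⁻¹ := by rw [ha₁]; group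
      have h2 : b * b₁ = g * b * g⁻¹ := by rw [hb₁]; group
      rw [h1, h2, commutatorElement_def, commutatorElement_def]; group
    have c1 : a₁ * b = b * a₁ := mem_centralizer_iff.mp hb a₁ ha₁V
    have c2 : b₁ * a = a * b₁ := mem_centralizer_iff.mp ha b₁ hb₁V
    have c3 : a₁ * b₁ = b₁ * a₁ := mem_centralizer_iff.mp (hVc hb₁V) a₁ ha₁V
    have c4 : a₁ * a = a * a₁ := mem_centralizer_iff.mp ha a₁ ha₁V
    have c5 : b₁ * b = b * b₁ := mem_centralizer_iff.mp hb b₁ hb₁V
    rw [e1]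
    clear_value a₁ b₁
    clear e1 ha₁ hb₁
    rw [commutatorElement_def, commutatorElement_def, mul_inv_rev, mul_inv_rev]
    have e2 : a * a₁ * (b * b₁) = a * b * (a₁ * b₁) := by
      calc a * a₁ * (b * b₁) = a * (a₁ * b) * b₁ := by group
        _ = a * (b * a₁) * b₁ := by rw [c1]
        _ = a * b * (a₁ * b₁) := by group
    have e3 : (a₁⁻¹ * a⁻¹) * (b₁⁻¹ * b⁻¹) = (a₁ * b₁)⁻¹ * (a⁻¹ * b⁻¹) := by
      have d1 : (b * b₁ * (a * a₁)) = b * a * (a₁ * b₁) := by
        calc b * b₁ * (a * a₁) = b * (b₁ * a) * a₁ := by group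
          _ = b * (a * b₁) * a₁ := by rw [c2]
          _ = b * a * (b₁ * a₁) := by group
          _ = b * a * (a₁ * b₁) := by rw [c3]
      have d2 := congrArg (·⁻¹) d1
      simp only [mul_inv_rev] at d2
      rw [mul_inv_rev]
      exact d2
    calc a * a₁ * (b * b₁) * (a₁⁻¹ * a⁻¹) * (b₁⁻¹ * b⁻¹)
        = a * a₁ * (b * b₁) * ((a₁⁻¹ * a⁻¹) * (b₁⁻¹ * b⁻¹)) := by group
      _ = a * b * (a₁ * b₁) * ((a₁ * b₁)⁻¹ * (a⁻¹ * b⁻¹)) := by rw [e2, e3]
      _ = a * b * a⁻¹ * b⁻¹ := by group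
  -- all nonidentity elements of `V` are equal to `⁅a, b⁆`
  have hall : ∀ y ∈ V, y ≠ 1 → y = ⁅a, b⁆ := by
    intro y hy hy1
    obtain ⟨c, hc⟩ := isConj_iff.mp ((h _ (hab a b) hne).symm.trans (h y hy hy1))
    rw [hcent c] at hc
    exact hc.symm
  have hsub : (V : Set Γ) ⊆ {1, ⁅a, b⁆} := by
    intro y hy
    by_cases hy1 : y = 1
    · exact Or.inl hy1
    · exact Or.inr (hall y hy hy1)
  have h1 : (V : Set Γ).ncard ≤ 2 := (Set.ncard_le_ncard hsub (Set.toFinite _)).trans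
    ((Set.ncard_insert_le _ _).trans (by rw [Set.ncard_singleton]))
  have h2 : Nat.card V = (V : Set Γ).ncard := rfl
  omega

end classV

theorem relIndex_sylow {p : ℕ} [hpf : Fact p.Prime] (K : Subgroup Γ) [K.Normal] {m : ℕ}
    (hK : K.index = p ^ m) (P : Sylow p Γ) : K.relIndex (P : Subgroup Γ) = K.index := by
  have h1 : (P : Subgroup Γ) ⊔ K = ⊤ := by
    rw [← Subgroup.index_eq_one]
    have h2 : ((P : Subgroup Γ) ⊔ K).index ∣ p ^ m := by
      rw [← hK]; exact Subgroup.index_dvd_of_le le_sup_right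
    have h3 : ((P : Subgroup Γ) ⊔ K).index ∣ (P : Subgroup Γ).index :=
      Subgroup.index_dvd_of_le le_sup_left
    have h4 : Nat.Coprime (p ^ m) (P : Subgroup Γ).index :=
      (Nat.Prime.coprime_iff_not_dvd hpf.out).mpr P.not_dvd_index |>.pow_left m
    exact Nat.eq_one_of_dvd_coprimes h4 h2 h3
  rw [← Subgroup.relIndex_sup_right, h1, Subgroup.relIndex_top_right]

theorem tate_step {p : ℕ} [hpf : Fact p.Prime] (K : Subgroup Γ) [K.Normal] {m : ℕ}
    (hK : K.index = p ^ m) (P : Sylow p Γ) {g : Γ}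
    (hcl : ∀ h : Γ, g⁻¹ * (h * g * h⁻¹) ∈ K)
    (hC : Nat.card (centralizer ({g} : Set Γ)) = K.index)
    (hCP : centralizer ({g} : Set Γ) ≤ P) :
    (∀ y ∈ K, y ∈ P → ∃ u ∈ P, u * g * u⁻¹ = g * y) ∧ Cfsg.HasNormalPComplement p K := by
  have hgP : g ∈ P := hCP (mem_centralizer_singleton_iff.mpr rfl)
  have hrel := relIndex_sylow K hK P
  set g' : (P : Subgroup Γ) := ⟨g, hgP⟩ with hg'
  have h1 := CharBase.card_isConj_mul_card_centralizer g'
  have h2 : Nat.card (centralizer ({g'} : Set (P : Subgroup Γ))) =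
      Nat.card (centralizer ({g} : Set Γ)) := by
    have h3 : centralizer ({g'} : Set (P : Subgroup Γ)) =
        (centralizer ({g} : Set Γ)).subgroupOf (P : Subgroup Γ) := by
      ext y
      rw [mem_centralizer_singleton_iff, Subgroup.mem_subgroupOf, mem_centralizer_singleton_iff]
      constructor
      · intro h; exact congrArg Subtype.val h
      · intro h; exact Subtype.ext h
    rw [h3]
    exact Nat.card_congr (Subgroup.subgroupOfEquivOfLe hCP).toEquiv
  have h3 : Nat.card (K.subgroupOf (P : Subgroup Γ)) * K.index = Nat.card (P : Subgroup Γ) := by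
    rw [← hrel]
    exact Subgroup.card_mul_index _
  rw [h2, hC, ← h3] at h1
  have h4 : Nat.card {x : (P : Subgroup Γ) // IsConj g' x} =
      Nat.card (K.subgroupOf (P : Subgroup Γ)) :=
    Nat.eq_of_mul_eq_mul_right (Nat.pos_of_ne_zero Subgroup.index_ne_zero_of_finite) h1
  let φ : {x : (P : Subgroup Γ) // IsConj g' x} → K.subgroupOf (P : Subgroup Γ) := fun x =>
    ⟨g'⁻¹ * x, by
      obtain ⟨c, hc⟩ := isConj_iff.mp x.2
      rw [Subgroup.mem_subgroupOf, ← hc]
      exact hcl c⟩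
  have hφ : Function.Injective φ := by
    intro a b hab
    have := congrArg (fun z : K.subgroupOf (P : Subgroup Γ) => (z : (P : Subgroup Γ))) hab
    exact Subtype.ext (mul_left_cancel this)
  have hφs : Function.Surjective φ := (hφ.bijective_of_nat_card_le h4.ge).2
  have hA : ∀ y ∈ K, y ∈ P → ∃ u ∈ P, u * g * u⁻¹ = g * y := by
    intro y hy hyP
    obtain ⟨x, hx⟩ := hφs ⟨⟨y, hyP⟩, hy⟩
    obtain ⟨c, hc⟩ := isConj_iff.mp x.2
    refine ⟨c, c.2, ?_⟩
    have h5 : g'⁻¹ * (x : (P : Subgroup Γ)) = ⟨y, hyP⟩ := congrArg Subtype.val hx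
    have h6 : c * g' * c⁻¹ = g' * ⟨y, hyP⟩ := by rw [hc, ← h5, mul_inv_cancel_left]
    exact congrArg Subtype.val h6
  refine ⟨hA, ?_⟩
  apply Transfer.hasNPC_of_inf_le_frattini P K
  rintro y ⟨hy, hyP⟩
  obtain ⟨u, hu, he⟩ := hA y hy hyP
  refine ⟨⟨y, hyP⟩, ?_, rfl⟩
  apply Solv.commutator_le_frattini_of_pGroup P.isPGroup'
  have h5 : (⟨y, hyP⟩ : (P : Subgroup Γ)) = ⁅g'⁻¹, ⟨u, hu⟩⁆ := by
    apply Subtype.ext
    change y = g⁻¹ * u * g⁻¹⁻¹ * u⁻¹
    have : y = g⁻¹ * (u * g * u⁻¹) := by rw [he, inv_mul_cancel_left]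
    rw [this]; group
  rw [h5]
  exact Subgroup.commutator_mem_commutator (mem_top _) (mem_top _)

theorem solvable_of_chain {p : ℕ} [hpf : Fact p.Prime] (M K H : Subgroup Γ) [hMn : M.Normal]
    [hHn : H.Normal] (hMK : M ≤ K) (hKH : K ≤ H) {j m : ℕ} (h1 : M.relIndex K = p ^ j)
    (h2 : K.relIndex H = p ^ m) (hab : ∀ a b : Γ, ⁅a, b⁆ ∈ H) (hM : Group.IsSolvable M) :
    Group.IsSolvable Γ := by
  have hq : Group.IsSolvable (Γ ⧸ H) := by
    apply Group.isSolvable_of_comm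
    intro a b
    obtain ⟨a, rfl⟩ := QuotientGroup.mk'_surjective H a
    obtain ⟨b, rfl⟩ := QuotientGroup.mk'_surjective H b
    rw [← map_mul, ← map_mul, QuotientGroup.mk'_apply, QuotientGroup.mk'_apply, QuotientGroup.eq]
    have h3 : (a * b)⁻¹ * (b * a) = ⁅b⁻¹, a⁻¹⁆ := by simp only [commutatorElement_def]; group
    rw [h3]; exact hab _ _
  have hH : Group.IsSolvable H := by
    rw [Group.isSolvable_iff_subgroup_quotient (M.subgroupOf H)]
    constructor
    · exact Group.isSolvable_of_isSolvable_injective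
        (f := (Subgroup.subgroupOfEquivOfLe (hMK.trans hKH)).toMonoidHom)
        (Subgroup.subgroupOfEquivOfLe (hMK.trans hKH)).injective
    · have h3 : Nat.card (↥H ⧸ M.subgroupOf H) = p ^ (j + m) := by
        have h4 := Subgroup.relIndex_mul_relIndex M K H hMK hKH
        rw [h1, h2, ← pow_add] at h4
        exact h4.symm
      have h5 : IsPGroup p (↥H ⧸ M.subgroupOf H) := IsPGroup.of_card h3
      exact Frob.solv_of_nilp h5.isNilpotent
  exact (Group.isSolvable_iff_subgroup_quotient H).mpr ⟨hH, hq⟩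

theorem exists_core {p : ℕ} [hpf : Fact p.Prime] (K : Subgroup Γ) [hKn : K.Normal]
    (h : Cfsg.HasNormalPComplement p K) : ∃ M : Subgroup Γ, M.Normal ∧ M ≤ K ∧
      (Nat.card M).Coprime p ∧ ∃ j, M.relIndex K = p ^ j := by
  obtain ⟨N, hN, h1, j, h2⟩ := Transfer.hasNPC_iff_exists.1 h
  have hch : N.Characteristic := H10.characteristic_of_normal_hall N (by
    rw [h2]; exact h1.pow_right j)
  refine ⟨N.map K.subtype, inferInstance, Subgroup.map_subtype_le N, ?_, j, ?_⟩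
  · rw [Subgroup.card_subtype]; exact h1
  · rw [← h2]
    unfold Subgroup.relIndex
    congr 1
    exact Subgroup.comap_map_eq_self_of_injective K.subtype_injective N

theorem exists_core_of_cent {p : ℕ} [hpf : Fact p.Prime] (H K : Subgroup Γ)
    [hKn : K.Normal] (hKH : K ≤ H) {m : ℕ} (hm : K.relIndex H = p ^ m) {g : Γ}
    (hcl : ∀ h ∈ H, g⁻¹ * (h * g * h⁻¹) ∈ K)
    (hC : Nat.card (centralizer ({g} : Set Γ)) = p ^ m)
    (hCH : centralizer ({g} : Set Γ) ≤ H) :
    ∃ M : Subgroup Γ, M.Normal ∧ M ≤ K ∧ (Nat.card M).Coprime p ∧ ∃ j, M.relIndex K = p ^ j := by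
  apply exists_core K
  have hgH : g ∈ H := hCH (mem_centralizer_singleton_iff.mpr rfl)
  have h1 : Nat.card (centralizer ({(⟨g, hgH⟩ : H)} : Set H)) = p ^ m := by
    have h3 : centralizer ({(⟨g, hgH⟩ : H)} : Set H) = (centralizer ({g} : Set Γ)).subgroupOf H := by
      ext y
      rw [mem_centralizer_singleton_iff, Subgroup.mem_subgroupOf, mem_centralizer_singleton_iff]
      constructor
      · intro h; exact congrArg Subtype.val h
      · intro h; exact Subtype.ext h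
    rw [h3, ← hC]
    exact Nat.card_congr (Subgroup.subgroupOfEquivOfLe hCH).toEquiv
  have h2 : IsPGroup p (centralizer ({(⟨g, hgH⟩ : H)} : Set H)) := IsPGroup.of_card h1
  obtain ⟨P, hP⟩ := h2.exists_le_sylow
  have h3 := (tate_step (Γ := H) (K.subgroupOf H) (m := m) hm P (g := ⟨g, hgH⟩)
    (fun h => hcl h h.2) (by rw [h1]; exact hm.symm) hP).2
  exact (Transfer.hasNPC_congr (Subgroup.subgroupOfEquivOfLe hKH)).mp h3

theorem solv_two (K : Subgroup Γ) [hKn : K.Normal] {m : ℕ} (hm : K.index = 2 ^ m) {g : Γ}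
    (hcl : ∀ h, g⁻¹ * (h * g * h⁻¹) ∈ K) (hC : Nat.card (centralizer ({g} : Set Γ)) = 2 ^ m)
    (hFT : ∀ M : Subgroup Γ, Odd (Nat.card M) → Group.IsSolvable M) : Group.IsSolvable Γ := by
  obtain ⟨M, hM, hMK, hc, j, hj⟩ := exists_core_of_cent (p := 2) ⊤ K le_top
    (by rw [Subgroup.relIndex_top_right]; exact hm) (fun h _ => hcl h) hC le_top
  exact solvable_of_chain (p := 2) M K ⊤ hMK le_top hj
    (by rw [Subgroup.relIndex_top_right]; exact hm) (fun _ _ => mem_top _)
    (hFT M (Nat.coprime_two_right.mp hc))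

theorem solv_gen {p k : ℕ} [hpf : Fact p.Prime] (N K : Subgroup Γ) [hNn : N.Normal]
    [hKn : K.Normal] (hKN : K ≤ N) (hab : ∀ a b : Γ, ⁅a, b⁆ ∈ N) {g : Γ}
    (hcl : ∀ y, IsConj g y ↔ y ∈ N ∧ y ∉ K)
    (hNK : ∀ x ∈ N, ∀ u ∈ N, x⁻¹ * (u * x * u⁻¹) ∈ K)
    (hq : K.relIndex N = p ^ k) (hidx : N.index = p ^ k - 1)
    (hfree : ∀ h : Γ, ∀ x ∈ N, x ∉ K → x⁻¹ * (h * x * h⁻¹) ∈ K → h ∈ N)
    (hC : Nat.card (centralizer ({g} : Set Γ)) = p ^ k)
    (hFT : ∀ M : Subgroup Γ, Odd (Nat.card M) → Group.IsSolvable M) : Group.IsSolvable Γ := by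
  have hgN : g ∈ N ∧ g ∉ K := (hcl g).mp (IsConj.refl g)
  have hCN : centralizer ({g} : Set Γ) ≤ N := by
    intro c hc
    apply hfree c g hgN.1 hgN.2
    rw [mem_centralizer_singleton_iff] at hc
    rw [hc]
    have : g⁻¹ * (g * c * c⁻¹) = 1 := by group
    rw [this]; exact one_mem _
  obtain ⟨M, hM, hMK, hc, j, hj⟩ := exists_core_of_cent (p := p) N K hKN hq
    (fun h hh => hNK g hgN.1 h hh) hC hCN
  refine solvable_of_chain (p := p) M K N hMK hKN hj hq hab ?_
  by_cases hp2 : p = 2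
  · subst hp2
    exact hFT M (Nat.coprime_two_right.mp hc)
  -- the quotient by `M`
  set f := QuotientGroup.mk' M with hf
  have hfs : Function.Surjective f := QuotientGroup.mk'_surjective _
  have hMN := hMK.trans hKN
  have hmemN : ∀ a, f a ∈ N.map f ↔ a ∈ N := fun a => mem_map_mk hMN a
  have hmemK : ∀ a, f a ∈ K.map f ↔ a ∈ K := fun a => mem_map_mk hMK a
  have hcardN : Nat.card (N.map f) = p ^ (j + k) := by
    rw [← Subgroup.relIndex_ker, hf, QuotientGroup.ker_mk',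
      ← Subgroup.relIndex_mul_relIndex M K N hMK hKN, hj, hq, pow_add]
  have hcardK : Nat.card (K.map f) = p ^ j := by
    rw [← Subgroup.relIndex_ker, hf, QuotientGroup.ker_mk', hj]
  have hset : CamSetup p k (N.map f) (K.map f) := by
    refine ⟨Subgroup.Normal.map hNn _ hfs, Subgroup.Normal.map hKn _ hfs, IsPGroup.of_card hcardN,
      Subgroup.map_mono hKN, ?_, ?_, ?_, ?_, ?_, ?_, ?_⟩
    · have h1 : Nat.card (K.map f) * (K.map f).relIndex (N.map f) = Nat.card (N.map f) := by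
        rw [← Subgroup.relIndex_bot_left, ← Subgroup.relIndex_bot_left (N.map f)]
        exact Subgroup.relIndex_mul_relIndex ⊥ _ _ bot_le (Subgroup.map_mono hKN)
      rw [hcardN, hcardK, pow_add] at h1
      exact Nat.eq_of_mul_eq_mul_left (pow_pos hpf.out.pos j) h1
    · rw [← hidx]
      exact Subgroup.index_map_eq N hfs (by rw [hf, QuotientGroup.ker_mk']; exact hMN)
    · rintro x hx hxK x' hx' hxK'
      obtain ⟨x, rfl⟩ := hfs x
      obtain ⟨x', rfl⟩ := hfs x'
      rw [hmemN] at hx hx'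
      rw [hmemK] at hxK hxK'
      obtain ⟨c, hc⟩ := isConj_iff.mp (((hcl x).mpr ⟨hx, hxK⟩).symm.trans ((hcl x').mpr ⟨hx', hxK'⟩))
      exact ⟨f c, by rw [← hc, map_mul, map_mul, map_inv]⟩
    · rintro x hx hxK y hy
      obtain ⟨x, rfl⟩ := hfs x
      obtain ⟨y, rfl⟩ := hfs y
      rw [hmemN] at hx
      rw [hmemK] at hxK hy
      have hxy : x * y ∉ K := fun h => hxK (by
        have := K.mul_mem h (K.inv_mem hy)
        rwa [mul_inv_cancel_right] at this)
      obtain ⟨c, hc⟩ := isConj_iff.mp (((hcl x).mpr ⟨hx, hxK⟩).symm.trans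
        ((hcl (x * y)).mpr ⟨N.mul_mem hx (hKN hy), hxy⟩))
      have hcN : c ∈ N := by
        apply hfree c x hx hxK
        rw [hc, inv_mul_cancel_left]; exact hy
      exact ⟨f c, (hmemN c).mpr hcN, by rw [← map_mul f x y, ← hc, map_mul, map_mul, map_inv]⟩
    · rintro x hx u hu
      obtain ⟨x, rfl⟩ := hfs x
      obtain ⟨u, rfl⟩ := hfs u
      rw [hmemN] at hx hu
      rw [← map_inv, ← map_inv, ← map_mul, ← map_mul, ← map_mul, hmemK]
      exact hNK x hx u hu
    · rintro h x hx hxK hh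
      obtain ⟨x, rfl⟩ := hfs x
      obtain ⟨h, rfl⟩ := hfs h
      rw [hmemN] at hx
      rw [hmemK] at hxK
      rw [← map_inv, ← map_inv, ← map_mul, ← map_mul, ← map_mul, hmemK] at hh
      exact (hmemN h).mpr (hfree h x hx hxK hh)
    · intro a b
      obtain ⟨a, rfl⟩ := hfs a
      obtain ⟨b, rfl⟩ := hfs b
      rw [← map_commutatorElement, hmemN]
      exact hab a b
  have hgp : g ^ p ∈ M := by
    have h1 := hset.pow_eq_one hp2 ((hmemN g).mpr hgN.1) (fun h => hgN.2 ((hmemK g).mp h))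
    rw [← map_pow, hf, QuotientGroup.mk'_apply, QuotientGroup.eq_one_iff] at h1
    exact h1
  have hgo : orderOf g ∣ p ^ k := by
    rw [← hC]
    exact Subgroup.orderOf_dvd_natCard _ (mem_centralizer_singleton_iff.mpr rfl)
  have hcop : ∀ x ∈ M, orderOf x ∣ p ^ k → x = 1 := by
    intro x hx h1
    rw [← orderOf_eq_one_iff]
    have h2 : orderOf x ∣ Nat.card M := Subgroup.orderOf_dvd_natCard _ hx
    exact Nat.eq_one_of_dvd_coprimes (hc.pow_right k) h2 h1
  have hgp1 : g ^ p = 1 := hcop _ hgp ((orderOf_pow_dvd p).trans hgo)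
  have hfpf : ∀ x ∈ M, g * x * g⁻¹ = x → x = 1 := by
    intro x hx h1
    apply hcop x hx
    rw [← hC]
    apply Subgroup.orderOf_dvd_natCard
    rw [mem_centralizer_singleton_iff]
    exact (mul_inv_eq_iff_eq_mul.mp h1).symm
  by_cases hM1 : ∀ x ∈ M, x = 1
  · apply Group.isSolvable_of_comm
    intro a b
    apply Subtype.ext
    have h1 := hM1 a a.2
    have h2 := hM1 b b.2
    simp [h1, h2]
  · push Not at hM1
    obtain ⟨w, hw, hw1⟩ := hM1
    let φ : M ≃* M := MulAut.conjNormal g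
    have hφ : ∀ x : M, ((φ x : M) : Γ) = g * x * g⁻¹ := fun x => MulAut.conjNormal_apply g x
    have hφp : orderOf φ = p := by
      apply orderOf_eq_prime
      · change (MulAut.conjNormal g) ^ p = (1 : MulAut M)
        rw [← map_pow, hgp1, map_one]
      · intro h1
        apply hw1
        apply hfpf w hw
        have h2 := hφ ⟨w, hw⟩
        rw [h1] at h2
        exact h2.symm
    exact Frob.solv_of_nilp (S0033.result φ (fun x hx => by
      apply Subtype.ext
      apply hfpf x x.2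
      rw [← hφ x]
      exact congrArg Subtype.val hx) p hpf.out hφp)

end Cfsg.Agent.H76
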