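import Cfsg.Agent.H76.OneNonvan
import Cfsg.Agent.H76.OneNonvan2
import Cfsg.Agent.S0887

/-!
# Solvability in S4805
-/

set_option autoImplicit false
set_option linter.unusedSectionVars false

namespace Cfsg.Agent.H76

open scoped ComplexConjugate commutatorElement
open Cfsg Cfsg.Agent.CharBase

attribute [local instance 100000] Fintype.ofFinite

universe u

variable {G : Type u} [Group G] [Finite G]

/-- The kernel of a character is in the kernel of each irreducible constituent. -/
theorem ker_of_constituent' {φ χ : G → ℂ} (hφ : IsCharacter G φ) (hχ : IsIrrCharacter G χ)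
    (h : classInner φ χ ≠ 0) {g : G} (hg : φ g = φ 1) : χ g = χ 1 := by
  classical
  obtain ⟨m, hm, hsum⟩ := exists_mult_of_isCharacter hφ
  have hg' : ∑ ψ : IrrCharacter G, (m ψ : ℝ) * (((ψ : G → ℂ) 1).re - ((ψ : G → ℂ) g).re) = 0 := by
    have e1 := congrFun hsum g
    have e2 := congrFun hsum 1
    rw [← hg, e1] at e2
    have e3 := congrArg Complex.re e2
    simp only [Finset.sum_apply, Pi.smul_apply, Complex.re_sum] at e3
    simp only [nsmul_eq_mul, Complex.mul_re, Complex.natCast_re, Complex.natCast_im, zero_mul,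
      sub_zero] at e3
    simp_rw [mul_sub]
    rw [Finset.sum_sub_distrib, e3, sub_self]
  have hnn : ∀ ψ : IrrCharacter G, 0 ≤ ((ψ : G → ℂ) 1).re - ((ψ : G → ℂ) g).re := by
    intro ψ
    obtain ⟨n, hn, hle⟩ := norm_le_of_isCharacter (irr_isCharacter ψ) g
    have h1 := Complex.re_le_norm ((ψ : G → ℂ) g)
    rw [hn, Complex.natCast_re]
    linarith
  rw [Finset.sum_eq_zero_iff_of_nonneg (fun ψ _ => mul_nonneg (Nat.cast_nonneg _) (hnn ψ))] at hg'
  have h2 := hg' ⟨χ, hχ⟩ (Finset.mem_univ _)
  have h3 : (m ⟨χ, hχ⟩ : ℝ) ≠ 0 := by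
    intro h0
    apply h
    have h4 := hm ⟨χ, hχ⟩
    simp only at h4
    rw [h4]
    have : m ⟨χ, hχ⟩ = 0 := by exact_mod_cast h0
    rw [this, Nat.cast_zero]
  rcases mul_eq_zero.1 h2 with h4 | h4
  · exact absurd h4 h3
  · simp only at h4
    obtain ⟨n, hn, hle⟩ := norm_le_of_isCharacter (isCharacter_of_isIrr hχ) g
    rw [hn, Complex.natCast_re, sub_eq_zero] at h4
    rw [hn]
    have h5 : ‖χ g‖ ^ 2 = (χ g).re ^ 2 + (χ g).im ^ 2 := by
      rw [← Complex.normSq_eq_norm_sq, Complex.normSq_apply]; ring
    have h6 : (χ g).im ^ 2 ≤ 0 := by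
      have : ‖χ g‖ ^ 2 ≤ (n : ℝ) ^ 2 := pow_le_pow_left₀ (norm_nonneg _) hle 2
      rw [← h4] at h5
      linarith
    have h7 : (χ g).im = 0 := by
      have := le_antisymm h6 (sq_nonneg _)
      exact pow_eq_zero_iff (two_ne_zero) |>.1 this
    apply Complex.ext
    · rw [← h4, Complex.natCast_re]
    · rw [h7, Complex.natCast_im]

section main

variable {g : G} {χ : IrrCharacter G} (hg : g ∉ Subgroup.center G)
  (hχ1 : charDegree (χ : G → ℂ) ≠ 1) (hχg : (χ : G → ℂ) g ≠ 0)
  (hother : ∀ ψ : IrrCharacter G, charDegree (ψ : G → ℂ) ≠ 1 → ψ ≠ χ → (ψ : G → ℂ) g = 0)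

include hg hχ1 hχg hother in
theorem charKer_le : H4.charKer χ ≤ commutator G := by
  intro x hx
  have h1 := commutator_eq_union hg hχ1 hχg hother
  have h2 : x ∈ {x : G | (χ : G → ℂ) x = (χ : G → ℂ) 1} ∪ {h : G | IsConj g h} := Or.inl hx
  rw [← h1] at h2
  exact h2

include hg hχ1 hχg hother in
theorem class_iff (y : G) : IsConj g y ↔ y ∈ commutator G ∧ y ∉ H4.charKer χ := by
  obtain ⟨hgc, hv⟩ := mem_commutator_value hg hχ1 hχg hother
  have h1 := commutator_eq_union hg hχ1 hχg hother
  constructor
  · intro h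
    refine ⟨?_, ?_⟩
    · obtain ⟨c, hc⟩ := isConj_iff.mp h
      rw [← hc]
      exact (inferInstance : (commutator G).Normal).conj_mem _ hgc c
    · intro h2
      obtain ⟨c, hc⟩ := isConj_iff.mp h
      rw [H4.mem_charKer, ← hc, irr_isClassFunction χ g c, hv, charDegree_eq'] at h2
      have hpos : 0 < charDegree (χ : G → ℂ) := by
        rcases Nat.eq_zero_or_pos (charDegree (χ : G → ℂ)) with h0 | h0
        · have := irr_one_ne_zero χ.2
          rw [charDegree_eq', h0] at this
          exact absurd Nat.cast_zero this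
        · exact h0
      have hI : 0 < (commutator G).index := Nat.pos_of_ne_zero Subgroup.index_ne_zero_of_finite
      have h3 : (-(((commutator G).index : ℝ) / (charDegree (χ : G → ℂ) : ℝ))) =
          (charDegree (χ : G → ℂ) : ℝ) := by
        apply Complex.ofReal_injective
        push_cast
        exact h2
      have h4 : 0 < ((commutator G).index : ℝ) / (charDegree (χ : G → ℂ) : ℝ) := by positivity
      have h5 : (0 : ℝ) < (charDegree (χ : G → ℂ) : ℝ) := by positivity
      linarith
  · rintro ⟨h2, h3⟩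
    have h4 : y ∈ (commutator G : Set G) := h2
    rw [h1] at h4
    rcases h4 with h4 | h4
    · exact absurd h4 h3
    · exact h4

include hg hχ1 hχg hother in
theorem numbers : charDegree (χ : G → ℂ) ^ 2 =
      ((H4.charKer χ).relIndex (commutator G) - 1) * (commutator G).index ∧
    Nat.card (Subgroup.centralizer ({g} : Set G)) *
      ((H4.charKer χ).relIndex (commutator G) - 1) =
      (commutator G).index * (H4.charKer χ).relIndex (commutator G) := by
  classical
  obtain ⟨hgc, hv⟩ := mem_commutator_value hg hχ1 hχg hother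
  have hval := value_general hg hχ1 hχg hother g
  rw [if_pos hgc, if_pos (IsConj.refl g), hv, charDegree_eq'] at hval
  have hle := charKer_le hg hχ1 hχg hother
  have hcard := card_class_add hle (class_iff hg hχ1 hχg hother)
  have hmul := card_isConj_mul_card_centralizer g
  set n := (commutator G).index with hn
  set c := charDegree (χ : G → ℂ) with hc
  set v := (H4.charKer χ).relIndex (commutator G) with hvv
  set K := H4.charKer χ
  have hK : Nat.card K * v = Nat.card (commutator G) := by
    rw [hvv, ← Subgroup.relIndex_bot_left, ← Subgroup.relIndex_bot_left (commutator G)]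
    exact Subgroup.relIndex_mul_relIndex ⊥ _ _ bot_le hle
  have hG : Nat.card (commutator G) * n = Nat.card G := Subgroup.card_mul_index _
  have hKpos : 0 < Nat.card K := Nat.card_pos
  have hv1 : 1 ≤ v := Nat.pos_of_ne_zero (by
    rw [hvv]; exact Subgroup.index_ne_zero_of_finite)
  obtain ⟨w, hw⟩ : ∃ w, v = w + 1 := ⟨v - 1, by omega⟩
  have hcl : Nat.card {y : G // IsConj g y} = Nat.card K * w := by
    have : Nat.card K * w + Nat.card K = Nat.card (commutator G) := by
      rw [← hK, hw]; ring
    omega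
  rw [hcl, ← hG, ← hK, mul_assoc, mul_assoc] at hmul
  have hmul' := Nat.eq_of_mul_eq_mul_left hKpos hmul
  have hcpos : 0 < c := by
    rcases Nat.eq_zero_or_pos c with h0 | h0
    · have := irr_one_ne_zero χ.2
      rw [charDegree_eq', ← hc, h0] at this
      exact absurd Nat.cast_zero this
    · exact h0
  have hnpos : 0 < n := Nat.pos_of_ne_zero Subgroup.index_ne_zero_of_finite
  have hsub : v - 1 = w := by omega
  rw [hsub]
  refine ⟨?_, by rw [mul_comm, hmul']; ring⟩
  have h1 : ((n : ℂ) * c ^ 2 + n ^ 2) = Nat.card (Subgroup.centralizer ({g} : Set G)) * c ^ 2 := by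
    rw [← hval]
    have : (c : ℂ) ≠ 0 := by exact_mod_cast hcpos.ne'
    field_simp
    ring
  have h2 : n * c ^ 2 + n ^ 2 = Nat.card (Subgroup.centralizer ({g} : Set G)) * c ^ 2 := by
    exact_mod_cast h1
  have h3 : w * (n * c ^ 2 + n ^ 2) = v * n * c ^ 2 := by
    rw [h2, ← mul_assoc, hmul']
  rw [hw] at h3
  have h4 : n * (w * n) = n * c ^ 2 := by
    have : w * (n * c ^ 2 + n ^ 2) = w * n * c ^ 2 + n * (w * n) := by ring
    have h5 : (w + 1) * n * c ^ 2 = w * n * c ^ 2 + n * c ^ 2 := by ring
    omega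
  exact (Nat.eq_of_mul_eq_mul_left hnpos h4).symm

/-- an element central modulo the kernel does not vanish -/
theorem ne_zero_of_central {a : G} (h : ∀ x : G, ⁅a, x⁆ ∈ H4.charKer χ) : (χ : G → ℂ) a ≠ 0 := by
  classical
  intro h0
  have h1 := sum_conj_mul χ.2 a⁻¹ a
  have h2 : ∀ x : G, (χ : G → ℂ) (a⁻¹ * (x * a * x⁻¹)) = (χ : G → ℂ) 1 := by
    intro x
    have h3 := h x
    have h4 := (inferInstance : (H4.charKer χ).Normal).conj_mem _ ((H4.charKer χ).inv_mem h3) a⁻¹
    have h5 : a⁻¹ * (x * a * x⁻¹) = a⁻¹ * ⁅a, x⁆⁻¹ * a⁻¹⁻¹ := by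
      simp only [commutatorElement_def]; group
    rw [h5]
    exact h4
  rw [Finset.sum_congr rfl (fun x _ => h2 x), h0] at h1
  have h5 : (Nat.card G : ℂ) ≠ 0 := by exact_mod_cast Nat.card_pos.ne'
  have h6 := irr_one_ne_zero χ.2
  rw [Finset.sum_const, nsmul_eq_mul, mul_zero, zero_div] at h1
  rcases mul_eq_zero.mp h1 with h7 | h7
  · rw [Finset.card_univ, ← Nat.card_eq_fintype_card] at h7
    exact h5 h7
  · exact h6 h7

include hg hχ1 hχg hother in
theorem solvable_of (hFT : ∀ M : Subgroup G, Odd (Nat.card M) → Group.IsSolvable M) :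
    Group.IsSolvable G := by
  classical
  have hle := charKer_le hg hχ1 hχg hother
  have hcl := class_iff hg hχ1 hχg hother
  obtain ⟨hnum1, hnum2⟩ := numbers hg hχ1 hχg hother
  have hoff := fun (x : G) (hx : x ∉ commutator G) => off_commutator hg hχ1 hχg hother hx
  set N := commutator G with hN
  set K := H4.charKer χ with hK
  have hKn : K.Normal := inferInstance
  have hNn : N.Normal := inferInstance
  have hab : ∀ a b : G, ⁅a, b⁆ ∈ N := fun a b =>
    Subgroup.commutator_mem_commutator (Subgroup.mem_top a) (Subgroup.mem_top b)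
  have hgN := (hcl g).mp (IsConj.refl g)
  set f := QuotientGroup.mk' K with hf
  have hfs : Function.Surjective f := QuotientGroup.mk'_surjective _
  have hmem : ∀ a, f a ∈ N.map f ↔ a ∈ N := fun a => mem_map_mk hle a
  have hf1 : ∀ a, f a = 1 ↔ a ∈ K := fun a => by
    rw [hf, QuotientGroup.mk'_apply, QuotientGroup.eq_one_iff]
  set V := N.map f with hV
  have hVn : V.Normal := Subgroup.Normal.map hNn _ hfs
  have hVne : V ≠ ⊥ := by
    intro h
    have h1 : f g ∈ V := (hmem g).mpr hgN.1
    rw [h, Subgroup.mem_bot, hf1] at h1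
    exact hgN.2 h1
  have hclV : ∀ y ∈ V, y ≠ 1 → IsConj (f g) y := by
    rintro y hy hy1
    obtain ⟨y, rfl⟩ := hfs y
    rw [hmem] at hy
    have h1 := (hcl y).mpr ⟨hy, fun h => hy1 ((hf1 y).mpr h)⟩
    exact f.map_isConj h1
  have hgV : f g ∈ V := (hmem g).mpr hgN.1
  have hgV1 : f g ≠ 1 := fun h => hgN.2 ((hf1 g).mp h)
  obtain ⟨p, hp, hpV, hVc⟩ := elemab_of_class V hVne
    (fun x hx hx1 y hy hy1 => (hclV x hx hx1).symm.trans (hclV y hy hy1))
  have hpf : Fact p.Prime := ⟨hp⟩
  have hPV : IsPGroup p V := fun x => ⟨1, by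
    rw [pow_one]
    exact Subtype.ext (hpV x x.2)⟩
  obtain ⟨k, hk⟩ := IsPGroup.iff_card.mp hPV
  have hv : K.relIndex N = Nat.card V := by
    rw [← Subgroup.relIndex_ker, hf, QuotientGroup.ker_mk']
  have hq : K.relIndex N = p ^ k := by rw [hv, hk]
  have habV : ∀ a b : G ⧸ K, ⁅a, b⁆ ∈ V := by
    intro a b
    obtain ⟨a, rfl⟩ := hfs a
    obtain ⟨b, rfl⟩ := hfs b
    rw [← map_commutatorElement, hmem]
    exact hab a b
  have hNK : ∀ x ∈ N, ∀ u ∈ N, x⁻¹ * (u * x * u⁻¹) ∈ K := by
    intro x hx u hu
    rw [← hf1, map_mul, map_mul, map_mul, map_inv, map_inv]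
    have h1 : f x * f u = f u * f x := Subgroup.mem_centralizer_iff.mp
      (hVc ((hmem u).mpr hu)) (f x) ((hmem x).mpr hx)
    rw [← h1]; group
  have hV1 : 1 < Nat.card V := by
    rw [Subgroup.one_lt_card_iff_ne_bot]; exact hVne
  have hCpos : 0 < Nat.card (Subgroup.centralizer ({g} : Set G)) := Nat.card_pos
  have hnpos : 0 < N.index := Nat.pos_of_ne_zero Subgroup.index_ne_zero_of_finite
  by_cases hV2 : 2 < Nat.card V
  · -- the main case
    set S := Subgroup.centralizer (V : Set (G ⧸ K)) with hS
    have hSidx : S.index + 1 = Nat.card V :=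
      index_centralizer_of_class habV hVc hgV hgV1 hclV
    set C := S.comap f with hC
    have hCidx : C.index = S.index := Subgroup.index_comap_of_surjective S hfs
    have hNC : N ≤ C := fun x hx => hVc ((hmem x).mpr hx)
    have hCn : C.Normal := by
      have : S.Normal := Subgroup.normal_centralizer
      infer_instance
    -- the degree divides the index of `C`
    have hdeg : charDegree (χ : G → ℂ) ∣ C.index := by
      obtain ⟨θ, hθ, hne⟩ := Char.exists_constituent_restrict C (isCharacter_of_isIrr χ.2)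
        (irr_one_ne_zero χ.2)
      have hθ1 : θ 1 = 1 := by
        apply Char.CC.degree_one_of_commutator hθ
        intro x y
        apply ker_of_constituent' (isCharacter_restrict (isCharacter_of_isIrr χ.2) C) hθ hne
        have h1 := comm_of_centralizer habV hVc hgV hgV1 hclV hV2 (a := f x) (b := f y) x.2 y.2
        rw [← map_commutatorElement, hf1] at h1
        exact h1
      have h1 := S0887.result C (χ : G → ℂ) χ.2 θ hθ hne (charDegree (χ : G → ℂ)) 1
        (charDegree_eq' χ) (by rw [hθ1, Nat.cast_one])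
      rw [Nat.div_one] at h1
      exact h1.2
    have hCpos : 0 < C.index := Nat.pos_of_ne_zero Subgroup.index_ne_zero_of_finite
    have hdle := Nat.le_of_dvd hCpos hdeg
    have hge : C.index ≤ N.index := Nat.le_of_dvd hnpos (Subgroup.index_dvd_of_le hNC)
    have hv1 : K.relIndex N - 1 = C.index := by rw [hv, hCidx]; omega
    rw [hv1] at hnum1 hnum2
    have hNidx : N.index = C.index := by
      have h1 : C.index * N.index ≤ C.index * C.index := by
        rw [← hnum1, sq]; exact Nat.mul_le_mul hdle hdle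
      have h2 := Nat.le_of_mul_le_mul_left h1 hCpos
      omega
    have hNCeq : C ≤ N := by
      have h1 := Subgroup.relIndex_mul_index hNC
      rw [hNidx] at h1
      have h2 : N.relIndex C = 1 :=
        Nat.eq_of_mul_eq_mul_right hCpos (by rw [h1, one_mul])
      exact Subgroup.relIndex_eq_one.mp h2
    have hCg : Nat.card (Subgroup.centralizer ({g} : Set G)) = p ^ k := by
      rw [hNidx, mul_comm] at hnum2
      rw [← hq]
      exact Nat.eq_of_mul_eq_mul_left hCpos hnum2
    refine solv_gen (p := p) (k := k) N K hle hab hcl hNK hq ?_ ?_ hCg hFT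
    · rw [← hq, hv1, hNidx]
    · intro h x hx hxK hh
      apply hNCeq
      have h1 : Subgroup.centralizer ({f x} : Set (G ⧸ K)) = S := by
        apply centralizer_eq_of_class habV hVc ((hmem x).mpr hx)
        intro y hy hy1
        have h2 : IsConj (f g) (f x) := hclV _ ((hmem x).mpr hx) (fun h3 => hxK ((hf1 x).mp h3))
        exact h2.symm.trans (hclV y hy hy1)
      have h2 : f h ∈ S := by
        rw [← h1, Subgroup.mem_centralizer_singleton_iff]
        rw [← hf1, map_mul, map_mul, map_mul, map_inv, map_inv, inv_mul_eq_one,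
          eq_mul_inv_iff_mul_eq] at hh
        exact hh.symm
      exact h2
  · -- `|V| = 2`
    have hV2' : Nat.card V = 2 := by omega
    have hp2 : p = 2 := by
      have h1 : f g ^ p = 1 := hpV _ hgV
      have h2 : orderOf (f g) = p := orderOf_eq_prime h1 hgV1
      have h3 : orderOf (f g) ∣ 2 := by
        rw [← hV2']; exact Subgroup.orderOf_dvd_natCard _ hgV
      rw [h2] at h3
      exact (Nat.prime_dvd_prime_iff_eq hp Nat.prime_two).mp h3
    subst hp2
    have hVall : ∀ y ∈ V, y ≠ 1 → y = f g := by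
      intro y hy hy1
      by_contra hne
      have h1 : ({1, f g, y} : Set (G ⧸ K)) ⊆ V := by
        rintro z (rfl | rfl | rfl)
        · exact one_mem _
        · exact hgV
        · exact hy
      have h2 : ({1, f g, y} : Set (G ⧸ K)).ncard = 3 := by
        rw [Set.ncard_eq_three]
        exact ⟨1, f g, y, hgV1.symm, hy1.symm, fun h => hne h.symm, rfl⟩
      have h3 := Set.ncard_le_ncard h1 (Set.toFinite _)
      have h4 : Nat.card V = (V : Set (G ⧸ K)).ncard := rfl
      omega
    have hconjg : ∀ h : G, f (h * g * h⁻¹) = f g := by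
      intro h
      apply hVall
      · exact (hmem _).mpr (hNn.conj_mem _ hgN.1 h)
      · intro h1
        rw [hf1] at h1
        apply hgN.2
        have h2 := hKn.conj_mem _ h1 h⁻¹
        have h3 : h⁻¹ * (h * g * h⁻¹) * h⁻¹⁻¹ = g := by group
        rwa [h3] at h2
    have hVcent : ∀ y ∈ V, ∀ b : G ⧸ K, b * y = y * b := by
      intro y hy b
      obtain ⟨b, rfl⟩ := hfs b
      by_cases hy1 : y = 1
      · rw [hy1]; group
      · rw [hVall y hy hy1]
        have h1 := hconjg b
        rw [map_mul, map_mul, map_inv, mul_inv_eq_iff_eq_mul] at h1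
        exact h1
    have hVsq : ∀ y ∈ V, y ^ 2 = 1 := hpV
    have hP : IsPGroup 2 (G ⧸ K) := by
      intro a
      refine ⟨2, ?_⟩
      obtain ⟨a, rfl⟩ := hfs a
      have h1 : ∀ x : G, ⁅a ^ 2, x⁆ ∈ K := by
        intro x
        rw [← hf1, map_commutatorElement, map_pow]
        have h2 : f a * f x = ⁅f a, f x⁆ * (f x * f a) := by rw [commutatorElement_def]; group
        have h3 := habV (f a) (f x)
        have h4 := hVsq _ h3
        set c := ⁅f a, f x⁆
        have h5 : f a ^ 2 * f x = f x * f a ^ 2 := by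
          calc f a ^ 2 * f x = f a * (f a * f x) := by rw [sq, mul_assoc]
            _ = f a * c * (f x * f a) := by rw [h2, mul_assoc]
            _ = c * f a * (f x * f a) := by rw [hVcent c h3]
            _ = c * (f a * f x) * f a := by group
            _ = c * (c * (f x * f a)) * f a := by rw [h2]
            _ = c ^ 2 * (f x * f a ^ 2) := by rw [sq, sq]; group
            _ = f x * f a ^ 2 := by rw [h4, one_mul]
        rw [commutatorElement_def, h5]; group
      have h2 : a ^ 2 ∈ N := by
        by_contra h3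
        exact ne_zero_of_central h1 (hoff _ h3)
      have h3 := hVsq _ ((hmem _).mpr h2)
      rw [map_pow, ← pow_mul] at h3
      exact h3
    obtain ⟨m, hm⟩ := IsPGroup.iff_card.mp hP
    have hidx : K.index = 2 ^ m := hm
    refine solv_two K hidx (g := g) ?_ ?_ hFT
    · intro h
      rw [← hf1, map_mul, hconjg h, map_inv, inv_mul_cancel]
    · rw [hv, hV2'] at hnum2
      have h1 := Subgroup.relIndex_mul_index hle
      rw [hv, hV2'] at h1
      rw [← hidx]
      omega

end main

end Cfsg.Agent.H76
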