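import Cfsg.Agent.H76.PrimeDeg
import Cfsg.Agent.H76.AlperinDade2
import Cfsg.Prelude.Def_DegreeGraph

/-!
# Groups all of whose nonlinear irreducible characters have prime degree, II
-/

set_option autoImplicit false
set_option linter.unusedSectionVars false

namespace Cfsg.Agent.H76

open scoped ComplexConjugate commutatorElement
open Cfsg Cfsg.Agent.CharBase

attribute [local instance 100000] Fintype.ofFinite

universe u

section Grp

variable {H : Type u} [Group H] [Finite H]

/-- groups with a unique minimal normal subgroup, the commutator subgroup: it is elementary abelian -/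
theorem exists_prime_of_min [Group.IsSolvable H] (hV : commutator H ≠ ⊥)
    (hmin : ∀ M : Subgroup H, M.Normal → M ≠ ⊥ → commutator H ≤ M) :
    (∀ v ∈ commutator H, ∀ w ∈ commutator H, v * w = w * v) ∧
      ∃ q : ℕ, q.Prime ∧ ∀ v ∈ commutator H, v ^ q = 1 := by
  have hab : ∀ v ∈ commutator H, ∀ w ∈ commutator H, v * w = w * v := by
    have h1 : ⁅commutator H, commutator H⁆ = ⊥ := by
      by_contra hne
      have h2 := hmin ⁅commutator H, commutator H⁆ inferInstance hne
      exact absurd h2 (not_le_of_gt (Group.IsSolvable.commutator_lt_of_ne_bot hV))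
    intro v hv w hw
    have h2 : ⁅v, w⁆ ∈ ⁅commutator H, commutator H⁆ := Subgroup.commutator_mem_commutator hv hw
    rw [h1, Subgroup.mem_bot] at h2
    exact commutatorElement_eq_one_iff_mul_comm.mp h2
  refine ⟨hab, ?_⟩
  have hc : Nat.card (commutator H) ≠ 1 := fun h => hV (Subgroup.card_eq_one.mp h)
  obtain ⟨q, hq, hqd⟩ := Nat.exists_prime_and_dvd hc
  refine ⟨q, hq, ?_⟩
  have : Fact q.Prime := ⟨hq⟩
  let W : Subgroup H :=
    { carrier := {v | v ∈ commutator H ∧ v ^ q = 1}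
      mul_mem' := by
        rintro a b ⟨ha, ha'⟩ ⟨hb, hb'⟩
        refine ⟨mul_mem ha hb, ?_⟩
        have : Commute a b := hab a ha b hb
        rw [this.mul_pow, ha', hb', one_mul]
      one_mem' := ⟨one_mem _, one_pow _⟩
      inv_mem' := by
        rintro a ⟨ha, ha'⟩
        exact ⟨inv_mem ha, by rw [inv_pow, ha', inv_one]⟩ }
  have hW : W.Normal := by
    constructor
    rintro v ⟨hv, hv'⟩ g
    refine ⟨(inferInstance : (commutator H).Normal).conj_mem v hv g, ?_⟩
    rw [conj_pow, hv', mul_one, mul_inv_cancel]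
  obtain ⟨v, hv⟩ := exists_prime_orderOf_dvd_card' q hqd
  have hWne : W ≠ ⊥ := by
    intro hbot
    have h1 : (v : H) ∈ W := by
      refine ⟨v.2, ?_⟩
      have := pow_orderOf_eq_one v
      rw [hv] at this
      exact_mod_cast congrArg Subtype.val this
    rw [hbot, Subgroup.mem_bot] at h1
    have h2 : v = 1 := Subtype.ext h1
    rw [h2, orderOf_one] at hv
    exact hq.one_lt.ne hv
  intro v hv
  exact (hmin W hW hWne hv).2

/-- elements of prime order `s ≠ q` do not centralize `V` -/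
theorem not_centralize_of_min (hV : commutator H ≠ ⊥)
    (hmin : ∀ M : Subgroup H, M.Normal → M ≠ ⊥ → commutator H ≤ M) {q s : ℕ} (hq : q.Prime)
    (hs : s.Prime) (hqs : s ≠ q) (hVq : ∀ v ∈ commutator H, v ^ q = 1) {x : H}
    (hx : orderOf x = s) : ∃ v ∈ commutator H, x * v ≠ v * x := by
  by_contra hcon
  push Not at hcon
  have hcop : Nat.Coprime s q := (Nat.coprime_primes hs hq).mpr hqs
  have hone : ∀ v ∈ commutator H, v ^ s = 1 → v = 1 := by
    intro v hv hvs
    have h1 := orderOf_dvd_of_pow_eq_one (hVq v hv)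
    have h2 := orderOf_dvd_of_pow_eq_one hvs
    have h3 := Nat.eq_one_of_dvd_coprimes hcop h2 h1
    exact orderOf_eq_one_iff.mp h3
  have hcen : ∀ g : H, g * x * g⁻¹ = x := by
    intro g
    have h1 : x⁻¹ * (g * x * g⁻¹) ∈ commutator H := by
      have h2 : ⁅x⁻¹, g⁆ ∈ commutator H :=
        Subgroup.commutator_mem_commutator (Subgroup.mem_top _) (Subgroup.mem_top _)
      rw [commutatorElement_def, inv_inv] at h2
      rw [show x⁻¹ * (g * x * g⁻¹) = x⁻¹ * g * x * g⁻¹ by group]
      exact h2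
    set v := x⁻¹ * (g * x * g⁻¹) with hv
    have h2 : g * x * g⁻¹ = x * v := by rw [hv]; group
    have h3 : (g * x * g⁻¹) ^ s = 1 := by
      rw [conj_pow, ← hx, pow_orderOf_eq_one, mul_one, mul_inv_cancel]
    have hcomm : Commute x v := hcon v h1
    rw [h2, hcomm.mul_pow, ← hx, pow_orderOf_eq_one, one_mul, hx] at h3
    rw [h2, hone v h1 h3, mul_one]
  have hn : (Subgroup.zpowers x).Normal := by
    constructor
    intro n hn g
    obtain ⟨k, rfl⟩ := Subgroup.mem_zpowers_iff.mp hn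
    rw [← conj_zpow, hcen]
    exact hn
  have hne : Subgroup.zpowers x ≠ ⊥ := by
    intro h
    rw [Subgroup.zpowers_eq_bot] at h
    rw [h, orderOf_one] at hx
    exact hs.one_lt.ne hx
  have hle := hmin _ hn hne
  apply hV
  rw [eq_bot_iff]
  intro v hv
  rw [Subgroup.mem_bot]
  apply hone v hv
  obtain ⟨k, hk⟩ := Subgroup.mem_zpowers_iff.mp (hle hv)
  rw [← hk, ← zpow_natCast, ← zpow_mul, mul_comm, zpow_mul, zpow_natCast, ← hx,
    pow_orderOf_eq_one, one_zpow]

theorem normal_of_commutator_le {M : Subgroup H} (h : commutator H ≤ M) : M.Normal := by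
  constructor
  intro m hm g
  have h1 : ⁅g, m⁆ ∈ M :=
    h (Subgroup.commutator_mem_commutator (Subgroup.mem_top _) (Subgroup.mem_top _))
  have h2 : g * m * g⁻¹ = ⁅g, m⁆ * m := by rw [commutatorElement_def]; group
  rw [h2]
  exact mul_mem h1 hm

/-- if all constituents of `χ_M` are linear, `M'` is in the kernel of `χ` -/
theorem ker_of_linear_constituents (M : Subgroup H) (χ : IrrCharacter H)
    (hlin : ∀ θ : IrrCharacter M, classInner (fun m : M => (χ : H → ℂ) m) (θ : M → ℂ) ≠ 0 →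
      charDegree (θ : M → ℂ) = 1) {y : M} (hy : y ∈ commutator M) :
    (χ : H → ℂ) y = (χ : H → ℂ) 1 := by
  obtain ⟨m, hm, hsum⟩ := exists_mult_of_isCharacter
    (isCharacter_restrict (isCharacter_of_isIrr χ.2) M)
  have h1 : ∀ z : M, (χ : H → ℂ) z = ∑ ψ : IrrCharacter M, m ψ • (ψ : M → ℂ) z := by
    intro z
    have := congrFun hsum z
    rw [Finset.sum_apply] at this
    exact this
  have h2 := h1 1
  rw [Subgroup.coe_one] at h2
  rw [h1, h2]
  apply Finset.sum_congr rfl
  intro ψ _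
  by_cases h0 : m ψ = 0
  · rw [h0, zero_smul, zero_smul]
  · have h3 := hlin ψ (by rw [hm]; exact_mod_cast h0)
    rw [linear_on_commutator h3 hy, charDegree_eq', h3, Nat.cast_one]

theorem dvd_degree_of_min [Group.IsSolvable H] (hV : commutator H ≠ ⊥)
    (hmin : ∀ M : Subgroup H, M.Normal → M ≠ ⊥ → commutator H ≤ M) {q s : ℕ} (hq : q.Prime)
    (hs : s.Prime) (hqs : s ≠ q) (hVq : ∀ v ∈ commutator H, v ^ q = 1)
    (hab : ∀ v ∈ commutator H, ∀ w ∈ commutator H, v * w = w * v)
    (hsH : s ∣ Nat.card H) (χ : IrrCharacter H) (hχ : charDegree (χ : H → ℂ) ≠ 1) :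
    s ∣ charDegree (χ : H → ℂ) := by
  have : Fact s.Prime := ⟨hs⟩
  obtain ⟨x, hx⟩ := exists_prime_orderOf_dvd_card' s hsH
  obtain ⟨v, hv, hxv⟩ := not_centralize_of_min hV hmin hq hs hqs hVq hx
  set M := commutator H ⊔ Subgroup.zpowers x with hM
  have hVM : commutator H ≤ M := le_sup_left
  have hMn : M.Normal := normal_of_commutator_le hVM
  have hMM : commutator H ≤ ⁅M, M⁆ := by
    apply hmin _ inferInstance
    intro hbot
    have h1 : ⁅x, v⁆ ∈ ⁅M, M⁆ := Subgroup.commutator_mem_commutator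
      (Subgroup.mem_sup_right (Subgroup.mem_zpowers x)) (hVM hv)
    rw [hbot, Subgroup.mem_bot] at h1
    exact hxv (commutatorElement_eq_one_iff_mul_comm.mp h1)
  by_contra hnd
  apply hχ
  have hlin : ∀ θ : IrrCharacter M, classInner (fun m : M => (χ : H → ℂ) m) (θ : M → ℂ) ≠ 0 →
      charDegree (θ : M → ℂ) = 1 := by
    intro θ hθ
    have h1 := (degree_dvd_of_over hθ).1
    obtain ⟨ϑ, hϑ, hϑ'⟩ := Char.exists_constituent_restrict ((commutator H).subgroupOf M)
      (isCharacter_of_isIrr θ.2) (irr_one_ne_zero θ.2)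
    have h2 := (degree_dvd_of_over (χ := θ) (θ := (⟨ϑ, hϑ⟩ : IrrCharacter _)) hϑ').2
    have h3 : charDegree ϑ = 1 := by
      have h4 : ϑ 1 = 1 := Char.BI.irr_comm_degree (by
        rintro ⟨a, ha⟩ ⟨b, hb⟩
        apply Subtype.ext
        apply Subtype.ext
        exact hab _ (Subgroup.mem_subgroupOf.mp ha) _ (Subgroup.mem_subgroupOf.mp hb)) hϑ
      have h5 := charDegree_eq' (⟨ϑ, hϑ⟩ : IrrCharacter _)
      change ϑ 1 = (charDegree ϑ : ℂ) at h5
      rw [h4] at h5
      exact_mod_cast h5.symm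
    change _ / charDegree ϑ ∣ _ at h2
    rw [h3, Nat.div_one] at h2
    have h5 : ((commutator H).subgroupOf M).index ∣ s := by
      change (commutator H).relIndex M ∣ s
      rw [hM, Subgroup.relIndex_sup_left, ← hx, ← Nat.card_zpowers]
      exact Subgroup.relIndex_dvd_card _ _
    rcases (Nat.dvd_prime hs).mp (h2.trans h5) with h6 | h6
    · exact h6
    · exact absurd (h6 ▸ h1) hnd
  have h1 := Char.CC.degree_one_of_commutator χ.2 (by
    intro a b
    have h2 : ⁅a, b⁆ ∈ ⁅M, M⁆ :=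
      hMM (Subgroup.commutator_mem_commutator (Subgroup.mem_top _) (Subgroup.mem_top _))
    rw [← Subgroup.map_subtype_commutator] at h2
    obtain ⟨y, hy, hy2⟩ := h2
    rw [← hy2]
    exact ker_of_linear_constituents M χ hlin hy)
  rw [charDegree_eq'] at h1
  exact_mod_cast h1

end Grp

section Main

variable {G : Type u} [Group G] [Finite G]

/-- a normal subgroup maximal subject to having nonabelian quotient -/
theorem exists_max_nonab (hG : commutator G ≠ ⊥) : ∃ N : Subgroup G, ∃ _ : N.Normal,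
    commutator (G ⧸ N) ≠ ⊥ ∧
      ∀ M : Subgroup (G ⧸ N), M.Normal → M ≠ ⊥ → commutator (G ⧸ N) ≤ M := by
  have hfin : {N : Subgroup G | N.Normal ∧ ¬ commutator G ≤ N}.Finite := Set.toFinite _
  have hne : {N : Subgroup G | N.Normal ∧ ¬ commutator G ≤ N}.Nonempty :=
    ⟨⊥, inferInstance, fun h => hG (le_bot_iff.mp h)⟩
  obtain ⟨N, ⟨hN, hN2⟩, hmax⟩ := hfin.exists_maximal hne
  have hmap : commutator (G ⧸ N) = (commutator G).map (QuotientGroup.mk' N) := by
    rw [commutator_def, commutator_def, Subgroup.map_commutator,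
      Subgroup.map_top_of_surjective _ (QuotientGroup.mk'_surjective N)]
  refine ⟨N, hN, ?_, ?_⟩
  · intro h
    rw [hmap, Subgroup.map_eq_bot_iff, QuotientGroup.ker_mk'] at h
    exact hN2 h
  · intro M hM hMne
    rw [hmap, Subgroup.map_le_iff_le_comap]
    by_contra hcon
    apply hMne
    have h1 : M.comap (QuotientGroup.mk' N) ≤ N := hmax ⟨inferInstance, hcon⟩ (by
      intro n hn
      rw [Subgroup.mem_comap]
      have : QuotientGroup.mk' N n = 1 := (QuotientGroup.eq_one_iff n).mpr hn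
      rw [this]
      exact one_mem _)
    rw [eq_bot_iff]
    intro y hy
    obtain ⟨g, rfl⟩ := QuotientGroup.mk'_surjective N y
    have h2 := h1 (show g ∈ M.comap (QuotientGroup.mk' N) from hy)
    rw [Subgroup.mem_bot]
    exact (QuotientGroup.eq_one_iff g).mpr h2

theorem restrict_eq_of_degree_eq (N : Subgroup G) (χ : IrrCharacter G) (θ : IrrCharacter N)
    (hne : classInner (fun n : N => (χ : G → ℂ) n) (θ : N → ℂ) ≠ 0)
    (hdeg : charDegree (θ : N → ℂ) = charDegree (χ : G → ℂ)) :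
    (fun n : N => (χ : G → ℂ) n) = θ := by
  have hsub := Char.CC.isCharacter_sub_of_constituent
    (isCharacter_restrict (isCharacter_of_isIrr χ.2) N) θ.2 hne
  funext x
  obtain ⟨n, hn, hle⟩ := norm_le_of_isCharacter hsub x
  have h2 : (χ : G → ℂ) ((1 : N) : G) - (θ : N → ℂ) 1 = n := hn
  rw [Subgroup.coe_one, charDegree_eq', charDegree_eq', hdeg, sub_self] at h2
  have h3 : n = 0 := by exact_mod_cast h2.symm
  rw [h3, Nat.cast_zero] at hle
  exact sub_eq_zero.mp (norm_le_zero_iff.mp hle)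

/-- Gallagher's product -/
theorem gallagher_mul (N : Subgroup G) [hN : N.Normal] {χ : G → ℂ} (hχ : IsIrrCharacter G χ)
    (hres : IsIrrCharacter N (fun n : N => χ n)) (ψ : IrrCharacter (G ⧸ N)) :
    IsIrrCharacter G ((fun g : G => (ψ : G ⧸ N → ℂ) (g : G ⧸ N)) * χ) := by
  have e1 : (fun _ => 1 : N → ℂ) * (fun n : N => χ n) = (fun n : N => χ n) := by funext n; simp
  have hinv : ∀ g : G, Char.cj N g (fun n : N => χ n) = (fun n : N => χ n) :=
    fun g => Char.cj_restrict N g (isClassFunction_of_isCharacter (isCharacter_of_isIrr hχ))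
  have hbij := Char.gallagher_bijOn N (fun _ => 1) (fun n : N => χ n) Char.isIrrCharacter_one
    (fun g => rfl) hinv (by rw [e1]; exact hres) χ hχ (fun n => rfl)
  have hψ := H75.isIrrCharacter_inflate N ψ.2
  refine (hbij.1 ⟨hψ, ?_⟩).1
  rw [Char.frobenius_reciprocity N _ _ (isClassFunction_of_isCharacter (isCharacter_of_isIrr hψ))]
  have e2 : (fun n : N => (ψ : G ⧸ N → ℂ) ((n : G) : G ⧸ N)) =
      (ψ : G ⧸ N → ℂ) 1 • (fun _ => 1 : N → ℂ) := by
    funext n
    have : ((n : G) : G ⧸ N) = 1 := (QuotientGroup.eq_one_iff _).mpr n.2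
    rw [this]; simp
  change classInner _ (fun n : N => (ψ : G ⧸ N → ℂ) ((n : G) : G ⧸ N)) ≠ 0
  rw [e2, classInner_smul_right, Char.classInner_self_of_irr Char.isIrrCharacter_one, mul_one]
  simpa using irr_one_ne_zero ψ.2

theorem charDegrees_subset (hprime : ∀ d ∈ Cfsg.charDegrees G, d = 1 ∨ d.Prime) :
    ∃ p q : ℕ, Cfsg.charDegrees G ⊆ {1, p, q} := by
  classical
  have hsol : Group.IsSolvable G := solvable_of_prime_degrees _ G rfl
    (fun χ h => (hprime _ ⟨χ, rfl⟩).resolve_left h)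
  by_cases hG : commutator G = ⊥
  · refine ⟨1, 1, ?_⟩
    rintro d ⟨χ, rfl⟩
    left
    have h1 := Char.CC.degree_one_of_commutator χ.2 (by
      intro a b
      have h2 : ⁅a, b⁆ ∈ commutator G :=
        Subgroup.commutator_mem_commutator (Subgroup.mem_top _) (Subgroup.mem_top _)
      rw [hG, Subgroup.mem_bot] at h2
      rw [h2])
    rw [charDegree_eq'] at h1
    exact_mod_cast h1
  obtain ⟨N, hN, hV, hmin⟩ := exists_max_nonab hG
  obtain ⟨hab, q, hq, hVq⟩ := exists_prime_of_min hV hmin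
  -- a nonlinear character of the quotient
  obtain ⟨χ₀, hχ₀⟩ : ∃ χ₀ : IrrCharacter (G ⧸ N), charDegree (χ₀ : G ⧸ N → ℂ) ≠ 1 := by
    by_contra hcon
    push Not at hcon
    have h1 := H75.comm_of_forall_linear (G := G ⧸ N)
      (fun χ => by rw [charDegree_eq', hcon χ, Nat.cast_one])
    apply hV
    rw [commutator_def, Subgroup.commutator_eq_bot_iff_le_centralizer]
    intro a _
    rw [Subgroup.mem_centralizer_iff]
    intro b _
    exact h1 b a
  have hinfl : ∀ χ : IrrCharacter (G ⧸ N), charDegree (χ : G ⧸ N → ℂ) ∈ Cfsg.charDegrees G :=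
    fun χ => ⟨⟨_, H75.isIrrCharacter_inflate N χ.2⟩, rfl⟩
  have hp := (hprime _ (hinfl χ₀)).resolve_left hχ₀
  set p := charDegree (χ₀ : G ⧸ N → ℂ) with hpdef
  refine ⟨p, q, ?_⟩
  rintro r ⟨χ, rfl⟩
  by_contra hcon
  simp only [Set.mem_insert_iff, Set.mem_singleton_iff, not_or] at hcon
  obtain ⟨h1, hrp, hrq⟩ := hcon
  have hr := (hprime _ ⟨χ, rfl⟩).resolve_left h1
  set r := charDegree (χ : G → ℂ) with hrdef
  have hrN : ¬ r ∣ N.index := by
    intro hdvd
    have h2 := dvd_degree_of_min hV hmin hq hr hrq hVq hab hdvd χ₀ hχ₀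
    exact hrp ((Nat.prime_dvd_prime_iff_eq hr hp).mp h2)
  obtain ⟨θ, hθ, hθ'⟩ := Char.exists_constituent_restrict N (isCharacter_of_isIrr χ.2)
    (irr_one_ne_zero χ.2)
  obtain ⟨h2, h3⟩ := degree_dvd_of_over (χ := χ) (θ := (⟨θ, hθ⟩ : IrrCharacter N)) hθ'
  change charDegree θ ∣ r at h2
  change r / charDegree θ ∣ N.index at h3
  have h4 : charDegree θ = r := by
    rcases (Nat.dvd_prime hr).mp h2 with h4 | h4
    · rw [h4, Nat.div_one] at h3
      exact absurd h3 hrN
    · exact h4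
  have hres : (fun n : N => (χ : G → ℂ) n) = θ :=
    restrict_eq_of_degree_eq N χ (⟨θ, hθ⟩ : IrrCharacter N) hθ' h4
  have hirr := gallagher_mul N χ.2 (by rw [hres]; exact hθ) χ₀
  have hdeg : charDegree ((fun g : G => (χ₀ : G ⧸ N → ℂ) (g : G ⧸ N)) * (χ : G → ℂ)) = p * r := by
    have h5 := charDegree_eq' (⟨_, hirr⟩ : IrrCharacter G)
    change (χ₀ : G ⧸ N → ℂ) 1 * (χ : G → ℂ) 1 = _ at h5
    rw [charDegree_eq', charDegree_eq'] at h5
    exact_mod_cast h5.symm
  rcases hprime _ ⟨⟨_, hirr⟩, rfl⟩ with h5 | h5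
  · change charDegree ((fun g : G => (χ₀ : G ⧸ N → ℂ) (g : G ⧸ N)) * (χ : G → ℂ)) = 1 at h5
    rw [hdeg] at h5
    exact h1 (Nat.eq_one_of_mul_eq_one_left h5)
  · change (charDegree ((fun g : G => (χ₀ : G ⧸ N → ℂ) (g : G ⧸ N)) * (χ : G → ℂ))).Prime at h5
    rw [hdeg] at h5
    exact Nat.not_prime_mul hp.one_lt.ne' h1 h5

end Main

end Cfsg.Agent.H76
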