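import Cfsg.Agent.H76.ExtFirst
import Cfsg.Agent.Blk.Incl
import Mathlib.Algebra.MonoidAlgebra.MapDomain

/-!
# Blocks of quotient groups (modular version)
-/

set_option autoImplicit false
set_option linter.unusedSectionVars false

namespace Cfsg.Agent.H76

open Cfsg.Agent.Blk MonoidAlgebra

section

variable {k : Type*} [Field k] {G : Type*} [Group G] [Finite G] (N : Subgroup G) [N.Normal]

/-- The projection `k[G] → k[G ⧸ N]`. -/
noncomputable def pq (x : MonoidAlgebra k G) : MonoidAlgebra k (G ⧸ N) :=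
  MonoidAlgebra.mapDomain (QuotientGroup.mk' N) x

theorem pq_add (x y : MonoidAlgebra k G) : pq N (x + y) = pq N x + pq N y :=
  MonoidAlgebra.mapDomain_add _ x y

@[simp] theorem pq_zero : pq N (0 : MonoidAlgebra k G) = 0 := MonoidAlgebra.mapDomain_zero _

theorem pq_mul (x y : MonoidAlgebra k G) : pq N (x * y) = pq N x * pq N y :=
  MonoidAlgebra.mapDomain_mul (QuotientGroup.mk' N) x y

theorem pq_single (g : G) (c : k) : pq N (MonoidAlgebra.single g c) =
    MonoidAlgebra.single (g : G ⧸ N) c := MonoidAlgebra.mapDomain_single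

theorem pq_sum {ι : Type*} (s : Finset ι) (f : ι → MonoidAlgebra k G) :
    pq N (∑ i ∈ s, f i) = ∑ i ∈ s, pq N (f i) := by
  classical
  induction s using Finset.induction_on with
  | empty => simp
  | insert a s ha ih => rw [Finset.sum_insert ha, Finset.sum_insert ha, pq_add, ih]

theorem pq_coeff [Fintype G] [DecidableEq (G ⧸ N)] (x : MonoidAlgebra k G) (q : G ⧸ N) :
    (pq N x).coeff q = ∑ g : G, if (g : G ⧸ N) = q then x.coeff g else 0 := by
  conv_lhs => rw [← ga_eq_sum x, pq_sum, coeff_sum, Finsupp.finsetSum_apply]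
  refine Finset.sum_congr rfl fun g _ => ?_
  rw [pq_single, coeff_single, Finsupp.single_apply]

theorem pq_cj (u : G) (x : MonoidAlgebra k G) : pq N (cj u x) = cj (u : G ⧸ N) (pq N x) := by
  unfold cj
  rw [pq_mul, pq_mul, pq_single, pq_single]
  rfl

theorem Fixed.pq {K : Subgroup G} {x : MonoidAlgebra k G} (hx : Fixed K x) :
    Fixed (K.map (QuotientGroup.mk' N)) (H76.pq N x) := by
  rintro _ ⟨u, hu, rfl⟩
  rw [QuotientGroup.mk'_apply, ← pq_cj, hx u hu]

/-- The projection of a relative trace from a subgroup containing `N`. -/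
theorem pq_relTr {K : Subgroup G} (hNK : N ≤ K) {y : MonoidAlgebra k G} (hy : Fixed K y) :
    pq N (relTr K ⊤ y) = relTr (K.map (QuotientGroup.mk' N)) ⊤ (pq N y) := by
  classical
  have := Fintype.ofFinite (G ⧸ K)
  have := Fintype.ofFinite ((G ⧸ N) ⧸ K.map (QuotientGroup.mk' N))
  have hmem : ∀ g : G, (g : G ⧸ N) ∈ K.map (QuotientGroup.mk' N) ↔ g ∈ K := by
    intro g
    constructor
    · rintro ⟨x, hx, hxg⟩
      rw [QuotientGroup.mk'_apply, QuotientGroup.eq] at hxg
      have := K.mul_mem hx (hNK hxg)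
      simpa using this
    · intro h; exact ⟨g, h, rfl⟩
  rw [relTr_eq, relTr_eq, pq_sum]
  let e : G ⧸ K → (G ⧸ N) ⧸ K.map (QuotientGroup.mk' N) := fun q =>
    (((q.out : G) : G ⧸ N) : (G ⧸ N) ⧸ K.map (QuotientGroup.mk' N))
  have he : ∀ g : G, e (g : G ⧸ K) = ((g : G ⧸ N) : (G ⧸ N) ⧸ K.map (QuotientGroup.mk' N)) := by
    intro g
    obtain ⟨d, hd⟩ := QuotientGroup.mk_out_eq_mul K g
    simp only [e]
    rw [hd, eq_comm, QuotientGroup.eq]
    have h1 : ((g : G ⧸ N))⁻¹ * ((g * d : G) : G ⧸ N) = ((d : G) : G ⧸ N) := by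
      rw [QuotientGroup.mk_mul]; group
    rw [h1, hmem]
    exact d.2
  refine Fintype.sum_bijective e ⟨?_, ?_⟩ _ _ fun q => ?_
  · intro q q' h
    induction q using QuotientGroup.induction_on with
    | H g =>
      induction q' using QuotientGroup.induction_on with
      | H g' =>
        rw [he, he, QuotientGroup.eq] at h
        rw [QuotientGroup.eq]
        have h1 : ((g : G ⧸ N))⁻¹ * (g' : G ⧸ N) = ((g⁻¹ * g' : G) : G ⧸ N) := rfl
        rwa [h1, hmem] at h
  · intro q
    induction q using QuotientGroup.induction_on with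
    | H q' =>
      induction q' using QuotientGroup.induction_on with
      | H g => exact ⟨(g : G ⧸ K), he g⟩
  · induction q using QuotientGroup.induction_on with
    | H g =>
      rw [he, trTerm_of_mem le_top hy (Subgroup.mem_top g),
        trTerm_of_mem le_top (Fixed.pq N hy) (Subgroup.mem_top _), pq_cj]

/-- The projection of a trace is a trace from the image. -/
theorem exists_pq_trace {P : Subgroup G} {a : MonoidAlgebra k G} (ha : Fixed P a) :
    ∃ b : MonoidAlgebra k (G ⧸ N), Fixed (P.map (QuotientGroup.mk' N)) b ∧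
      pq N (relTr P ⊤ a) = relTr (P.map (QuotientGroup.mk' N)) ⊤ b := by
  have h1 : P ≤ P ⊔ N := le_sup_left
  have hmap : (P ⊔ N).map (QuotientGroup.mk' N) = P.map (QuotientGroup.mk' N) := by
    rw [Subgroup.map_sup, QuotientGroup.map_mk'_self, sup_bot_eq]
  refine ⟨pq N (relTr P (P ⊔ N) a), ?_, ?_⟩
  · rw [← hmap]
    exact Fixed.pq N (fixed_relTr h1 ha)
  · rw [← relTr_relTr h1 le_top ha, pq_relTr N le_sup_right (fixed_relTr h1 ha), hmap]

/-- `Br_D (f̄) ≠ 0` for an idempotent under the projection of a block. -/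
theorem exists_le_map_of_br_ne {p : ℕ} [Fact p.Prime] [CharP k p] {f : MonoidAlgebra k G}
    {P : Subgroup G} (hP : IsDef p ⊤ f P) {D : Subgroup (G ⧸ N)} (hD : IsPGroup p D)
    (hbr : br D (pq N f) ≠ 0) :
    ∃ u : G, D ≤ (P.map (MulAut.conj u).toMonoidHom).map (QuotientGroup.mk' N) := by
  obtain ⟨a, -, ha, hat⟩ := hP.tr
  obtain ⟨b, hb, hbt⟩ := exists_pq_trace N ha
  rw [hat] at hbt
  rw [hbt] at hbr
  obtain ⟨u, -, hu⟩ := exists_le_of_trace le_top hD le_top hb hbr
  obtain ⟨v, rfl⟩ := QuotientGroup.mk'_surjective N u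
  refine ⟨v, ?_⟩
  have h1 : (P.map (MulAut.conj v).toMonoidHom).map (QuotientGroup.mk' N) =
      (P.map (QuotientGroup.mk' N)).map (MulAut.conj (QuotientGroup.mk' N v)).toMonoidHom := by
    rw [Subgroup.map_map, Subgroup.map_map]
    congr 1
  rw [h1]
  exact hu

/-- A nonzero idempotent fixed by a `p`-group has an invariant vector. -/
theorem exists_invariant_vector {p : ℕ} [Fact p.Prime] [CharP k p] {P : Subgroup G}
    (hP : IsPGroup p P) {f : MonoidAlgebra k G} (hfP : Fixed P f) (hff : f * f = f)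
    (hne : f ≠ 0) : ∃ w : MonoidAlgebra k G, w ≠ 0 ∧ f * w = w ∧
      ∀ u ∈ P, ∀ g, w.coeff (u * g) = w.coeff g := by
  classical
  let _ : DistribMulAction P (MonoidAlgebra k G) :=
    { smul := fun u x => MonoidAlgebra.single (u : G) 1 * x
      one_smul := fun x => by
        change MonoidAlgebra.single ((1 : P) : G) (1 : k) * x = x
        rw [Subgroup.coe_one, ← one_def, one_mul]
      mul_smul := fun u v x => by
        change MonoidAlgebra.single ((u * v : P) : G) (1 : k) * x =
          MonoidAlgebra.single (u : G) (1 : k) * (MonoidAlgebra.single (v : G) (1 : k) * x)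
        rw [← mul_assoc, single_mul_single, mul_one, Subgroup.coe_mul]
      smul_zero := fun u => mul_zero _
      smul_add := fun u x y => mul_add _ _ _ }
  have hsmul : ∀ (u : P) (x : MonoidAlgebra k G), u • x = MonoidAlgebra.single (u : G) 1 * x :=
    fun u x => rfl
  obtain ⟨w, hw, hw0, hwfix⟩ := exists_fixed_in_closure (p := p) (V := MonoidAlgebra k G) (by
    intro v
    rw [← Nat.cast_smul_eq_nsmul k, CharP.cast_eq_zero k p, zero_smul]) hP hne
  -- `f w = w`
  have hfw : f * w = w := by
    clear hw0 hwfix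
    induction hw using AddSubgroup.closure_induction with
    | mem x hx =>
      obtain ⟨u, rfl⟩ := hx
      change f * (MonoidAlgebra.single (u : G) 1 * f) = MonoidAlgebra.single (u : G) 1 * f
      have h1 : MonoidAlgebra.single (u : G) (1 : k) * f =
          f * MonoidAlgebra.single (u : G) (1 : k) := by
        have := hfP u u.2
        have h2 := congrArg (fun y => y * MonoidAlgebra.single (u : G) (1 : k)) this
        simp only [Blk.cj] at h2
        rw [mul_assoc, mul_assoc, single_mul_single, inv_mul_cancel, mul_one, ← one_def,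
          mul_one] at h2
        exact h2
      rw [h1, ← mul_assoc, hff]
    | zero => rw [mul_zero]
    | add x y _ _ hx hy => rw [mul_add, hx, hy]
    | neg x _ hx => rw [mul_neg, hx]
  refine ⟨w, hw0, hfw, ?_⟩
  intro u hu g
  have h1 := hwfix ⟨u, hu⟩⁻¹
  rw [hsmul] at h1
  have h2 := congrArg (fun y : MonoidAlgebra k G => y.coeff g) h1
  simp only [coeff_single_mul_apply, one_mul] at h2
  simpa using h2

/-- The kernel of the projection kills the left `N`-invariant vectors. -/
theorem mul_eq_zero_of_pq_eq_zero {z w : MonoidAlgebra k G} (hz : pq N z = 0)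
    (hw : ∀ u ∈ N, ∀ g, w.coeff (u * g) = w.coeff g) : z * w = 0 := by
  classical
  have := Fintype.ofFinite G
  have := Fintype.ofFinite (G ⧸ N)
  apply ga_ext; intro g
  rw [mul_coeff]
  have h1 : ∀ h : G, w.coeff (h⁻¹ * g) = w.coeff ((Quotient.out (h : G ⧸ N))⁻¹ * g) := by
    intro h
    obtain ⟨d, hd⟩ := QuotientGroup.mk_out_eq_mul N h
    have hd' : (Quotient.out (h : G ⧸ N) : G) = h * d := hd
    rw [hd', mul_inv_rev, mul_assoc, hw _ (N.inv_mem d.2)]
  have h2 : ∑ h : G, z.coeff h * w.coeff (h⁻¹ * g) = ∑ q : G ⧸ N,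
      (∑ h : G, if (h : G ⧸ N) = q then z.coeff h else 0) * w.coeff ((Quotient.out q)⁻¹ * g) := by
    simp_rw [Finset.sum_mul]
    rw [Finset.sum_comm]
    refine Finset.sum_congr rfl fun h _ => ?_
    rw [Finset.sum_eq_single (h : G ⧸ N)]
    · rw [if_pos rfl, ← h1]
    · intro q _ hne
      rw [if_neg hne.symm, zero_mul]
    · intro h; exact absurd (Finset.mem_univ _) h
  rw [h2]
  simp only [← pq_coeff, hz]
  simp

/-- For a normal `p`-subgroup `N` contained in `P`, `Br_P (f) ≠ 0` implies
`Br_{P / N} (f̄) ≠ 0`. -/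
theorem br_pq_ne_zero {p : ℕ} [Fact p.Prime] [CharP k p] {P : Subgroup G} (hP : IsPGroup p P)
    (hNP : N ≤ P) {f : MonoidAlgebra k G} (hf : Fixed P f) (hff : f * f = f)
    (hbr : br P f ≠ 0) : br (P.map (QuotientGroup.mk' N)) (pq N f) ≠ 0 := by
  classical
  have := Fintype.ofFinite G
  intro h0
  -- the preimage of the centralizer of the image
  set Pb := P.map (QuotientGroup.mk' N) with hPb
  set L := (Subgroup.centralizer (Pb : Set (G ⧸ N))).comap (QuotientGroup.mk' N) with hL
  have hmemP : ∀ g : G, (g : G ⧸ N) ∈ Pb ↔ g ∈ P := by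
    intro g
    constructor
    · rintro ⟨x, hx, hxg⟩
      rw [QuotientGroup.mk'_apply, QuotientGroup.eq] at hxg
      have := P.mul_mem hx (hNP hxg)
      simpa using this
    · intro h; exact ⟨g, h, rfl⟩
  have hLP : L ≤ Subgroup.normalizer (P : Set G) := by
    intro g hg
    rw [Subgroup.mem_normalizer_iff]
    have hg' : (g : G ⧸ N) ∈ Subgroup.centralizer (Pb : Set (G ⧸ N)) := hg
    rw [Subgroup.mem_centralizer_iff] at hg'
    intro x
    constructor
    · intro hx
      rw [← hmemP]
      have h1 := hg' (x : G ⧸ N) ((hmemP x).2 hx)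
      have h2 : ((g * x * g⁻¹ : G) : G ⧸ N) = (x : G ⧸ N) := by
        rw [QuotientGroup.mk_mul, QuotientGroup.mk_mul, QuotientGroup.mk_inv, ← h1]
        group
      rw [h2]
      exact (hmemP x).2 hx
    · intro hx
      rw [← hmemP] at hx ⊢
      have h1 := hg' _ hx
      have h2 : (x : G ⧸ N) = ((g * x * g⁻¹ : G) : G ⧸ N) := by
        have h3 : (x : G ⧸ N) = (g : G ⧸ N)⁻¹ * ((g * x * g⁻¹ : G) : G ⧸ N) * (g : G ⧸ N) := by
          rw [QuotientGroup.mk_mul, QuotientGroup.mk_mul, QuotientGroup.mk_inv]; group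
        rw [h3, mul_assoc, h1]
        group
      rw [h2]; exact hx
  have hCL : Subgroup.centralizer (P : Set G) ≤ L := by
    intro g hg
    change (g : G ⧸ N) ∈ Subgroup.centralizer (Pb : Set (G ⧸ N))
    rw [Subgroup.mem_centralizer_iff] at hg ⊢
    rintro _ ⟨x, hx, rfl⟩
    have := hg x hx
    rw [QuotientGroup.mk'_apply, ← QuotientGroup.mk_mul, ← QuotientGroup.mk_mul, this]
  set z := trunc L f with hz
  have hPL : P ≤ Subgroup.normalizer (L : Set G) := by
    intro x hx
    rw [Subgroup.mem_normalizer_iff]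
    have hxP : (x : G ⧸ N) ∈ Pb := (hmemP x).2 hx
    intro g
    change (g : G ⧸ N) ∈ Subgroup.centralizer (Pb : Set (G ⧸ N)) ↔
      ((x * g * x⁻¹ : G) : G ⧸ N) ∈ Subgroup.centralizer (Pb : Set (G ⧸ N))
    have h1 := (Subgroup.mem_normalizer_iff.1
      (le_normalizer_centralizer Pb hxP)) (g : G ⧸ N)
    exact h1
  have hzP : Fixed P z := hf.trunc hPL
  -- the projection of `z` vanishes
  have hz0 : pq N z = 0 := by
    apply ga_ext; intro q
    rw [pq_coeff]
    have h1 : ∑ g : G, (if (g : G ⧸ N) = q then z.coeff g else 0) =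
        (br Pb (pq N f)).coeff q := by
      by_cases hq : q ∈ Subgroup.centralizer (Pb : Set (G ⧸ N))
      · rw [br_coeff_of_mem _ hq, pq_coeff]
        refine Finset.sum_congr rfl fun g _ => ?_
        split_ifs with h
        · rw [hz, trunc_coeff_of_mem]
          change (g : G ⧸ N) ∈ Subgroup.centralizer (Pb : Set (G ⧸ N))
          rw [h]; exact hq
        · rfl
      · rw [br_coeff_of_notMem _ hq]
        refine Finset.sum_eq_zero fun g _ => ?_
        split_ifs with h
        · rw [hz, trunc_coeff_of_notMem]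
          intro h2
          apply hq
          rw [← h]; exact h2
        · rfl
    rw [h1, h0]
  -- contradiction on an invariant vector
  set f1 := br P f with hf1
  have hf1P : Fixed P f1 := hf.br Subgroup.le_normalizer
  have hf1i : f1 * f1 = f1 := by rw [hf1, ← br_mul hP hf hf, hff]
  obtain ⟨w, hw0, hfw, hw⟩ := exists_invariant_vector hP hf1P hf1i hbr
  have h2 := mul_eq_br_mul hLP hP (supp_trunc L f) hzP hw
  have h3 : br P (trunc L f) = f1 := by
    unfold br at hf1 ⊢
    rw [hf1]
    exact trunc_trunc_of_le hCL f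
  rw [h3, hfw, mul_eq_zero_of_pq_eq_zero N hz0 (fun u hu g => hw u (hNP hu) g)] at h2
  exact hw0 h2.symm

end

end Cfsg.Agent.H76
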