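import Cfsg.Agent.Char.ExtThm
import Cfsg.Agent.Glaub.Over
import Cfsg.Agent.Char.Berger
import Cfsg.Agent.Char.Gallagher
import Cfsg.Agent.H75.Inflate

/-!
# Character triple isomorphisms

For a normal subgroup `L` of `A` and an `A`-invariant `θ ∈ Irr(L)` there is a finite group `H` with
a surjection `p : H → A` with central kernel, a copy `ι : L → H` of `L`, and an irreducible character
`D` of `H` extending `θ`.
-/

set_option autoImplicit false
set_option linter.unusedSectionVars false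

namespace Cfsg.Agent.H76.Trip

open scoped ComplexConjugate
open Cfsg Cfsg.Agent.CharBase Cfsg.Agent.Char

universe u v w

section Construct

variable {A : Type u} [Group A] (L : Subgroup A) [hL : L.Normal] {n : ℕ}
  (ρ : Representation ℂ L (Fin n → ℂ)) (N : ℕ)

/-- the group of pairs (intertwiner with bounded determinant order, element) -/
def hat : Subgroup ((Module.End ℂ (Fin n → ℂ))ˣ × A) where
  carrier := {x | (∀ l : L, (x.1 : Module.End ℂ (Fin n → ℂ)) * ρ l =
      ρ ⟨x.2 * l * x.2⁻¹, hL.conj_mem (l : A) l.2 x.2⟩ * (x.1 : Module.End ℂ (Fin n → ℂ))) ∧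
    LinearMap.det (x.1 : Module.End ℂ (Fin n → ℂ)) ^ N = 1}
  one_mem' := by
    refine ⟨fun l => ?_, by simp⟩
    simp
  mul_mem' := by
    rintro ⟨X, a⟩ ⟨Y, b⟩ ⟨h1, h2⟩ ⟨h3, h4⟩
    refine ⟨fun l => ?_, ?_⟩
    · have e1 := h3 l
      have e2 := h1 ⟨b * l * b⁻¹, hL.conj_mem (l : A) l.2 b⟩
      simp only at e1 e2 ⊢
      change ((X : Module.End ℂ (Fin n → ℂ)) * (Y : Module.End ℂ (Fin n → ℂ))) * _ = _ *
        ((X : Module.End ℂ (Fin n → ℂ)) * (Y : Module.End ℂ (Fin n → ℂ)))
      rw [mul_assoc, e1, ← mul_assoc, e2, mul_assoc]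
      congr 2
      apply Subtype.ext
      simp only [Prod.mk_mul_mk]
      group
    · change LinearMap.det ((X : Module.End ℂ (Fin n → ℂ)) * (Y : Module.End ℂ (Fin n → ℂ))) ^ N = 1
      rw [map_mul, mul_pow]
      simp only at h2 h4
      rw [h2, h4, one_mul]
  inv_mem' := by
    rintro ⟨X, a⟩ ⟨h1, h2⟩
    refine ⟨fun l => ?_, ?_⟩
    · have e1 := h1 ⟨a⁻¹ * l * a⁻¹⁻¹, hL.conj_mem (l : A) l.2 a⁻¹⟩
      have e2 := units_conj X _ _ e1
      simp only at e2 ⊢
      change ((X⁻¹ : (Module.End ℂ (Fin n → ℂ))ˣ) : Module.End ℂ (Fin n → ℂ)) * _ = _ *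
        ((X⁻¹ : (Module.End ℂ (Fin n → ℂ))ˣ) : Module.End ℂ (Fin n → ℂ))
      have e3 : (⟨a * (a⁻¹ * l * a⁻¹⁻¹) * a⁻¹, hL.conj_mem _
          (hL.conj_mem (l : A) l.2 a⁻¹) a⟩ : L) = l := by
        apply Subtype.ext
        simp only
        group
      rw [e3] at e2
      exact e2
    · change LinearMap.det ((X⁻¹ : (Module.End ℂ (Fin n → ℂ))ˣ) : Module.End ℂ (Fin n → ℂ)) ^ N = 1
      have h3 : LinearMap.det (X : Module.End ℂ (Fin n → ℂ)) *
          LinearMap.det ((X⁻¹ : (Module.End ℂ (Fin n → ℂ))ˣ) : Module.End ℂ (Fin n → ℂ)) = 1 := by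
        rw [← map_mul, Units.mul_inv, map_one]
      have h4 := congrArg (· ^ N) h3
      simp only [mul_pow, one_pow] at h4
      simp only at h2
      rw [h2, one_mul] at h4
      exact h4

/-- projection to `A` -/
def hatP : hat L ρ N →* A := (MonoidHom.snd _ _).comp (hat L ρ N).subtype

theorem hatP_apply (x : hat L ρ N) : hatP L ρ N x = (x : (Module.End ℂ (Fin n → ℂ))ˣ × A).2 := rfl

/-- the representation `(X, a) ↦ X` -/
def hatRep : Representation ℂ (hat L ρ N) (Fin n → ℂ) :=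
  (Units.coeHom _).comp ((MonoidHom.fst _ _).comp (hat L ρ N).subtype)

theorem hatRep_apply (x : hat L ρ N) :
    hatRep L ρ N x = ((x : (Module.End ℂ (Fin n → ℂ))ˣ × A).1 : Module.End ℂ (Fin n → ℂ)) := rfl

/-- the copy of `L` -/
noncomputable def hatI (hN : ∀ l : L, LinearMap.det (ρ l) ^ N = 1) : L →* hat L ρ N where
  toFun l := ⟨(⟨ρ l, ρ l⁻¹, by rw [← map_mul, mul_inv_cancel, map_one],
      by rw [← map_mul, inv_mul_cancel, map_one]⟩, l), by
    refine ⟨fun m => ?_, hN l⟩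
    change ρ l * ρ m = _ * ρ l
    rw [← map_mul, ← map_mul]
    congr 1
    apply Subtype.ext
    simp⟩
  map_one' := by
    apply Subtype.ext
    apply Prod.ext
    · apply Units.ext
      exact map_one ρ
    · rfl
  map_mul' a b := by
    apply Subtype.ext
    apply Prod.ext
    · apply Units.ext
      exact map_mul ρ a b
    · rfl

theorem hatP_hatI (hN : ∀ l : L, LinearMap.det (ρ l) ^ N = 1) (l : L) :
    hatP L ρ N (hatI L ρ N hN l) = l := rfl

theorem hatRep_hatI (hN : ∀ l : L, LinearMap.det (ρ l) ^ N = 1) (l : L) :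
    hatRep L ρ N (hatI L ρ N hN l) = ρ l := rfl

theorem hatI_conj (hN : ∀ l : L, LinearMap.det (ρ l) ^ N = 1) (x : hat L ρ N) (l : L) :
    x * hatI L ρ N hN l * x⁻¹ = hatI L ρ N hN ⟨hatP L ρ N x * l * (hatP L ρ N x)⁻¹,
      hL.conj_mem (l : A) l.2 _⟩ := by
  rw [mul_inv_eq_iff_eq_mul]
  apply Subtype.ext
  apply Prod.ext
  · apply Units.ext
    exact x.2.1 l
  · change hatP L ρ N x * (l : A) = hatP L ρ N x * l * (hatP L ρ N x)⁻¹ * hatP L ρ N x
    group

/-- elements of the kernel are scalars -/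
theorem exists_scalar (hρ : ρ.IsIrreducible) {z : hat L ρ N} (hz : hatP L ρ N z = 1) :
    ∃ c : ℂ, hatRep L ρ N z = c • (1 : Module.End ℂ (Fin n → ℂ)) := by
  apply exists_smul_one_of_commute ρ hρ
  intro l
  have h1 := z.2.1 l
  rw [hatRep_apply, h1]
  congr 2
  apply Subtype.ext
  have hz2 : (z : (Module.End ℂ (Fin n → ℂ))ˣ × A).2 = 1 := hz
  simp only
  rw [hz2]
  simp

theorem hat_ext {x y : hat L ρ N} (h1 : hatP L ρ N x = hatP L ρ N y)
    (h2 : hatRep L ρ N x = hatRep L ρ N y) : x = y := by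
  apply Subtype.ext
  apply Prod.ext
  · exact Units.ext h2
  · exact h1

theorem ker_central (hρ : ρ.IsIrreducible) {z : hat L ρ N} (hz : hatP L ρ N z = 1)
    (x : hat L ρ N) : z * x = x * z := by
  obtain ⟨c, hc⟩ := exists_scalar L ρ N hρ hz
  apply hat_ext
  · rw [map_mul, map_mul, hz, mul_one, one_mul]
  · rw [map_mul, map_mul, hc, smul_mul_assoc, mul_smul_comm, one_mul, mul_one]

/-- the scalar as a homomorphism -/
theorem exists_mu (hρ : ρ.IsIrreducible) : ∃ μ : (hatP L ρ N).ker →* ℂˣ,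
    Function.Injective μ ∧ ∀ z : (hatP L ρ N).ker, hatRep L ρ N z = ((μ z : ℂˣ) : ℂ) • (1 : Module.End ℂ (Fin n → ℂ)) := by
  have hnt := nontrivial_of_irreducible_rep ρ hρ
  have h1 : ∀ z : (hatP L ρ N).ker, ∃ c : ℂˣ,
      hatRep L ρ N z = (c : ℂ) • (1 : Module.End ℂ (Fin n → ℂ)) := by
    intro z
    obtain ⟨c, hc⟩ := exists_scalar L ρ N hρ (MonoidHom.mem_ker.mp z.2)
    have hc0 : c ≠ 0 := by
      rintro rfl
      rw [zero_smul] at hc
      exact (z : hat L ρ N).1.1.ne_zero hc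
    exact ⟨Units.mk0 c hc0, hc⟩
  choose μ hμ using h1
  have hinj : ∀ a b : ℂ, a • (1 : Module.End ℂ (Fin n → ℂ)) = b • 1 → a = b :=
    fun a b h => smul_left_injective ℂ (one_ne_zero (α := Module.End ℂ (Fin n → ℂ))) h
  refine ⟨⟨⟨μ, ?_⟩, ?_⟩, ?_, hμ⟩
  · apply Units.ext
    apply hinj
    rw [← hμ, OneMemClass.coe_one, map_one, Units.val_one, one_smul]
  · intro a b
    apply Units.ext
    apply hinj
    change ((μ (a * b) : ℂˣ) : ℂ) • (1 : Module.End ℂ (Fin n → ℂ)) = _
    rw [← hμ, Subgroup.coe_mul, map_mul, hμ, hμ, smul_mul_smul_comm, one_mul, Units.val_mul]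
  · intro a b hab
    apply Subtype.ext
    apply hat_ext
    · rw [MonoidHom.mem_ker.mp a.2, MonoidHom.mem_ker.mp b.2]
    · have : μ a = μ b := hab
      rw [hμ, hμ, this]

theorem mu_pow {μ : (hatP L ρ N).ker →* ℂˣ}
    (hμ : ∀ z : (hatP L ρ N).ker, hatRep L ρ N z = ((μ z : ℂˣ) : ℂ) • (1 : Module.End ℂ (Fin n → ℂ)))
    (z : (hatP L ρ N).ker) : μ z ^ (n * N) = 1 := by
  have h1 := (z : hat L ρ N).2.2
  rw [← hatRep_apply, hμ, LinearMap.det_smul, map_one, mul_one, Module.finrank_fin_fun,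
    ← pow_mul] at h1
  apply Units.ext
  rw [Units.val_pow_eq_pow_val, h1, Units.val_one]

theorem finite_ker (hρ : ρ.IsIrreducible) (hN0 : N ≠ 0) : Finite (hatP L ρ N).ker := by
  obtain ⟨μ, hinj, hμ⟩ := exists_mu L ρ N hρ
  have hnt := nontrivial_of_irreducible_rep ρ hρ
  have hn : n ≠ 0 := by
    rintro rfl
    exact not_subsingleton (Fin 0 → ℂ) inferInstance
  have hfin : Finite (rootsOfUnity (n * N) ℂ) := by
    have : NeZero (n * N) := ⟨mul_ne_zero hn hN0⟩
    infer_instance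
  refine Finite.of_injective (β := rootsOfUnity (n * N) ℂ)
    (fun z => ⟨μ z, (mem_rootsOfUnity _ _).mpr (mu_pow L ρ N hμ z)⟩) ?_
  intro a b hab
  apply hinj
  exact congrArg Subtype.val hab

theorem finite_hat [Finite A] (hρ : ρ.IsIrreducible) (hN0 : N ≠ 0) : Finite (hat L ρ N) := by
  have := finite_ker L ρ N hρ hN0
  have h2 : Finite ((hat L ρ N) ⧸ (hatP L ρ N).ker) :=
    Finite.of_equiv _ (QuotientGroup.quotientKerEquivRange (hatP L ρ N)).toEquiv.symm
  exact Finite.of_subgroup_quotient (hatP L ρ N).ker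

theorem hatP_surjective [Finite A] (hρ : ρ.IsIrreducible)
    (hinv : ∀ a : A, cj L a ρ.character = ρ.character) : Function.Surjective (hatP L ρ N) := by
  obtain ⟨T, hT⟩ := exists_twist L ρ hρ hinv
  have hnt := nontrivial_of_irreducible_rep ρ hρ
  have hn : n ≠ 0 := by
    rintro rfl
    exact not_subsingleton (Fin 0 → ℂ) inferInstance
  intro a
  have hdet : LinearMap.det (T a : Module.End ℂ (Fin n → ℂ)) ≠ 0 := by
    intro h0
    have h3 : LinearMap.det (T a : Module.End ℂ (Fin n → ℂ)) *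
        LinearMap.det (((T a)⁻¹ : (Module.End ℂ (Fin n → ℂ))ˣ) : Module.End ℂ (Fin n → ℂ)) = 1 := by
      rw [← map_mul, Units.mul_inv, map_one]
    rw [h0, zero_mul] at h3
    exact zero_ne_one h3
  obtain ⟨d, hd⟩ := IsAlgClosed.exists_pow_nat_eq
    (LinearMap.det (T a : Module.End ℂ (Fin n → ℂ)))⁻¹ (Nat.pos_of_ne_zero hn)
  have hd0 : d ≠ 0 := by
    rintro rfl
    rw [zero_pow hn] at hd
    exact inv_ne_zero hdet hd.symm
  let X : (Module.End ℂ (Fin n → ℂ))ˣ := (Units.map (algebraMap ℂ (Module.End ℂ (Fin n → ℂ))).toMonoidHom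
    (Units.mk0 d hd0)) * T a
  have hX : (X : Module.End ℂ (Fin n → ℂ)) = d • (T a : Module.End ℂ (Fin n → ℂ)) := by
    change algebraMap ℂ (Module.End ℂ (Fin n → ℂ)) d * (T a : Module.End ℂ (Fin n → ℂ)) = _
    rw [Algebra.smul_def]
  refine ⟨⟨(X, a), ?_, ?_⟩, rfl⟩
  · intro l
    simp only
    rw [hX, smul_mul_assoc, hT.inter a l, mul_smul_comm]
  · simp only
    rw [hX, LinearMap.det_smul, Module.finrank_fin_fun, hd, inv_mul_cancel₀ hdet, one_pow]

end Construct

section Data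

/-- The data of a linearisation of a character triple. -/
structure Lin {A : Type u} [Group A] (L : Subgroup A) [hL : L.Normal] (θ : L → ℂ) (H : Type u)
    [Group H] where
  p : H →* A
  ι : L →* H
  D : H → ℂ
  surj : Function.Surjective p
  p_ι : ∀ l, p (ι l) = l
  conj_ι : ∀ x l, x * ι l * x⁻¹ = ι ⟨p x * l * (p x)⁻¹, hL.conj_mem (l : A) l.2 _⟩
  irr : IsIrrCharacter H D
  D_ι : ∀ l, D (ι l) = θ l
  central : ∀ z ∈ p.ker, ∀ x, z * x = x * z
  μ : p.ker →* ℂˣ
  μ_inj : Function.Injective μ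
  D_mul : ∀ (z : p.ker) (x : H), D (z * x) = ((μ z : ℂˣ) : ℂ) * D x
  card_dvd : Nat.card p.ker ∣ Nat.card L ^ 2

theorem exists_lin {A : Type u} [Group A] [Finite A] (L : Subgroup A) [hL : L.Normal] {θ : L → ℂ}
    (hθ : IsIrrCharacter L θ) (hinv : ∀ a : A, cj L a θ = θ) :
    ∃ (H : Type u) (_ : Group H) (_ : Finite H), Nonempty (Lin L θ H) := by
  classical
  have hθ0 := hθ
  obtain ⟨n, ρ, hρ, rfl⟩ := hθ
  have hN0 : Nat.card L ≠ 0 := Nat.card_pos.ne'
  have hN : ∀ l : L, LinearMap.det (ρ l) ^ Nat.card L = 1 := by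
    intro l
    rw [← map_pow, ← map_pow, pow_card_eq_one', map_one, map_one]
  have hfin := finite_hat L ρ (Nat.card L) hρ hN0
  obtain ⟨μ, hinj, hμ⟩ := exists_mu L ρ (Nat.card L) hρ
  have hirr : (hatRep L ρ (Nat.card L)).IsIrreducible :=
    isIrreducible_of_comp _ (hatI L ρ (Nat.card L) hN) hρ
  refine ⟨hat L ρ (Nat.card L), inferInstance, hfin, ⟨⟨hatP L ρ _, hatI L ρ _ hN,
    (hatRep L ρ _).character, hatP_surjective L ρ _ hρ hinv, hatP_hatI L ρ _ hN, hatI_conj L ρ _ hN,
    ⟨n, hatRep L ρ _, hirr, rfl⟩, fun l => rfl,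
    fun z hz x => ker_central L ρ _ hρ (MonoidHom.mem_ker.mp hz) x, μ, hinj, ?_, ?_⟩⟩⟩
  · intro z x
    change LinearMap.trace ℂ _ (hatRep L ρ _ ((z : hat L ρ (Nat.card L)) * x)) =
      _ * LinearMap.trace ℂ _ (hatRep L ρ _ x)
    rw [map_mul, hμ, smul_mul_assoc, one_mul, map_smul, smul_eq_mul]
  · have hnt := nontrivial_of_irreducible_rep ρ hρ
    have hn : n ≠ 0 := by
      rintro rfl
      exact not_subsingleton (Fin 0 → ℂ) inferInstance
    have : NeZero (n * Nat.card L) := ⟨mul_ne_zero hn hN0⟩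
    -- the kernel embeds in the roots of unity
    let f : (hatP L ρ (Nat.card L)).ker →* rootsOfUnity (n * Nat.card L) ℂ :=
      { toFun := fun z => ⟨μ z, (mem_rootsOfUnity _ _).mpr (mu_pow L ρ _ hμ z)⟩
        map_one' := by apply Subtype.ext; exact map_one μ
        map_mul' := fun a b => by apply Subtype.ext; exact map_mul μ a b }
    have hf : Function.Injective f := fun a b hab => hinj (congrArg Subtype.val hab)
    have h1 : Nat.card (hatP L ρ (Nat.card L)).ker ∣ Nat.card (rootsOfUnity (n * Nat.card L) ℂ) :=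
      Subgroup.card_dvd_of_injective f hf
    have h2 : Nat.card (rootsOfUnity (n * Nat.card L) ℂ) = n * Nat.card L :=
      Complex.card_rootsOfUnity _
    rw [h2] at h1
    refine h1.trans ?_
    rw [sq]
    apply Nat.mul_dvd_mul_right
    have := Fintype.ofFinite L
    apply degree_dvd_card hθ0
    rw [Representation.char_one, Module.finrank_fin_fun]

end Data

section Rel

variable {H : Type u} {X : Type v} {Y : Type w} [Group H] [Group X] [Group Y]
  (p : H →* X) (q : H →* Y) (D : H → ℂ)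

theorem sum_fiber {H : Type u} {Y : Type w} [Group H] [Group Y] [Fintype H] [Fintype Y] (q : H →* Y)
    (hq : Function.Surjective q) [Fintype q.ker] (F : H → ℂ) (w : Y → ℂ) (c : ℂ)
    (hF : ∀ h : H, ∑ k : q.ker, F (k * h) = c) :
    ∑ h : H, F h * w (q h) = c * ∑ y : Y, w y := by
  classical
  have h1 : ∑ h : H, F h * w (q h) = ∑ y : Y, ∑ h ∈ Finset.univ.filter (fun h => q h = y),
      F h * w (q h) := (Finset.sum_fiberwise Finset.univ q (fun h => F h * w (q h))).symm
  rw [h1, Finset.mul_sum]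
  apply Finset.sum_congr rfl
  intro y _
  obtain ⟨h0, rfl⟩ := hq y
  rw [← hF h0, Finset.sum_mul]
  symm
  apply Finset.sum_bij (fun (k : q.ker) _ => (k : H) * h0)
  · intro k _
    rw [Finset.mem_filter]
    exact ⟨Finset.mem_univ _, by rw [map_mul, MonoidHom.mem_ker.mp k.2, one_mul]⟩
  · intro a _ b _ hab
    exact Subtype.ext (mul_right_cancel hab)
  · intro h hh
    rw [Finset.mem_filter] at hh
    refine ⟨⟨h * h0⁻¹, ?_⟩, Finset.mem_univ _, ?_⟩
    · rw [MonoidHom.mem_ker, map_mul, map_inv, hh.2, mul_inv_cancel]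
    · simp
  · intro k _
    rw [map_mul, MonoidHom.mem_ker.mp k.2, one_mul]

/-- The inner products correspond. -/
theorem inner_eq [Finite H] [Fintype X] [Fintype Y] (hp : Function.Surjective p)
    (hq : Function.Surjective q) (hD : IsIrrCharacter H D)
    (hDk : IsIrrCharacter q.ker (fun k => D k)) {f f' : X → ℂ} {g g' : Y → ℂ}
    (h1 : ∀ h, f (p h) = g (q h) * D h) (h2 : ∀ h, f' (p h) = g' (q h) * D h) :
    classInner f f' = classInner g g' := by
  classical
  have := Fintype.ofFinite H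
  have := Fintype.ofFinite q.ker
  have := Fintype.ofFinite p.ker
  have hDs : ∀ h : H, ∑ k : q.ker, D (k * h) * conj (D (k * h)) = Nat.card q.ker := by
    intro h
    have e1 := avgN_mul_conj_of_restrict_irr q.ker hD hDk
    have e2 := congrFun e1 h
    rw [avgN_apply] at e2
    have hc : (Nat.card q.ker : ℂ) ≠ 0 := by exact_mod_cast Nat.card_pos.ne'
    have e3 : ∑ n : q.ker, (D * fun g => conj (D g)) ((n : H) * h) = Nat.card q.ker := by
      field_simp at e2
      exact e2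
    exact e3
  have e1 : ∑ h : H, f (p h) * conj (f' (p h)) = (Nat.card p.ker : ℂ) * ∑ x : X, f x * conj (f' x) := by
    have := sum_fiber p hp (fun _ => 1) (fun x => f x * conj (f' x)) (Nat.card p.ker) (by
      intro h
      rw [Finset.sum_const, Finset.card_univ, Nat.card_eq_fintype_card, nsmul_eq_mul, mul_one])
    simpa using this
  have e2 : ∑ h : H, f (p h) * conj (f' (p h)) = (Nat.card q.ker : ℂ) * ∑ y : Y, g y * conj (g' y) := by
    rw [← sum_fiber q hq (fun h => D h * conj (D h)) (fun y => g y * conj (g' y)) _ hDs]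
    apply Finset.sum_congr rfl
    intro h _
    rw [h1, h2, map_mul]
    ring
  have c1 : (Nat.card H : ℂ) = Nat.card p.ker * Nat.card X := by
    have : Nat.card H = Nat.card p.ker * Nat.card X := by
      rw [Subgroup.card_eq_card_quotient_mul_card_subgroup p.ker, mul_comm,
        Nat.card_congr (QuotientGroup.quotientKerEquivOfSurjective p hp).toEquiv]
    exact_mod_cast this
  have c2 : (Nat.card H : ℂ) = Nat.card q.ker * Nat.card Y := by
    have : Nat.card H = Nat.card q.ker * Nat.card Y := by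
      rw [Subgroup.card_eq_card_quotient_mul_card_subgroup q.ker, mul_comm,
        Nat.card_congr (QuotientGroup.quotientKerEquivOfSurjective q hq).toEquiv]
    exact_mod_cast this
  unfold classInner
  have hpk : (Nat.card p.ker : ℂ) ≠ 0 := by exact_mod_cast Nat.card_pos.ne'
  have hqk : (Nat.card q.ker : ℂ) ≠ 0 := by exact_mod_cast Nat.card_pos.ne'
  have hX : (Nat.card X : ℂ) ≠ 0 := by exact_mod_cast Nat.card_pos.ne'
  have hY : (Nat.card Y : ℂ) ≠ 0 := by exact_mod_cast Nat.card_pos.ne'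
  rw [e1] at e2
  rw [c1] at c2
  field_simp
  have e3 : (Nat.card p.ker : ℂ) * ((Nat.card Y : ℂ) * ∑ x : X, f x * conj (f' x)) =
      Nat.card p.ker * ((Nat.card X : ℂ) * ∑ y : Y, g y * conj (g' y)) := by
    calc (Nat.card p.ker : ℂ) * ((Nat.card Y : ℂ) * ∑ x : X, f x * conj (f' x))
        = Nat.card Y * (Nat.card p.ker * ∑ x : X, f x * conj (f' x)) := by ring
      _ = Nat.card Y * (Nat.card q.ker * ∑ y : Y, g y * conj (g' y)) := by rw [e2]
      _ = (Nat.card q.ker * Nat.card Y) * ∑ y : Y, g y * conj (g' y) := by ring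
      _ = (Nat.card p.ker * Nat.card X) * ∑ y : Y, g y * conj (g' y) := by rw [c2]
      _ = _ := by ring
  have e4 := mul_left_cancel₀ hpk e3
  first
    | exact e4
    | linear_combination e4

/-- Deflation along a surjection. -/
theorem exists_deflate_surj {H : Type u} {X : Type v} [Group H] [Group X] (p : H →* X)
    (hp : Function.Surjective p) {ξ : H → ℂ} (hξ : IsIrrCharacter H ξ) [Finite H]
    (hk : ∀ z ∈ p.ker, ξ z = ξ 1) : ∃ χ : X → ℂ, IsIrrCharacter X χ ∧ ∀ h, ξ h = χ (p h) := by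
  obtain ⟨χ', hχ', h1⟩ := H75.exists_deflate_irr p.ker hξ hk
  let e := QuotientGroup.quotientKerEquivOfSurjective p hp
  refine ⟨fun x => χ' (e.symm x), isIrrCharacter_comp_surjective hχ' e.symm.toMonoidHom
    e.symm.surjective, fun h => ?_⟩
  rw [← h1]
  congr 1
  rw [MulEquiv.eq_symm_apply]
  rfl

theorem exists_down [Finite H] (hp : Function.Surjective p) (hq : Function.Surjective q)
    (hD : IsIrrCharacter H D) (hDk : IsIrrCharacter q.ker (fun k => D k)) [Fintype q.ker]
    {χ : X → ℂ} (hχ : IsIrrCharacter X χ)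
    (hne : classInner (fun k : q.ker => χ (p k)) (fun k => D k) ≠ 0) :
    ∃ β : Y → ℂ, IsIrrCharacter Y β ∧ ∀ h, χ (p h) = β (q h) * D h := by
  have h1 : IsIrrCharacter H (fun h => χ (p h)) := isIrrCharacter_comp_surjective hχ p hp
  obtain ⟨β', hβ', h2⟩ := Glaub.exists_irr_factor q.ker hD hDk h1 hne
  let e := QuotientGroup.quotientKerEquivOfSurjective q hq
  refine ⟨fun x => β' (e.symm x), isIrrCharacter_comp_surjective hβ' e.symm.toMonoidHom
    e.symm.surjective, fun h => ?_⟩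
  rw [h2]
  congr 2
  rw [MulEquiv.eq_symm_apply]
  rfl

end Rel

end Cfsg.Agent.H76.Trip
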