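import Cfsg.Agent.H76.Triple
import Cfsg.Agent.H76.PrimeDeg2

/-!
# Character triple isomorphisms, part 2: the correspondence on intermediate subgroups
-/

set_option autoImplicit false
set_option linter.unusedSectionVars false
set_option linter.unusedFintypeInType false

namespace Cfsg.Agent.H76.Trip

open scoped ComplexConjugate
open Cfsg Cfsg.Agent.CharBase Cfsg.Agent.Char

universe u v w

section Rel

variable {H : Type u} {X : Type v} {Y : Type w} [Group H] [Group X] [Group Y]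
  (p : H →* X) (q : H →* Y) (D : H → ℂ)

theorem exists_up [Finite H] (hp : Function.Surjective p) (hq : Function.Surjective q)
    (hD : IsIrrCharacter H D) (hDk : IsIrrCharacter q.ker (fun k => D k))
    {β : Y → ℂ} (hβ : IsIrrCharacter Y β)
    (hk : ∀ z ∈ p.ker, β (q z) * D z = β 1 * D 1) :
    ∃ χ : X → ℂ, IsIrrCharacter X χ ∧ ∀ h, χ (p h) = β (q h) * D h := by
  classical
  have := Fintype.ofFinite H
  have := Fintype.ofFinite q.ker
  have := Fintype.ofFinite (H ⧸ q.ker)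
  let e := QuotientGroup.quotientKerEquivOfSurjective q hq
  have h1 : IsIrrCharacter (H ⧸ q.ker) (fun x => β (e x)) :=
    isIrrCharacter_comp_surjective hβ e.toMonoidHom e.surjective
  have h2 := H76.gallagher_mul q.ker hD hDk ⟨_, h1⟩
  have h3 : ((fun g : H => (fun x => β (e x)) (g : H ⧸ q.ker)) * D) = fun h => β (q h) * D h := by
    funext h
    rfl
  have h4 : IsIrrCharacter H (fun h => β (q h) * D h) := by
    rw [← h3]
    exact h2
  obtain ⟨χ, hχ, h5⟩ := exists_deflate_surj p hp h4 (fun z hz => by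
    simp only [map_one]
    exact hk z hz)
  exact ⟨χ, hχ, fun h => (h5 h).symm⟩

/-- A coset of the kernel of `q` contains an element where `D` does not vanish. -/
theorem exists_ne_zero [Finite H] (hD : IsIrrCharacter H D)
    (hDk : IsIrrCharacter q.ker (fun k => D k)) (h : H) : ∃ k ∈ q.ker, D (k * h) ≠ 0 := by
  classical
  have := Fintype.ofFinite H
  have := Fintype.ofFinite q.ker
  by_contra hcon
  push Not at hcon
  have e1 := avgN_mul_conj_of_restrict_irr q.ker hD hDk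
  have e2 := congrFun e1 h
  rw [avgN_apply] at e2
  have e3 : ∀ n : q.ker, (D * fun g => conj (D g)) ((n : H) * h) = 0 := by
    intro n
    change D (n * h) * _ = 0
    rw [hcon n n.2, zero_mul]
  rw [Finset.sum_congr rfl (fun n _ => e3 n), Finset.sum_const_zero, mul_zero] at e2
  exact zero_ne_one e2

theorem right_unique [Finite H] (hq : Function.Surjective q) (hD : IsIrrCharacter H D)
    (hDk : IsIrrCharacter q.ker (fun k => D k)) {χ : X → ℂ} {β β' : Y → ℂ}
    (h1 : ∀ h, χ (p h) = β (q h) * D h) (h2 : ∀ h, χ (p h) = β' (q h) * D h) : β = β' := by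
  funext y
  obtain ⟨h, rfl⟩ := hq y
  obtain ⟨k, hk, hne⟩ := exists_ne_zero q D hD hDk h
  have e1 := h1 (k * h)
  rw [h2, map_mul, MonoidHom.mem_ker.mp hk, one_mul] at e1
  exact (mul_right_cancel₀ hne e1).symm

theorem left_unique (hp : Function.Surjective p) {χ χ' : X → ℂ} {β : Y → ℂ}
    (h1 : ∀ h, χ (p h) = β (q h) * D h) (h2 : ∀ h, χ' (p h) = β (q h) * D h) : χ = χ' := by
  funext x
  obtain ⟨h, rfl⟩ := hp x
  rw [h1, h2]

end Rel

namespace Lin

variable {A : Type u} [Group A] {L : Subgroup A} [hL : L.Normal] {θ : L → ℂ} {H : Type u}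
    [Group H] (T : Lin L θ H)

/-- the copy of `L` -/
def I : Subgroup H := T.ι.range

instance instNormalI : T.I.Normal := ⟨by
  rintro _ ⟨l, rfl⟩ x
  exact ⟨_, (T.conj_ι x l).symm⟩⟩

theorem ι_mem (l : L) : T.ι l ∈ T.I := ⟨l, rfl⟩

theorem ι_injective : Function.Injective T.ι := fun a b hab => by
  apply Subtype.ext
  rw [← T.p_ι, ← T.p_ι, hab]

theorem eq_one_of_mem {x : H} (hx : x ∈ T.I) (h : T.p x = 1) : x = 1 := by
  obtain ⟨l, rfl⟩ := hx
  rw [T.p_ι] at h
  have : l = 1 := Subtype.ext h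
  rw [this, map_one]

/-- the preimage of a subgroup -/
def up (X : Subgroup A) : Subgroup H := X.comap T.p

/-- the corresponding subgroup of `H ⧸ I` -/
def bar (X : Subgroup A) : Subgroup (H ⧸ T.I) := (T.up X).map (QuotientGroup.mk' T.I)

/-- the projection -/
def pX (X : Subgroup A) : T.up X →* X := T.p.subgroupComap X

/-- the projection to the quotient -/
def qX (X : Subgroup A) : T.up X →* T.bar X := (QuotientGroup.mk' T.I).subgroupMap (T.up X)

theorem pX_coe (X : Subgroup A) (h : T.up X) : (T.pX X h : A) = T.p h := rfl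
theorem qX_coe (X : Subgroup A) (h : T.up X) : (T.qX X h : H ⧸ T.I) = ((h : H) : H ⧸ T.I) := rfl

theorem pX_surj (X : Subgroup A) : Function.Surjective (T.pX X) := by
  rintro ⟨x, hx⟩
  obtain ⟨h, rfl⟩ := T.surj x
  exact ⟨⟨h, hx⟩, rfl⟩

theorem qX_surj (X : Subgroup A) : Function.Surjective (T.qX X) :=
  MonoidHom.subgroupMap_surjective _ _

theorem mem_up {X : Subgroup A} {h : H} : h ∈ T.up X ↔ T.p h ∈ X := Iff.rfl

theorem ι_mem_up {X : Subgroup A} (hX : L ≤ X) (l : L) : T.ι l ∈ T.up X := by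
  rw [mem_up, T.p_ι]
  exact hX l.2

theorem I_le_up {X : Subgroup A} (hX : L ≤ X) : T.I ≤ T.up X := by
  rintro _ ⟨l, rfl⟩
  exact T.ι_mem_up hX l

theorem mem_bar {X : Subgroup A} (hX : L ≤ X) {h : H} : (h : H ⧸ T.I) ∈ T.bar X ↔ T.p h ∈ X := by
  constructor
  · rintro ⟨y, hy, hyh⟩
    have h1 : y⁻¹ * h ∈ T.I := QuotientGroup.eq.mp hyh
    have h2 := T.up X |>.mul_mem hy (T.I_le_up hX h1)
    rw [mul_inv_cancel_left] at h2
    exact h2
  · intro h1
    exact ⟨h, h1, rfl⟩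

theorem ker_qX {X : Subgroup A} {h : T.up X} : h ∈ (T.qX X).ker ↔ (h : H) ∈ T.I := by
  rw [MonoidHom.mem_ker, Subtype.ext_iff, qX_coe]
  exact QuotientGroup.eq_one_iff _

/-- `L` as the kernel of the projection -/
noncomputable def kerEquiv {X : Subgroup A} (hX : L ≤ X) : L ≃* (T.qX X).ker :=
  MulEquiv.ofBijective
    ({ toFun := fun l => ⟨⟨T.ι l, T.ι_mem_up hX l⟩, T.ker_qX.mpr (T.ι_mem l)⟩
       map_one' := by
        apply Subtype.ext
        apply Subtype.ext
        exact map_one T.ι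
       map_mul' := fun a b => by
        apply Subtype.ext
        apply Subtype.ext
        exact map_mul T.ι a b } : L →* (T.qX X).ker)
    ⟨fun a b hab => T.ι_injective (congrArg (fun x : (T.qX X).ker => ((x : T.up X) : H)) hab), by
      rintro ⟨x, hx⟩
      obtain ⟨l, hl⟩ := T.ker_qX.mp hx
      exact ⟨l, Subtype.ext (Subtype.ext hl)⟩⟩

theorem kerEquiv_coe {X : Subgroup A} (hX : L ≤ X) (l : L) :
    (((T.kerEquiv hX l : (T.qX X).ker) : T.up X) : H) = T.ι l := rfl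

theorem irr_ker (hθ : IsIrrCharacter L θ) {X : Subgroup A} (hX : L ≤ X) :
    IsIrrCharacter (T.qX X).ker (fun k => T.D ((k : T.up X) : H)) := by
  have h1 := isIrrCharacter_comp_surjective hθ (T.kerEquiv hX).symm.toMonoidHom
    (T.kerEquiv hX).symm.surjective
  have h2 : (fun k : (T.qX X).ker => T.D ((k : T.up X) : H)) =
      fun k => θ ((T.kerEquiv hX).symm k) := by
    funext k
    obtain ⟨l, rfl⟩ := (T.kerEquiv hX).surjective k
    rw [MulEquiv.symm_apply_apply, T.kerEquiv_coe, T.D_ι]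
  rw [h2]
  exact h1

theorem irr_up [Finite H] (hθ : IsIrrCharacter L θ) {X : Subgroup A} (hX : L ≤ X) :
    IsIrrCharacter (T.up X) (fun h => T.D (h : H)) := by
  obtain ⟨n, ρ, hρ, hD⟩ := T.irr
  refine ⟨n, ρ.comp (T.up X).subtype, ?_, ?_⟩
  · have h1 : IsIrrCharacter (T.qX X).ker
        (Representation.character ((ρ.comp (T.up X).subtype).comp (T.qX X).ker.subtype)) := by
      have h2 := T.irr_ker hθ hX
      rw [← hD] at h2
      exact h2
    exact isIrreducible_of_comp _ _ (isIrreducible_of_character _ h1)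
  · rw [← hD]
    rfl

/-- The correspondence between characters of `X` above `θ` and characters of `bar X`. -/
def Rel (X : Subgroup A) (χ : X → ℂ) (β : T.bar X → ℂ) : Prop :=
  ∀ h : T.up X, χ (T.pX X h) = β (T.qX X h) * T.D (h : H)

theorem rel_one {X : Subgroup A} {χ : X → ℂ} {β : T.bar X → ℂ} (h : T.Rel X χ β) :
    χ 1 = β 1 * θ 1 := by
  have h1 := h 1
  rw [map_one, map_one] at h1
  rw [h1]
  congr 1
  have := T.D_ι 1
  rw [map_one] at this
  exact this

theorem inner [Finite H] (hθ : IsIrrCharacter L θ) {X : Subgroup A} (hX : L ≤ X) [Fintype X]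
    [Fintype (T.bar X)]
    {χ χ' : X → ℂ} {β β' : T.bar X → ℂ} (h1 : T.Rel X χ β) (h2 : T.Rel X χ' β') :
    classInner χ χ' = classInner β β' :=
  inner_eq (T.pX X) (T.qX X) (fun h => T.D (h : H)) (T.pX_surj X) (T.qX_surj X) (T.irr_up hθ hX)
    (T.irr_ker hθ hX) h1 h2

theorem restrict {X X' : Subgroup A} (hX : X ≤ X') (hb : T.bar X ≤ T.bar X') {χ : X' → ℂ}
    {β : T.bar X' → ℂ} (h : T.Rel X' χ β) :
    T.Rel X (fun x => χ ⟨x, hX x.2⟩) (fun y => β ⟨y, hb y.2⟩) := fun x =>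
  h ⟨x, hX x.2⟩

theorem bar_mono {X X' : Subgroup A} (hX : X ≤ X') : T.bar X ≤ T.bar X' :=
  Subgroup.map_mono (Subgroup.comap_mono hX)

theorem rel_right_unique [Finite H] (hθ : IsIrrCharacter L θ) {X : Subgroup A} (hX : L ≤ X)
    {χ : X → ℂ} {β β' : T.bar X → ℂ} (h1 : T.Rel X χ β) (h2 : T.Rel X χ β') : β = β' :=
  right_unique (T.pX X) (T.qX X) (fun h => T.D (h : H)) (T.qX_surj X) (T.irr_up hθ hX)
    (T.irr_ker hθ hX) h1 h2

theorem rel_left_unique {X : Subgroup A} {χ χ' : X → ℂ} {β : T.bar X → ℂ}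
    (h1 : T.Rel X χ β) (h2 : T.Rel X χ' β) : χ = χ' :=
  left_unique (T.pX X) (T.qX X) (fun h => T.D (h : H)) (T.pX_surj X) h1 h2

theorem exists_down [Finite H] (hθ : IsIrrCharacter L θ) {X : Subgroup A} (hX : L ≤ X) [Fintype L]
    {χ : X → ℂ} (hχ : IsIrrCharacter X χ)
    (hne : classInner (fun l : L => χ ⟨l, hX l.2⟩) θ ≠ 0) :
    ∃ β : T.bar X → ℂ, IsIrrCharacter (T.bar X) β ∧ T.Rel X χ β := by
  classical
  have := Fintype.ofFinite H
  have := Fintype.ofFinite (T.qX X).ker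
  refine Trip.exists_down (T.pX X) (T.qX X) (fun h => T.D (h : H)) (T.pX_surj X) (T.qX_surj X)
    (T.irr_up hθ hX) (T.irr_ker hθ hX) hχ ?_
  rw [← classInner_comp_equiv (T.kerEquiv hX)]
  convert hne using 2
  · funext l
    congr 1
    apply Subtype.ext
    change T.p (T.ι l) = l
    exact T.p_ι l
  · funext l
    exact T.D_ι l

theorem exists_up [Finite H] (hθ : IsIrrCharacter L θ) {X : Subgroup A} (hX : L ≤ X)
    [Fintype L] {β : T.bar X → ℂ} (hβ : IsIrrCharacter (T.bar X) β)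
    (hk : ∀ z : T.p.ker, ∀ y : T.bar X, (y : H ⧸ T.I) = ((z : H) : H ⧸ T.I) →
      β y = ((T.μ z : ℂˣ) : ℂ)⁻¹ * β 1) :
    ∃ χ : X → ℂ, IsIrrCharacter X χ ∧ T.Rel X χ β ∧
      classInner (fun l : L => χ ⟨l, hX l.2⟩) θ ≠ 0 := by
  obtain ⟨χ, hχ, h1⟩ := Trip.exists_up (T.pX X) (T.qX X) (fun h => T.D (h : H)) (T.pX_surj X)
    (T.qX_surj X) (T.irr_up hθ hX) (T.irr_ker hθ hX) hβ (by
      intro z hz
      have hz2 : T.p z = 1 := congrArg Subtype.val (MonoidHom.mem_ker.mp hz)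
      have h2 := hk ⟨z, hz2⟩ (T.qX X z) rfl
      have h3 := T.D_mul ⟨z, hz2⟩ 1
      rw [mul_one] at h3
      simp only at h3
      change β _ * T.D z = _ * T.D 1
      rw [h2, h3]
      have h4 := (T.μ ⟨z, hz2⟩).ne_zero
      field_simp)
  refine ⟨χ, hχ, h1, ?_⟩
  have h5 : (fun l : L => χ ⟨l, hX l.2⟩) = (β 1) • θ := by
    funext l
    have h6 := h1 ⟨T.ι l, T.ι_mem_up hX l⟩
    have h7 : T.pX X ⟨T.ι l, T.ι_mem_up hX l⟩ = ⟨l, hX l.2⟩ := Subtype.ext (T.p_ι l)
    have h8 : T.qX X ⟨T.ι l, T.ι_mem_up hX l⟩ = 1 :=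
      MonoidHom.mem_ker.mp (T.ker_qX.mpr (T.ι_mem l))
    rw [h7, h8] at h6
    rw [h6]
    change β 1 * T.D (T.ι l) = β 1 * θ l
    rw [T.D_ι]
  have := Fintype.ofFinite (T.bar X)
  rw [h5, classInner_smul_left, classInner_self_of_irr hθ, mul_one]
  exact irr_one_ne_zero hβ

/-- The central behaviour of the corresponding character. -/
theorem rel_central [Finite H] (hθ : IsIrrCharacter L θ) {X : Subgroup A} (hX : L ≤ X)
    {χ : X → ℂ} {β : T.bar X → ℂ} (h : T.Rel X χ β) (z : T.p.ker) (y y' : T.bar X)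
    (hy : (y' : H ⧸ T.I) = ((z : H) : H ⧸ T.I) * y) :
    β y' = ((T.μ z : ℂˣ) : ℂ)⁻¹ * β y := by
  obtain ⟨x, rfl⟩ := T.qX_surj X y
  obtain ⟨k, hk, hne⟩ := exists_ne_zero (T.qX X) (fun h => T.D (h : H)) (T.irr_up hθ hX)
    (T.irr_ker hθ hX) x
  have hzX : (z : H) ∈ T.up X := by
    rw [mem_up, MonoidHom.mem_ker.mp z.2]
    exact one_mem _
  have e1 := h (k * x)
  have e2 := h (⟨z, hzX⟩ * (k * x))
  have e3 : T.pX X (⟨z, hzX⟩ * (k * x)) = T.pX X (k * x) := by
    apply Subtype.ext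
    rw [pX_coe, pX_coe, Subgroup.coe_mul, map_mul, MonoidHom.mem_ker.mp z.2, one_mul]
  have e4 : T.qX X (k * x) = T.qX X x := by
    rw [map_mul, MonoidHom.mem_ker.mp hk, one_mul]
  have e5 : T.qX X (⟨z, hzX⟩ * (k * x)) = y' := by
    rw [map_mul, e4]
    apply Subtype.ext
    rw [hy]
    rfl
  rw [e3, e1, e4, e5] at e2
  have e6 := T.D_mul z ((k * x : T.up X) : H)
  have e7 : T.D (((⟨z, hzX⟩ * (k * x) : T.up X)) : H) = ((T.μ z : ℂˣ) : ℂ) *
      T.D ((k * x : T.up X) : H) := e6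
  rw [e7, ← mul_assoc] at e2
  have e8 := mul_right_cancel₀ hne e2
  rw [e8]
  have h4 := (T.μ z).ne_zero
  field_simp

end Lin

end Cfsg.Agent.H76.Trip
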