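import Cfsg.Agent.Char.ExtThm
import Cfsg.Agent.H76.OddSecA

/-!
# Twisted operators and the commutator scalars of an invariant character
-/

set_option autoImplicit false
set_option linter.unusedSectionVars false
set_option linter.unusedFintypeInType false

namespace Cfsg.Agent.H76.Twc

open scoped ComplexConjugate
open Cfsg Cfsg.Agent.CharBase Cfsg.Agent.Char

universe u v w

variable {B : Type u} [Group B] {K : Type v} [Group K] (j : K →* B)

/-- `X` implements conjugation by `x` -/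
def Tw {n : ℕ} (ρ : Representation ℂ K (Fin n → ℂ)) (x : B)
    (X : (Module.End ℂ (Fin n → ℂ))ˣ) : Prop :=
  ∀ k k' : K, j k' = x * j k * x⁻¹ → (X : Module.End ℂ (Fin n → ℂ)) * ρ k = ρ k' * X

/-- `x` normalises the image of `j` -/
def Nz (x : B) : Prop := (∀ k, ∃ k', j k' = x * j k * x⁻¹) ∧ ∀ k, ∃ k', j k' = x⁻¹ * j k * x

variable {j}

theorem Nz.mul {x y : B} (hx : Nz j x) (hy : Nz j y) : Nz j (x * y) := by
  constructor
  · intro k
    obtain ⟨k1, h1⟩ := hy.1 k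
    obtain ⟨k2, h2⟩ := hx.1 k1
    exact ⟨k2, by rw [h2, h1]; group⟩
  · intro k
    obtain ⟨k1, h1⟩ := hx.2 k
    obtain ⟨k2, h2⟩ := hy.2 k1
    exact ⟨k2, by rw [h2, h1]; group⟩

theorem Nz.inv {x : B} (hx : Nz j x) : Nz j x⁻¹ := by
  refine ⟨fun k => ?_, fun k => ?_⟩
  · obtain ⟨k', h⟩ := hx.2 k
    exact ⟨k', by rw [h, inv_inv]⟩
  · obtain ⟨k', h⟩ := hx.1 k
    exact ⟨k', by rw [h, inv_inv]⟩

theorem Nz.one : Nz j (1 : B) := ⟨fun k => ⟨k, by simp⟩, fun k => ⟨k, by simp⟩⟩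

theorem Nz.coe (k : K) : Nz j (j k) :=
  ⟨fun l => ⟨k * l * k⁻¹, by simp⟩, fun l => ⟨k⁻¹ * l * k, by simp⟩⟩

section Ops

variable {n : ℕ} {ρ : Representation ℂ K (Fin n → ℂ)}

theorem Tw.mul {x y : B} {X Y : (Module.End ℂ (Fin n → ℂ))ˣ} (hX : Tw j ρ x X) (hY : Tw j ρ y Y)
    (hy : Nz j y) : Tw j ρ (x * y) (X * Y) := by
  intro k k' hk
  obtain ⟨k1, h1⟩ := hy.1 k
  have h2 : j k' = x * j k1 * x⁻¹ := by rw [hk, h1]; group
  rw [Units.val_mul, mul_assoc, hY k k1 h1, ← mul_assoc, hX k1 k' h2, mul_assoc]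

theorem Tw.inv {x : B} {X : (Module.End ℂ (Fin n → ℂ))ˣ} (hX : Tw j ρ x X) : Tw j ρ x⁻¹ X⁻¹ := by
  intro k k' hk
  have h1 : j k = x * j k' * x⁻¹ := by rw [hk]; group
  have h2 := hX k' k h1
  rw [Units.inv_mul_eq_iff_eq_mul, ← mul_assoc, h2, mul_assoc, Units.mul_inv, mul_one]

theorem Tw.one : Tw j ρ (1 : B) 1 ∨ ¬ Function.Injective j := by
  by_cases hj : Function.Injective j
  · left
    intro k k' hk
    have : k' = k := hj (by rw [hk]; simp)
    rw [this]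
    simp
  · right; exact hj

/-- the operators of the group itself -/
noncomputable def op (ρ : Representation ℂ K (Fin n → ℂ)) : K →* (Module.End ℂ (Fin n → ℂ))ˣ :=
  MonoidHom.toHomUnits ρ

theorem op_coe (k : K) : ((op ρ k : (Module.End ℂ (Fin n → ℂ))ˣ) : Module.End ℂ (Fin n → ℂ)) = ρ k :=
  rfl

theorem Tw.coe (hj : Function.Injective j) (k : K) : Tw j ρ (j k) (op ρ k) := by
  intro l l' hl
  have : l' = k * l * k⁻¹ := hj (by rw [hl]; simp)
  rw [this, op_coe, ← map_mul, ← map_mul]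
  congr 1
  group

theorem Tw.unique {x : B} {X X' : (Module.End ℂ (Fin n → ℂ))ˣ} (hρ : ρ.IsIrreducible)
    (hx : Nz j x) (hX : Tw j ρ x X) (hX' : Tw j ρ x X') :
    ∃ c : ℂ, c ≠ 0 ∧ (X' : Module.End ℂ (Fin n → ℂ)) = c • (X : Module.End ℂ (Fin n → ℂ)) := by
  have hnt := nontrivial_of_irreducible_rep ρ hρ
  obtain ⟨c, hc⟩ := exists_smul_one_of_commute ρ hρ
    ((X⁻¹ * X' : (Module.End ℂ (Fin n → ℂ))ˣ) : Module.End ℂ (Fin n → ℂ)) (by
      intro k
      obtain ⟨k', hk⟩ := hx.1 k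
      rw [Units.val_mul, mul_assoc, hX' k k' hk, ← mul_assoc, ← mul_assoc]
      congr 1
      rw [Units.inv_mul_eq_iff_eq_mul, ← mul_assoc, hX k k' hk, mul_assoc, Units.mul_inv, mul_one])
  refine ⟨c, ?_, ?_⟩
  · rintro rfl
    rw [zero_smul] at hc
    exact (X⁻¹ * X').ne_zero hc
  · rw [Units.val_mul, Units.inv_mul_eq_iff_eq_mul] at hc
    rw [hc, mul_smul_comm, mul_one]

theorem Tw.smul {x : B} {X X' : (Module.End ℂ (Fin n → ℂ))ˣ} (hX : Tw j ρ x X) {c : ℂ}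
    (h : (X' : Module.End ℂ (Fin n → ℂ)) = c • (X : Module.End ℂ (Fin n → ℂ))) : Tw j ρ x X' := by
  intro k k' hk
  rw [h, smul_mul_assoc, hX k k' hk, mul_smul_comm]

end Ops

/-- the commutator scalar of `x` and `y` is `t` -/
def CC (j : K →* B) (η : K → ℂ) (x y : B) (t : ℂ) : Prop :=
  ∃ (n : ℕ) (ρ : Representation ℂ K (Fin n → ℂ)) (X Y : (Module.End ℂ (Fin n → ℂ))ˣ) (k₀ : K),
    ρ.IsIrreducible ∧ ρ.character = η ∧ j k₀ = x * y * x⁻¹ * y⁻¹ ∧ Tw j ρ x X ∧ Tw j ρ y Y ∧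
      (X : Module.End ℂ (Fin n → ℂ)) * Y = t • (ρ k₀ * (Y * X))

theorem CC.congr {x y : B} {t : ℂ} {n : ℕ} {ρ : Representation ℂ K (Fin n → ℂ)}
    {X Y X' Y' : (Module.End ℂ (Fin n → ℂ))ˣ} {k₀ : K} (hρ : ρ.IsIrreducible)
    (hx : Nz j x) (hy : Nz j y) (hX : Tw j ρ x X) (hY : Tw j ρ y Y) (hX' : Tw j ρ x X')
    (hY' : Tw j ρ y Y')
    (h : (X : Module.End ℂ (Fin n → ℂ)) * Y = t • (ρ k₀ * (Y * X))) :
    (X' : Module.End ℂ (Fin n → ℂ)) * Y' = t • (ρ k₀ * (Y' * X')) := by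
  obtain ⟨c, hc0, hc⟩ := Tw.unique hρ hx hX hX'
  obtain ⟨d, hd0, hd⟩ := Tw.unique hρ hy hY hY'
  rw [hc, hd, smul_mul_smul_comm, h, smul_mul_smul_comm, mul_smul_comm, smul_smul, smul_smul]
  congr 1
  ring

theorem conj_rep [Finite K] {n : ℕ} {ρ σ : Representation ℂ K (Fin n → ℂ)} (hρ : ρ.IsIrreducible)
    (hσ : σ.IsIrreducible) (h : ρ.character = σ.character) :
    ∃ U : (Module.End ℂ (Fin n → ℂ))ˣ, ∀ k, (U : Module.End ℂ (Fin n → ℂ)) * ρ k = σ k * U := by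
  obtain ⟨e⟩ := equiv_of_irreducible_of_character_eq ρ σ hρ hσ h
  exact ⟨LinearMap.GeneralLinearGroup.ofLinearEquiv e.toLinearEquiv, fun k =>
    e.toIntertwiningMap.isIntertwining' k⟩

/-- transport of an equation along an equivalence of representations -/
theorem CC.forall' [Finite K] (hj : Function.Injective j) {η : K → ℂ} {x y : B} {t : ℂ}
    (hx : Nz j x) (hy : Nz j y) (h : CC j η x y t) {n : ℕ} {ρ : Representation ℂ K (Fin n → ℂ)}
    (hρ : ρ.IsIrreducible) (hη : ρ.character = η) {X Y : (Module.End ℂ (Fin n → ℂ))ˣ} {k₀ : K}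
    (hk₀ : j k₀ = x * y * x⁻¹ * y⁻¹) (hX : Tw j ρ x X) (hY : Tw j ρ y Y) :
    (X : Module.End ℂ (Fin n → ℂ)) * Y = t • (ρ k₀ * (Y * X)) := by
  obtain ⟨m, σ, X', Y', k₁, hσ, hση, hk₁, hX', hY', hXY⟩ := h
  have hk : k₁ = k₀ := hj (by rw [hk₁, hk₀])
  subst hk
  have hmn : m = n := by
    have h1 := congrFun hση 1
    rw [← hη, Representation.char_one, Representation.char_one, Module.finrank_fin_fun,
      Module.finrank_fin_fun] at h1
    exact_mod_cast h1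
  subst hmn
  obtain ⟨U, hU⟩ := conj_rep hσ hρ (by rw [hση, hη])
  have hconj : ∀ (x : B) (X : (Module.End ℂ (Fin m → ℂ))ˣ), Tw j σ x X →
      Tw j ρ x (U * X * U⁻¹) := by
    intro x X hX k k' hk
    have e1 : ((U⁻¹ : (Module.End ℂ (Fin m → ℂ))ˣ) : Module.End ℂ (Fin m → ℂ)) * ρ k =
        σ k * (U⁻¹ : (Module.End ℂ (Fin m → ℂ))ˣ) := by
      rw [Units.inv_mul_eq_iff_eq_mul, ← mul_assoc, hU, mul_assoc, Units.mul_inv, mul_one]
    rw [Units.val_mul, Units.val_mul, mul_assoc, e1, ← mul_assoc, mul_assoc (U : Module.End ℂ (Fin m → ℂ)),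
      hX k k' hk, ← mul_assoc, hU, mul_assoc, mul_assoc, mul_assoc]
  refine CC.congr hρ hx hy (hconj x X' hX') (hconj y Y' hY') hX hY ?_
  have e2 : (U : Module.End ℂ (Fin m → ℂ)) * (X' * Y') * (U⁻¹ : (Module.End ℂ (Fin m → ℂ))ˣ) =
      t • (ρ k₁ * (U * (Y' * X') * (U⁻¹ : (Module.End ℂ (Fin m → ℂ))ˣ))) := by
    rw [hXY, mul_smul_comm, smul_mul_assoc, ← mul_assoc (U : Module.End ℂ (Fin m → ℂ)), hU]
    simp only [mul_assoc]
  have e3 : ∀ A C : (Module.End ℂ (Fin m → ℂ))ˣ,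
      ((U * A * U⁻¹ : (Module.End ℂ (Fin m → ℂ))ˣ) : Module.End ℂ (Fin m → ℂ)) *
      ((U * C * U⁻¹ : (Module.End ℂ (Fin m → ℂ))ˣ) : Module.End ℂ (Fin m → ℂ)) =
      (U : Module.End ℂ (Fin m → ℂ)) * (A * C) * (U⁻¹ : (Module.End ℂ (Fin m → ℂ))ˣ) := by
    intro A C
    rw [← Units.val_mul, ← Units.val_mul, ← Units.val_mul, ← Units.val_mul]
    congr 1
    group
  rw [e3, e3, e2]

theorem CC.unique [Finite K] (hj : Function.Injective j) {η : K → ℂ} {x y : B} {t t' : ℂ}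
    (hx : Nz j x) (hy : Nz j y) (h : CC j η x y t) (h' : CC j η x y t') : t = t' := by
  obtain ⟨m, σ, X', Y', k₁, hσ, hση, hk₁, hX', hY', hXY⟩ := id h
  have h1 := CC.forall' hj hx hy h' hσ hση hk₁ hX' hY'
  rw [hXY] at h1
  have hnt := nontrivial_of_irreducible_rep σ hσ
  have h2 : (σ k₁ * (Y' * X') : Module.End ℂ (Fin m → ℂ)) ≠ 0 := by
    have : (σ k₁ * (Y' * X') : Module.End ℂ (Fin m → ℂ)) =
        ((op σ k₁ * (Y' * X') : (Module.End ℂ (Fin m → ℂ))ˣ) : Module.End ℂ (Fin m → ℂ)) := rfl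
    rw [this]
    exact Units.ne_zero _
  exact smul_left_injective ℂ h2 h1

/-- invariance of a function under conjugation by `x` -/
def Fx (j : K →* B) (η : K → ℂ) (x : B) : Prop := ∀ k k' : K, j k' = x * j k * x⁻¹ → η k' = η k

theorem exists_tw [Finite K] (hj : Function.Injective j) {n : ℕ} {ρ : Representation ℂ K (Fin n → ℂ)}
    (hρ : ρ.IsIrreducible) {x : B} (hx : Nz j x) (hinv : Fx j ρ.character x) :
    ∃ X : (Module.End ℂ (Fin n → ℂ))ˣ, Tw j ρ x X := by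
  choose a ha using hx.1
  have ha_mul : ∀ k l, a (k * l) = a k * a l := fun k l => hj (by
    rw [ha, map_mul, map_mul, ha, ha]; group)
  have ha_one : a 1 = 1 := hj (by rw [ha, map_one]; simp)
  have ha_inj : Function.Injective a := by
    intro k l hkl
    apply hj
    have h1 := ha k
    rw [hkl, ha l] at h1
    have h2 := mul_left_cancel (mul_right_cancel h1)
    exact h2.symm
  let f : K →* K := { toFun := a, map_one' := ha_one, map_mul' := ha_mul }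
  have hf : Function.Surjective f := (Finite.injective_iff_surjective.mp ha_inj)
  have h1 : IsIrrCharacter K (fun k => ρ.character (f k)) :=
    isIrrCharacter_comp_surjective (χ := ρ.character) ⟨n, ρ, hρ, rfl⟩ f hf
  let σ : Representation ℂ K (Fin n → ℂ) := MonoidHom.comp ρ f
  have hσ : σ.IsIrreducible := isIrreducible_of_character σ h1
  obtain ⟨U, hU⟩ := conj_rep hρ hσ (by
    funext k
    exact (hinv k (a k) (ha k)).symm)
  refine ⟨U, fun k k' hk => ?_⟩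
  have : k' = f k := hj (by rw [hk]; exact (ha k).symm)
  rw [this]
  exact hU k

theorem CC.exists' [Finite K] (hj : Function.Injective j) {η : K → ℂ} (hη : IsIrrCharacter K η)
    {x y : B} (hx : Nz j x) (hy : Nz j y) (hxη : Fx j η x) (hyη : Fx j η y) {k₀ : K}
    (hk₀ : j k₀ = x * y * x⁻¹ * y⁻¹) : ∃ t : ℂ, t ≠ 0 ∧ CC j η x y t := by
  obtain ⟨n, ρ, hρ, rfl⟩ := hη
  obtain ⟨X, hX⟩ := exists_tw hj hρ hx hxη
  obtain ⟨Y, hY⟩ := exists_tw hj hρ hy hyη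
  have h1 : Tw j ρ (j k₀) (X * Y * X⁻¹ * Y⁻¹) := by
    rw [hk₀]
    exact (((hX.mul hY hy).mul hX.inv hx.inv).mul hY.inv hy.inv)
  obtain ⟨c, hc0, hc⟩ := Tw.unique hρ (Nz.coe k₀) (Tw.coe hj k₀) h1
  refine ⟨c, hc0, n, ρ, X, Y, k₀, hρ, rfl, hk₀, hX, hY, ?_⟩
  rw [op_coe] at hc
  have h2 : (X : Module.End ℂ (Fin n → ℂ)) * Y =
      ((X * Y * X⁻¹ * Y⁻¹ : (Module.End ℂ (Fin n → ℂ))ˣ) : Module.End ℂ (Fin n → ℂ)) * (Y * X) := by
    rw [← Units.val_mul, ← Units.val_mul, ← Units.val_mul]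
    congr 1
    group
  rw [h2, hc, smul_mul_assoc]

theorem CC.ne_zero {η : K → ℂ} {x y : B} {t : ℂ} (h : CC j η x y t) : t ≠ 0 := by
  obtain ⟨m, σ, X, Y, k₁, hσ, hση, hk₁, hX, hY, hXY⟩ := h
  rintro rfl
  have hnt := nontrivial_of_irreducible_rep σ hσ
  rw [zero_smul, ← Units.val_mul] at hXY
  exact (X * Y).ne_zero hXY

theorem CC.symm {η : K → ℂ} {x y : B} {t : ℂ} (h : CC j η x y t) : CC j η y x t⁻¹ := by
  have ht := h.ne_zero
  obtain ⟨m, σ, X, Y, k₁, hσ, hση, hk₁, hX, hY, hXY⟩ := h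
  refine ⟨m, σ, Y, X, k₁⁻¹, hσ, hση, ?_, hY, hX, ?_⟩
  · rw [map_inv, hk₁]
    group
  · rw [hXY, mul_smul_comm, smul_smul, inv_mul_cancel₀ ht, one_smul, ← mul_assoc, ← map_mul,
      inv_mul_cancel, map_one, one_mul]

theorem CC.self_one [Finite K] (hj : Function.Injective j) {η : K → ℂ} (hη : IsIrrCharacter K η)
    {x : B} (hx : Nz j x) (hxη : Fx j η x) : CC j η x x 1 := by
  obtain ⟨n, ρ, hρ, rfl⟩ := hη
  obtain ⟨X, hX⟩ := exists_tw hj hρ hx hxη
  exact ⟨n, ρ, X, X, 1, hρ, rfl, by rw [map_one]; group, hX, hX, by rw [one_smul, map_one, one_mul]⟩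

theorem CC.mul_right [Finite K] (hj : Function.Injective j) {η : K → ℂ} {x y z : B} {t s : ℂ}
    (hx : Nz j x) (hy : Nz j y) (hz : Nz j z) (hzη : Fx j η z)
    (h : CC j η x y t) (h' : CC j η x z s) : CC j η x (y * z) (t * s) := by
  obtain ⟨n, ρ, X, Y, k, hρ, hη, hk, hX, hY, hXY⟩ := h
  obtain ⟨Z, hZ⟩ := exists_tw hj hρ hz (by rw [hη]; exact hzη)
  obtain ⟨l, hl⟩ : ∃ l, j l = x * z * x⁻¹ * z⁻¹ := by
    obtain ⟨-, -, -, -, l, -, -, hl, -⟩ := h'
    exact ⟨l, hl⟩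
  have hXZ := CC.forall' hj hx hz h' hρ hη hl hX hZ
  obtain ⟨l', hl'⟩ := hy.1 l
  refine ⟨n, ρ, X, Y * Z, k * l', hρ, hη, ?_, hX, hY.mul hZ hz, ?_⟩
  · rw [map_mul, hk, hl', hl]
    group
  · rw [Units.val_mul, ← mul_assoc, hXY, smul_mul_assoc, mul_assoc, mul_assoc, hXZ, mul_smul_comm,
      mul_smul_comm, smul_smul, ← mul_assoc (Y : Module.End ℂ (Fin n → ℂ)), hY l l' hl', map_mul]
    simp only [mul_assoc]

theorem Fx.mul {η : K → ℂ} {x y : B} (hy : Nz j y) (h : Fx j η x) (h' : Fx j η y) :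
    Fx j η (x * y) := by
  intro k k' hk
  obtain ⟨k1, h1⟩ := hy.1 k
  rw [h k1 k' (by rw [hk, h1]; group), h' k k1 h1]

theorem Fx.inv {η : K → ℂ} {x : B} (h : Fx j η x) : Fx j η x⁻¹ := by
  intro k k' hk
  exact (h k' k (by rw [hk]; group)).symm

theorem Fx.coe (hj : Function.Injective j) {η : K → ℂ} (hη : IsClassFunction K η) (k : K) :
    Fx j η (j k) := by
  intro l l' hl
  have : l' = k * l * k⁻¹ := hj (by rw [hl]; simp)
  rw [this]
  exact hη l k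

/-- trivial commutator scalar with the elements of `K` -/
theorem CC.coe_left (hj : Function.Injective j) {η : K → ℂ} (hη : IsIrrCharacter K η) [Finite K]
    (k : K) {y : B} (hy : Nz j y) (hyη : Fx j η y) : CC j η (j k) y 1 := by
  obtain ⟨n, ρ, hρ, rfl⟩ := hη
  obtain ⟨Y, hY⟩ := exists_tw hj hρ hy hyη
  obtain ⟨l, hl⟩ := hy.1 k⁻¹
  refine ⟨n, ρ, op ρ k, Y, k * l, hρ, rfl, ?_, Tw.coe hj k, hY, ?_⟩
  · rw [map_mul, hl, map_inv]
    group
  · rw [op_coe, one_smul, map_mul]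
    have h1 := hY k⁻¹ l hl
    rw [mul_assoc (ρ k), ← mul_assoc (ρ l), ← h1, mul_assoc, ← map_mul, inv_mul_cancel, map_one,
      mul_one]

/-- restriction of the commutator scalar -/
theorem CC.restrict {K' : Type w} [Group K'] (i : K' →* K) {η : K → ℂ}
    (hi : IsIrrCharacter K' (fun k => η (i k))) [Finite K'] {x y : B} {t : ℂ}
    (hj : Function.Injective j) {k₀ : K'} (hk₀ : j (i k₀) = x * y * x⁻¹ * y⁻¹)
    (h : CC j η x y t) : CC (j.comp i) (fun k => η (i k)) x y t := by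
  obtain ⟨n, ρ, X, Y, k, hρ, hη, hk, hX, hY, hXY⟩ := h
  have h1 : k = i k₀ := hj (by rw [hk, hk₀])
  subst h1
  let σ : Representation ℂ K' (Fin n → ℂ) := MonoidHom.comp ρ i
  refine ⟨n, σ, X, Y, k₀, ?_, ?_, hk₀, ?_, ?_, hXY⟩
  · apply isIrreducible_of_character
    rw [← hη] at hi
    exact hi
  · rw [← hη]
    rfl
  · intro l l' hl
    exact hX (i l) (i l') hl
  · intro l l' hl
    exact hY (i l) (i l') hl

/-- transport of the commutator scalar -/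
theorem CC.map_iff {B' : Type w} [Group B'] (f : B →* B') (hf : Function.Injective (f.comp j))
    {η : K → ℂ} {x y : B} {t : ℂ} (hx : Nz j x) (hy : Nz j y) {k₀ : K}
    (hk₀ : j k₀ = x * y * x⁻¹ * y⁻¹) :
    CC j η x y t ↔ CC (f.comp j) η (f x) (f y) t := by
  have key : ∀ z : B, Nz j z → ∀ k k' : K, j k' = z * j k * z⁻¹ ↔
      (f.comp j) k' = f z * (f.comp j) k * (f z)⁻¹ := by
    intro z hz k k'
    constructor
    · intro h
      change f (j k') = _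
      rw [h, map_mul, map_mul, map_inv]
      rfl
    · intro h
      obtain ⟨k1, h1⟩ := hz.1 k
      have h2 : (f.comp j) k1 = (f.comp j) k' := by
        rw [h]
        change f (j k1) = f z * f (j k) * (f z)⁻¹
        rw [h1, map_mul, map_mul, map_inv]
      rw [← hf h2, h1]
  have hc : (f.comp j) k₀ = f x * f y * (f x)⁻¹ * (f y)⁻¹ := by
    change f (j k₀) = _
    rw [hk₀]
    simp only [map_mul, map_inv]
  constructor
  · rintro ⟨n, ρ, X, Y, k, hρ, hη, hk, hX, hY, hXY⟩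
    refine ⟨n, ρ, X, Y, k, hρ, hη, ?_, ?_, ?_, hXY⟩
    · change f (j k) = _
      rw [hk]
      simp only [map_mul, map_inv]
    · intro l l' hl
      exact hX l l' ((key x hx l l').mpr hl)
    · intro l l' hl
      exact hY l l' ((key y hy l l').mpr hl)
  · rintro ⟨n, ρ, X, Y, k, hρ, hη, hk, hX, hY, hXY⟩
    have h1 : k = k₀ := hf (by rw [hk, hc])
    subst h1
    refine ⟨n, ρ, X, Y, k, hρ, hη, hk₀, ?_, ?_, hXY⟩
    · intro l l' hl
      exact hX l l' ((key x hx l l').mp hl)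
    · intro l l' hl
      exact hY l l' ((key y hy l l').mp hl)

end Cfsg.Agent.H76.Twc
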