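import Cfsg.Agent.H76.Twc
import Cfsg.Agent.Glaub.PGroup
import Cfsg.Agent.Glaub.Inside

/-!
# Commutator scalars and the Glauberman correspondence
-/

set_option autoImplicit false
set_option linter.unusedSectionVars false
set_option linter.unusedFintypeInType false

namespace Cfsg.Agent.H76.Twc

open scoped ComplexConjugate
open Cfsg Cfsg.Agent.CharBase Cfsg.Agent.Char

universe u v w

variable {B : Type u} [Group B] {K : Type v} [Group K] {j : K →* B}

/-- Values of an extension and the commutator scalar. -/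
theorem CC.ext_apply [Finite K] (hj : Function.Injective j) {η : K → ℂ} (hη : IsIrrCharacter K η)
    {x y : B} {t : ℂ} (hx : Nz j x) (hy : Nz j y) (hyη : Fx j η y) (h : CC j η x y t)
    (W : Subgroup B) [Finite W] (hKW : ∀ k, j k ∈ W) (hxW : x ∈ W) {E : W → ℂ}
    (hE : IsIrrCharacter W E)
    (hEη : ∀ k, E ⟨j k, hKW k⟩ = η k) (k : K) (w w' : W) (hw : (w : B) = j k * x)
    (hw' : (w' : B) = y * (j k * x) * y⁻¹) : E w' = t * E w := by
  obtain ⟨n, R, hR, rfl⟩ := hE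
  let jW : K →* W :=
    { toFun := fun k => ⟨j k, hKW k⟩
      map_one' := Subtype.ext (map_one j)
      map_mul' := fun a b => Subtype.ext (map_mul j a b) }
  let ρ : Representation ℂ K (Fin n → ℂ) := MonoidHom.comp R jW
  have hρη : ρ.character = η := by
    funext k
    exact hEη k
  have hρ : ρ.IsIrreducible := isIrreducible_of_character ρ (by rw [hρη]; exact hη)
  let X := op R ⟨x, hxW⟩
  have hXc : (X : Module.End ℂ (Fin n → ℂ)) = R ⟨x, hxW⟩ := rfl
  have hX : Tw j ρ x X := by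
    intro l l' hl
    rw [hXc]
    change R _ * R _ = R _ * R _
    rw [← map_mul, ← map_mul]
    congr 1
    apply Subtype.ext
    change x * j l = j l' * x
    rw [hl]
    group
  obtain ⟨Y, hY⟩ := exists_tw hj hρ hy (by rw [hρη]; exact hyη)
  obtain ⟨k₀, hk₀⟩ : ∃ k₀, j k₀ = x * y * x⁻¹ * y⁻¹ := by
    obtain ⟨-, -, -, -, k₀, -, -, hk₀, -⟩ := h
    exact ⟨k₀, hk₀⟩
  have hXY := CC.forall' hj hx hy h hρ hρη hk₀ hX hY
  obtain ⟨k', hk'⟩ := hy.1 k
  have hw2 : w' = jW k' * jW k₀⁻¹ * ⟨x, hxW⟩ := by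
    apply Subtype.ext
    change (w' : B) = j k' * j k₀⁻¹ * x
    rw [hw', hk', map_inv, hk₀]
    group
  have hw3 : w = jW k * ⟨x, hxW⟩ := Subtype.ext hw
  have e1 : (ρ k₀⁻¹ : Module.End ℂ (Fin n → ℂ)) * X =
      t • ((Y : Module.End ℂ (Fin n → ℂ)) * X * (Y⁻¹ : (Module.End ℂ (Fin n → ℂ))ˣ)) := by
    have h1 : (ρ k₀⁻¹ : Module.End ℂ (Fin n → ℂ)) * (X * Y) = t • (Y * X) := by
      rw [hXY, mul_smul_comm, ← mul_assoc, ← map_mul, inv_mul_cancel, map_one, one_mul]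
    have h2 : (ρ k₀⁻¹ : Module.End ℂ (Fin n → ℂ)) * X =
        (ρ k₀⁻¹ * (X * Y)) * (Y⁻¹ : (Module.End ℂ (Fin n → ℂ))ˣ) := by
      rw [mul_assoc, mul_assoc (X : Module.End ℂ (Fin n → ℂ)), Units.mul_inv, mul_one]
    rw [h2, h1, smul_mul_assoc]
  have e2 : R w' = (ρ k' : Module.End ℂ (Fin n → ℂ)) * (ρ k₀⁻¹ * X) := by
    rw [hw2, map_mul, map_mul, mul_assoc]
    rfl
  have e3 : R w = (ρ k : Module.End ℂ (Fin n → ℂ)) * X := by
    rw [hw3, map_mul]
    rfl
  change LinearMap.trace ℂ _ (R w') = t * LinearMap.trace ℂ _ (R w)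
  rw [e2, e3, e1, mul_smul_comm, map_smul, smul_eq_mul]
  congr 1
  rw [← mul_assoc, ← mul_assoc, ← hY k k' hk', mul_assoc (Y : Module.End ℂ (Fin n → ℂ)),
    LinearMap.trace_mul_comm, ← mul_assoc, Units.inv_mul, one_mul]

theorem restrict_of_cyclic {G : Type u} [Group G] [Finite G] (M : Subgroup G) [hMn : M.Normal]
    [Fintype M] (hcyc : IsCyclic (G ⧸ M)) {φ : M → ℂ} (hφ : IsIrrCharacter M φ)
    (hφG : ∀ g, cj M g φ = φ) {χ : G → ℂ}
    (hχ : IsIrrCharacter G χ) (h : classInner (fun m : M => χ m) φ ≠ 0) (m : M) :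
    χ m = φ m := by
  classical
  have := Fintype.ofFinite G
  obtain ⟨E, hE, hEφ⟩ := exists_extension_of_cyclic M hcyc hφ hφG
  obtain ⟨β, hβk, hβ⟩ := exists_gallagher M hφ hE hEφ hχ h
  have hβ1 : (β : G → ℂ) 1 = 1 := by
    obtain ⟨β', hβ', h1⟩ := H75.exists_deflate_irr M β.2 hβk
    have h2 := H75.irr_one_of_comm (G := G ⧸ M) (fun a b => by
      obtain ⟨c, hc⟩ := hcyc.exists_generator
      obtain ⟨i, rfl⟩ := hc a
      obtain ⟨j, rfl⟩ := hc b
      simp only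
      rw [← zpow_add, ← zpow_add, add_comm]) ⟨β', hβ'⟩
    rw [← h1]
    exact h2
  rw [hβ, Pi.mul_apply, hβk m m.2, hβ1, one_mul, hEφ]

theorem exists_ne_zero_coset {G : Type u} [Group G] [Finite G] (M : Subgroup G) [hMn : M.Normal]
    {χ : G → ℂ} (hχ : IsIrrCharacter G χ) (hres : IsIrrCharacter M (fun m : M => χ m)) (g : G) :
    ∃ m ∈ M, χ (m * g) ≠ 0 := by
  classical
  have := Fintype.ofFinite G
  have := Fintype.ofFinite M
  by_contra hcon
  push Not at hcon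
  have e1 := avgN_mul_conj_of_restrict_irr M hχ hres
  have e2 := congrFun e1 g
  rw [avgN_apply] at e2
  have e3 : ∀ n : M, (χ * fun g => conj (χ g)) ((n : G) * g) = 0 := by
    intro n
    change χ (n * g) * _ = 0
    rw [hcon n n.2, zero_mul]
  rw [Finset.sum_congr rfl (fun n _ => e3 n), Finset.sum_const_zero, mul_zero] at e2
  exact zero_ne_one e2

theorem Nz.zpow {x : B} (hx : Nz j x) (a : ℤ) : Nz j (x ^ a) := by
  rcases a with a | a
  · rw [Int.ofNat_eq_natCast, zpow_natCast]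
    induction a with
    | zero => rw [pow_zero]; exact Nz.one
    | succ n ih => rw [pow_succ]; exact ih.mul hx
  · rw [zpow_negSucc]
    apply Nz.inv
    induction a with
    | zero => rw [zero_add, pow_one]; exact hx
    | succ n ih => rw [pow_succ]; exact ih.mul hx

/-- The subgroup `j(K)⟨x⟩`. -/
def Wx (j : K →* B) (x : B) (hx : Nz j x) : Subgroup B where
  carrier := {w | ∃ (k : K) (a : ℤ), w = j k * x ^ a}
  one_mem' := ⟨1, 0, by simp⟩
  mul_mem' := by
    rintro _ _ ⟨k, a, rfl⟩ ⟨l, b, rfl⟩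
    obtain ⟨l', hl'⟩ := (hx.zpow a).1 l
    refine ⟨k * l', a + b, ?_⟩
    rw [map_mul, hl', zpow_add]
    group
  inv_mem' := by
    rintro _ ⟨k, a, rfl⟩
    obtain ⟨k', hk'⟩ := (hx.zpow (-a)).1 k⁻¹
    refine ⟨k', -a, ?_⟩
    rw [hk', map_inv]
    group

variable {x : B} {hx : Nz j x}

theorem mem_Wx {w : B} : w ∈ Wx j x hx ↔ ∃ (k : K) (a : ℤ), w = j k * x ^ a := Iff.rfl

theorem coe_mem_Wx (k : K) : j k ∈ Wx j x hx := ⟨k, 0, by simp⟩

theorem self_mem_Wx : x ∈ Wx j x hx := ⟨1, 1, by simp⟩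

theorem mul_self_mem_Wx (k : K) : j k * x ∈ Wx j x hx := ⟨k, 1, by simp⟩

/-- the image of `K` in `j(K)⟨x⟩` -/
def Mx (j : K →* B) (x : B) (hx : Nz j x) : Subgroup (Wx j x hx) := j.range.subgroupOf (Wx j x hx)

theorem Mx_normal : (Mx j x hx).Normal := by
  constructor
  rintro ⟨_, hm⟩ ⟨k, rfl⟩ ⟨_, l, a, rfl⟩
  obtain ⟨k', hk'⟩ := (hx.zpow a).1 k
  refine ⟨l * k' * l⁻¹, ?_⟩
  change j (l * k' * l⁻¹) = j l * x ^ a * j k * (j l * x ^ a)⁻¹
  rw [map_mul, map_mul, map_inv, hk']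
  group

theorem Mx_cyclic [(Mx j x hx).Normal] : IsCyclic (Wx j x hx ⧸ Mx j x hx) := by
  refine ⟨⟨((⟨x, self_mem_Wx⟩ : Wx j x hx) : Wx j x hx ⧸ Mx j x hx), ?_⟩⟩
  intro w
  obtain ⟨⟨_, k, a, rfl⟩, rfl⟩ := QuotientGroup.mk_surjective w
  refine ⟨a, ?_⟩
  simp only
  rw [← QuotientGroup.mk_zpow]
  rw [QuotientGroup.eq]
  obtain ⟨k', hk'⟩ := (hx.zpow (-a)).1 k
  refine ⟨k', ?_⟩
  change j k' = (x ^ a)⁻¹ * (j k * x ^ a)
  rw [hk']
  group

/-- `K` and its image -/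
noncomputable def eMx (hj : Function.Injective j) : K ≃* Mx j x hx :=
  MulEquiv.ofBijective
    ({ toFun := fun k => ⟨⟨j k, coe_mem_Wx k⟩, ⟨k, rfl⟩⟩
       map_one' := Subtype.ext (Subtype.ext (map_one j))
       map_mul' := fun a b => Subtype.ext (Subtype.ext (map_mul j a b)) } : K →* Mx j x hx)
    ⟨fun a b hab => hj (congrArg (fun z : Mx j x hx => ((z : Wx j x hx) : B)) hab), by
      rintro ⟨⟨w, hm⟩, hw⟩
      obtain ⟨k, hk⟩ := hw
      exact ⟨k, Subtype.ext (Subtype.ext hk)⟩⟩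

theorem eMx_coe (hj : Function.Injective j) (k : K) :
    (((eMx hj k : Mx j x hx) : Wx j x hx) : B) = j k := rfl

theorem eMx_symm_coe (hj : Function.Injective j) (y : Mx j x hx) :
    j ((eMx hj).symm y) = ((y : Wx j x hx) : B) := by
  obtain ⟨k, rfl⟩ := (eMx hj).surjective y
  rw [MulEquiv.symm_apply_apply]
  rfl

theorem irr_symm (hj : Function.Injective j) {η : K → ℂ} (hη : IsIrrCharacter K η) :
    IsIrrCharacter (Mx j x hx) (fun m => η ((eMx hj).symm m)) :=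
  isIrrCharacter_comp_surjective hη (eMx (hx := hx) hj).symm.toMonoidHom
    (eMx (hx := hx) hj).symm.surjective

variable [Finite B]

theorem cj_Mx (hj : Function.Injective j) {η : K → ℂ} (hη : IsIrrCharacter K η) (hxη : Fx j η x)
    [(Mx j x hx).Normal] (w : Wx j x hx) :
    cj (Mx j x hx) w (fun m => η ((eMx hj).symm m)) = fun m => η ((eMx hj).symm m) := by
  funext m
  obtain ⟨k, rfl⟩ := (eMx hj).surjective m
  rw [cj_apply]
  simp only [MulEquiv.symm_apply_apply]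
  obtain ⟨_, l, a, rfl⟩ := w
  have hpow : ∀ a : ℤ, Fx j η (x ^ a) := by
    intro a
    rcases a with a | a
    · rw [Int.ofNat_eq_natCast, zpow_natCast]
      induction a with
      | zero => rw [pow_zero]; intro k k' hk; rw [hj (by rw [hk]; simp : j k' = j k)]
      | succ n ih => rw [pow_succ]; exact Fx.mul hx ih hxη
    · rw [zpow_negSucc]
      apply Fx.inv
      induction a with
      | zero => rw [zero_add, pow_one]; exact hxη
      | succ n ih => rw [pow_succ]; exact Fx.mul hx ih hxη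
  have h1 : Fx j η (j l * x ^ a) := Fx.mul (hx.zpow a)
    (Fx.coe hj (isClassFunction_of_isCharacter (isCharacter_of_isIrr hη)) l) (hpow a)
  apply h1
  rw [eMx_symm_coe]
  rfl

/-- Package: an extension exists. -/
theorem exists_ext_Wx [Finite K] (hj : Function.Injective j) {η : K → ℂ} (hη : IsIrrCharacter K η)
    (hxη : Fx j η x) : ∃ E : Wx j x hx → ℂ, IsIrrCharacter (Wx j x hx) E ∧
      ∀ k, E ⟨j k, coe_mem_Wx k⟩ = η k := by
  have := Mx_normal (j := j) (x := x) (hx := hx)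
  obtain ⟨E, hE, h⟩ := exists_extension_of_cyclic (Mx j x hx) Mx_cyclic
    (θ := fun m => η ((eMx hj).symm m))
    (irr_symm hj hη)
    (cj_Mx hj hη hxη)
  refine ⟨E, hE, fun k => ?_⟩
  have := h (eMx hj k)
  simp only [MulEquiv.symm_apply_apply] at this
  exact this

theorem restrict_Wx [Fintype K] (hj : Function.Injective j) {η : K → ℂ} (hη : IsIrrCharacter K η)
    (hxη : Fx j η x) {E : Wx j x hx → ℂ} (hE : IsIrrCharacter (Wx j x hx) E)
    (h : classInner (fun k => E ⟨j k, coe_mem_Wx k⟩) η ≠ 0) (k : K) :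
    E ⟨j k, coe_mem_Wx k⟩ = η k := by
  classical
  have := Mx_normal (j := j) (x := x) (hx := hx)
  have := Fintype.ofFinite (Mx j x hx)
  have h1 := restrict_of_cyclic (Mx j x hx) Mx_cyclic (φ := fun m => η ((eMx hj).symm m))
    (irr_symm hj hη)
    (cj_Mx hj hη hxη) hE (by
      rw [← classInner_comp_equiv (eMx hj)]
      simp only [MulEquiv.symm_apply_apply]
      exact h) (eMx hj k)
  simp only [MulEquiv.symm_apply_apply] at h1
  exact h1

theorem irr_Mx (hj : Function.Injective j) {η : K → ℂ} (hη : IsIrrCharacter K η)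
    {E : Wx j x hx → ℂ} (hEη : ∀ k, E ⟨j k, coe_mem_Wx k⟩ = η k) :
    IsIrrCharacter (Mx j x hx) (fun m => E m) := by
  have h1 : (fun m : Mx j x hx => E m) = fun m => η ((eMx hj).symm m) := by
    funext m
    obtain ⟨k, rfl⟩ := (eMx hj).surjective m
    rw [MulEquiv.symm_apply_apply, ← hEη]
    rfl
  rw [h1]
  exact irr_symm hj hη

theorem exists_ne_zero_Wx (hj : Function.Injective j) {η : K → ℂ} (hη : IsIrrCharacter K η)
    {E : Wx j x hx → ℂ} (hE : IsIrrCharacter (Wx j x hx) E)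
    (hEη : ∀ k, E ⟨j k, coe_mem_Wx k⟩ = η k) : ∃ k, E ⟨j k * x, mul_self_mem_Wx k⟩ ≠ 0 := by
  have := Mx_normal (j := j) (x := x) (hx := hx)
  obtain ⟨⟨_, hm⟩, ⟨k, rfl⟩, h⟩ := exists_ne_zero_coset (Mx j x hx) hE (irr_Mx hj hη hEη)
    ⟨x, self_mem_Wx⟩
  exact ⟨k, h⟩

/-- Two extensions differ by a linear character. -/
theorem exists_delta [Finite K] (hj : Function.Injective j) {η : K → ℂ} (hη : IsIrrCharacter K η)
    {E E' : Wx j x hx → ℂ} (hE : IsIrrCharacter (Wx j x hx) E)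
    (hEη : ∀ k, E ⟨j k, coe_mem_Wx k⟩ = η k) (hE' : IsIrrCharacter (Wx j x hx) E')
    (hEη' : ∀ k, E' ⟨j k, coe_mem_Wx k⟩ = η k) :
    ∃ δ : Wx j x hx → ℂ, IsIrrCharacter (Wx j x hx) δ ∧ δ 1 = 1 ∧
      (∀ a b, δ (a * b) = δ a * δ b) ∧
      (∀ k, δ ⟨j k, coe_mem_Wx k⟩ = 1) ∧ E' = δ * E := by
  classical
  have := Mx_normal (j := j) (x := x) (hx := hx)
  have := Fintype.ofFinite (Mx j x hx)
  have := Fintype.ofFinite K
  have := Fintype.ofFinite (Wx j x hx)
  obtain ⟨δ, hδk, hδ⟩ := exists_gallagher (Mx j x hx)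
    (θ := fun m => η ((eMx hj).symm m))
    (irr_symm hj hη) hE
    (by
      intro m
      obtain ⟨k, rfl⟩ := (eMx hj).surjective m
      rw [MulEquiv.symm_apply_apply, ← hEη]
      rfl) hE' (by
      rw [← classInner_comp_equiv (eMx hj)]
      simp only [MulEquiv.symm_apply_apply]
      have h1 : (fun k => E' ((eMx hj k : Mx j x hx) : Wx j x hx)) = η := funext hEη'
      rw [h1, classInner_self_of_irr hη]
      exact one_ne_zero)
  have hδ1 : (δ : Wx j x hx → ℂ) 1 = 1 := by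
    have h2 := congrFun hδ 1
    simp only [Pi.mul_apply] at h2
    have h3 : E' 1 = E 1 := by
      have e1 := hEη 1
      have e2 := hEη' 1
      have e3 : (⟨j 1, coe_mem_Wx 1⟩ : Wx j x hx) = 1 := Subtype.ext (map_one j)
      rw [e3] at e1 e2
      rw [e1, e2]
    have h4 := irr_one_ne_zero hE
    rw [h3] at h2
    exact mul_right_cancel₀ h4 (by rw [one_mul]; exact h2.symm)
  refine ⟨δ, δ.2, hδ1, fun a b => linChar_mul (isCharacter_of_isIrr δ.2) hδ1 a b, fun k => ?_, hδ⟩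
  rw [hδk _ ⟨k, rfl⟩, hδ1]

end Cfsg.Agent.H76.Twc
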