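import Cfsg.Agent.H76.Twc2

/-!
# Commutator scalars and the Glauberman correspondence: the basic step
-/

set_option autoImplicit false
set_option linter.unusedSectionVars false
set_option linter.unusedFintypeInType false

namespace Cfsg.Agent.H76.Twc

open scoped ComplexConjugate
open Cfsg Cfsg.Agent.CharBase Cfsg.Agent.Char

universe u v w

variable {B : Type u} [Group B] {K : Type v} [Group K] {j : K →* B}

theorem exists_autN (hj : Function.Injective j) {x : B} (hx : Nz j x) :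
    ∃ a : K ≃* K, ∀ k, j (a k) = x * j k * x⁻¹ := by
  choose a ha using hx.1
  choose b hb using hx.2
  refine ⟨{ toFun := a, invFun := b, left_inv := ?_, right_inv := ?_, map_mul' := ?_ }, ha⟩
  · intro k
    apply hj
    rw [hb, ha]
    group
  · intro k
    apply hj
    rw [ha, hb]
    group
  · intro k l
    apply hj
    rw [map_mul, ha, ha, ha, map_mul]
    group

/-- conjugation action of a subgroup on `K` -/
theorem exists_act (hj : Function.Injective j) (S : Subgroup B) (hS : ∀ s ∈ S, Nz j s) :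
    ∃ φ : S →* MulAut K, ∀ (s : S) k, j (φ s k) = s * j k * (s : B)⁻¹ := by
  choose a ha using fun s : S => exists_autN hj (hS s s.2)
  refine ⟨⟨⟨a, ?_⟩, ?_⟩, ha⟩
  · ext k
    apply hj
    rw [ha]
    simp
  · intro s t
    ext k
    apply hj
    rw [ha, MulAut.mul_apply, ha, ha, Subgroup.coe_mul]
    group

variable [Finite B] [Fintype K] {C : Type w} [Group C] [Fintype C] {i : C →* K} {p : ℕ}

/-- The data of a `p`-group acting by conjugation with fixed points `i(C)`. -/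
structure Fxd (p : ℕ) (j : K →* B) (i : C →* K) (S : Subgroup B) : Prop where
  prime : p.Prime
  inj : Function.Injective j
  inj' : Function.Injective i
  pg : IsPGroup p S
  nz : ∀ s ∈ S, Nz j s
  fix : ∀ k, (∀ s ∈ S, s * j k * s⁻¹ = j k) ↔ k ∈ i.range

theorem Fxd.isFix {S : Subgroup B} (h : Fxd p j i S) {φ : S →* MulAut K}
    (hφ : ∀ (s : S) k, j (φ s k) = s * j k * (s : B)⁻¹) : Glaub.IsFix φ i := by
  refine ⟨h.inj', fun k => ?_⟩
  rw [← h.fix]
  constructor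
  · intro h1 s hs
    rw [← hφ ⟨s, hs⟩, h1]
  · intro h1 s
    apply h.inj
    rw [hφ, h1 s s.2]

theorem Fxd.nz_comp {S : Subgroup B} (h : Fxd p j i S) {z : B} (hz : Nz j z)
    (hzS : ∀ s ∈ S, z⁻¹ * s * z ∈ S) (hzS' : ∀ s ∈ S, z * s * z⁻¹ ∈ S) : Nz (j.comp i) z := by
  constructor
  · intro c
    obtain ⟨k, hk⟩ := hz.1 (i c)
    have h1 : k ∈ i.range := by
      rw [← h.fix]
      intro s hs
      rw [hk]
      have h2 := (h.fix (i c)).mpr ⟨c, rfl⟩ _ (hzS s hs)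
      have h3 : s * (z * j (i c) * z⁻¹) * s⁻¹ =
          z * ((z⁻¹ * s * z) * j (i c) * (z⁻¹ * s * z)⁻¹) * z⁻¹ := by group
      rw [h3, h2]
    obtain ⟨c', rfl⟩ := h1
    exact ⟨c', hk⟩
  · intro c
    obtain ⟨k, hk⟩ := hz.2 (i c)
    have h1 : k ∈ i.range := by
      rw [← h.fix]
      intro s hs
      rw [hk]
      have h2 := (h.fix (i c)).mpr ⟨c, rfl⟩ _ (hzS' s hs)
      have h3 : s * (z⁻¹ * j (i c) * z) * s⁻¹ =
          z⁻¹ * ((z * s * z⁻¹) * j (i c) * (z * s * z⁻¹)⁻¹) * z := by group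
      rw [h3, h2]
    obtain ⟨c', rfl⟩ := h1
    exact ⟨c', hk⟩

/-- The Glauberman correspondent is invariant. -/
theorem Fxd.corr_inv {S : Subgroup B} (h : Fxd p j i S) (hpK : ¬ p ∣ Nat.card K) {η : K → ℂ}
    (hη : IsIrrCharacter K η) (hηS : ∀ s ∈ S, Fx j η s) {ζ : C → ℂ} (hζ : IsIrrCharacter C ζ)
    {m : ℕ} (hm : classInner (fun c => η (i c)) ζ = m) (hpm : ¬ p ∣ m) {z : B} (hz : Nz j z)
    (hzS : ∀ s ∈ S, z⁻¹ * s * z ∈ S) (hzS' : ∀ s ∈ S, z * s * z⁻¹ ∈ S) (hzη : Fx j η z) :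
    Fx (j.comp i) ζ z := by
  classical
  obtain ⟨φ, hφ⟩ := exists_act h.inj S h.nz
  have hinv : Glaub.Inv φ η := fun s k => hηS s s.2 k _ (hφ s k)
  obtain ⟨β, m', hm', hpm', -, hu⟩ := Glaub.existsUnique_below (h.isFix hφ) h.prime h.pg hpK
    ⟨η, hη⟩ hinv
  have hji : Function.Injective (j.comp i) := h.inj.comp h.inj'
  obtain ⟨a, ha⟩ := exists_autN hji (h.nz_comp hz hzS hzS')
  have h1 : IsIrrCharacter C (fun c => ζ (a c)) :=
    isIrrCharacter_comp_surjective hζ a.toMonoidHom a.surjective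
  have h2 : classInner (fun c => η (i c)) (fun c => ζ (a c)) = m := by
    rw [← hm, ← classInner_comp_equiv a (fun c => η (i c)) ζ]
    congr 1
    funext c
    exact (hzη (i c) (i (a c)) (ha c)).symm
  have e1 : (⟨ζ, hζ⟩ : IrrCharacter C) = β := by
    by_contra hne
    exact hpm (hu ⟨ζ, hζ⟩ m hm hne)
  have e2 : (⟨fun c => ζ (a c), h1⟩ : IrrCharacter C) = β := by
    by_contra hne
    exact hpm (hu ⟨fun c => ζ (a c), h1⟩ m h2 hne)
  have e3 : (fun c => ζ (a c)) = ζ := congrArg Subtype.val (e2.trans e1.symm)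
  intro c c' hc
  have h4 : c' = a c := hji (by rw [hc, ha])
  rw [h4]
  exact congrFun e3 c

theorem card_coprime_of_pgroup {S : Subgroup B} (hp : p.Prime) (hS : IsPGroup p S) {n : ℕ}
    (hn : ¬ p ∣ n) : (Nat.card S).Coprime n := by
  have := Fact.mk hp
  obtain ⟨a, ha⟩ := IsPGroup.iff_card.mp hS
  rw [ha]
  exact Nat.Coprime.pow_left a ((Nat.Prime.coprime_iff_not_dvd hp).mpr hn)

theorem nz_Wx {x y : B} (hx : Nz j x) (hy : Nz j y) {k₀ : K} (hk₀ : j k₀ = x * y * x⁻¹ * y⁻¹) :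
    Nz (Wx j x hx).subtype y := by
  constructor
  · rintro ⟨_, k, a, rfl⟩
    have h1 : y * x * y⁻¹ ∈ Wx j x hx := by
      have h2 : y * x * y⁻¹ = (j k₀)⁻¹ * x := by rw [hk₀]; group
      rw [h2]
      exact (Wx j x hx).mul_mem ((Wx j x hx).inv_mem (coe_mem_Wx _)) self_mem_Wx
    obtain ⟨k', hk'⟩ := hy.1 k
    have h2 : y * (j k * x ^ a) * y⁻¹ ∈ Wx j x hx := by
      have h3 : y * (j k * x ^ a) * y⁻¹ = (y * j k * y⁻¹) * (y * x * y⁻¹) ^ a := by
        rw [conj_zpow]; group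
      rw [h3, ← hk']
      exact (Wx j x hx).mul_mem (coe_mem_Wx _) ((Wx j x hx).zpow_mem h1 a)
    exact ⟨⟨_, h2⟩, rfl⟩
  · rintro ⟨_, k, a, rfl⟩
    have h1 : y⁻¹ * x * y⁻¹⁻¹ ∈ Wx j x hx := by
      obtain ⟨k₁, hk₁⟩ := hy.2 k₀
      have h2 : y⁻¹ * x * y⁻¹⁻¹ = (y⁻¹ * j k₀ * y) * x := by rw [hk₀]; group
      rw [h2, ← hk₁]
      exact (Wx j x hx).mul_mem (coe_mem_Wx _) self_mem_Wx
    obtain ⟨k', hk'⟩ := hy.2 k
    have h2 : y⁻¹ * (j k * x ^ a) * y ∈ Wx j x hx := by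
      have h3 : y⁻¹ * (j k * x ^ a) * y = (y⁻¹ * j k * y) * (y⁻¹ * x * y⁻¹⁻¹) ^ a := by
        rw [conj_zpow]; group
      rw [h3, ← hk']
      exact (Wx j x hx).mul_mem (coe_mem_Wx _) ((Wx j x hx).zpow_mem h1 a)
    exact ⟨⟨_, h2⟩, rfl⟩

/-- The action of a group of elements commuting with `x` on `K⟨x⟩`, and its fixed points. -/
theorem Fxd.isFix_Wx {S : Subgroup B} (h : Fxd p j i S) {x : B} (hx : Nz j x)
    (hx' : Nz (j.comp i) x) (hxS : ∀ s ∈ S, s * x = x * s)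
    (hnW : ∀ s ∈ S, ∀ w ∈ Wx j x hx, s * w * s⁻¹ ∈ Wx j x hx)
    (hVW : Wx (j.comp i) x hx' ≤ Wx j x hx) :
    Glaub.IsFix (Glaub.conjHom (Wx j x hx) S hnW) (Subgroup.inclusion hVW) := by
  have hφ : ∀ (s : S) (w : Wx j x hx),
      ((Glaub.conjHom (Wx j x hx) S hnW s w : Wx j x hx) : B) = s * w * (s : B)⁻¹ :=
    fun s w => rfl
  refine ⟨Subgroup.inclusion_injective hVW, ?_⟩
  rintro ⟨_, k, a, rfl⟩
  constructor
  · intro h1
    have h2 : k ∈ i.range := by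
      rw [← h.fix]
      intro s hs
      have h3 := congrArg Subtype.val (h1 ⟨s, hs⟩)
      rw [hφ] at h3
      simp only at h3
      have h4 : Commute s (x ^ a) := Commute.zpow_right (hxS s hs) a
      have h5 : s * (j k * x ^ a) * s⁻¹ = s * j k * s⁻¹ * (s * x ^ a * s⁻¹) := by group
      rw [h5, h4.eq, mul_inv_cancel_right] at h3
      exact mul_right_cancel h3
    obtain ⟨c, rfl⟩ := h2
    exact ⟨⟨j (i c) * x ^ a, c, a, rfl⟩, rfl⟩
  · rintro ⟨⟨_, c, b, rfl⟩, hc⟩ s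
    have h1 : j (i c) * x ^ b = j k * x ^ a := congrArg Subtype.val hc
    apply Subtype.ext
    rw [hφ]
    simp only
    rw [← h1]
    have h2 := (h.fix (i c)).mpr ⟨c, rfl⟩ s s.2
    have h4 : Commute (s : B) (x ^ b) := Commute.zpow_right (hxS s s.2) b
    have h5 : (s : B) * (j (i c) * x ^ b) * (s : B)⁻¹ =
        (s : B) * j (i c) * (s : B)⁻¹ * (s * x ^ b * (s : B)⁻¹) := by group
    rw [h5, h4.eq, mul_inv_cancel_right, h2]

/-- Extensions of invariant characters to `K⟨x⟩` are invariant. -/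
theorem Fxd.inv_ext {S : Subgroup B} (h : Fxd p j i S) {x : B} (hx : Nz j x)
    (hpW : ¬ p ∣ Nat.card (Wx j x hx)) {η : K → ℂ} (hη : IsIrrCharacter K η)
    (hηS : ∀ s ∈ S, Fx j η s) (hxη : Fx j η x) (hxS : ∀ s ∈ S, s * x = x * s)
    (hnW : ∀ s ∈ S, ∀ w ∈ Wx j x hx, s * w * s⁻¹ ∈ Wx j x hx)
    {E : Wx j x hx → ℂ} (hE : IsIrrCharacter (Wx j x hx) E)
    (hEη : ∀ k, E ⟨j k, coe_mem_Wx k⟩ = η k) :
    Glaub.Inv (Glaub.conjHom (Wx j x hx) S hnW) E := by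
  classical
  intro s w
  have := Fintype.ofFinite (Mx j x hx)
  have := Fintype.ofFinite (Wx j x hx)
  have hMn := Mx_normal (j := j) (x := x) (hx := hx)
  have hcopS : (Nat.card S).Coprime (Nat.card (Wx j x hx)) :=
    card_coprime_of_pgroup h.prime h.pg hpW
  have hφM : ∀ m ∈ Mx j x hx, Glaub.conjHom (Wx j x hx) S hnW s m ∈ Mx j x hx := by
    rintro ⟨_, hm⟩ ⟨k, rfl⟩
    obtain ⟨k', hk'⟩ := (h.nz s s.2).1 k
    exact ⟨k', hk'⟩
  refine OS.inv_of_cyclic (Mx j x hx) Mx_cyclic (Glaub.conjHom (Wx j x hx) S hnW s)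
    (n := Nat.card S)
    (by rw [← map_pow, pow_card_eq_one', map_one]) hcopS hφM ?_ (irr_symm h.inj hη)
    (cj_Mx h.inj hη hxη) ?_ hE ?_ w
  · rintro ⟨_, k, a, rfl⟩
    obtain ⟨k', hk'⟩ := (h.nz s s.2).1 k
    refine ⟨k' * k⁻¹, ?_⟩
    change j (k' * k⁻¹) = (s : B) * (j k * x ^ a) * (s : B)⁻¹ * (j k * x ^ a)⁻¹
    have h4 : Commute (s : B) (x ^ a) := Commute.zpow_right (hxS s s.2) a
    have h5 : (s : B) * (j k * x ^ a) * (s : B)⁻¹ =
        (s : B) * j k * (s : B)⁻¹ * (s * x ^ a * (s : B)⁻¹) := by group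
    rw [h5, h4.eq, mul_inv_cancel_right, map_mul, hk', map_inv]
    group
  · intro m
    refine hηS s s.2 _ _ ?_
    rw [eMx_symm_coe, eMx_symm_coe]
    rfl
  · rw [← classInner_comp_equiv (eMx h.inj)]
    simp only [MulEquiv.symm_apply_apply]
    have h1 : (fun k => E ((eMx h.inj k : Mx j x hx) : Wx j x hx)) = η := funext hEη
    rw [h1, classInner_self_of_irr hη]
    exact one_ne_zero

/-- The correspondent of an extension restricts to the correspondent. -/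
theorem corr_restrict {x : B} (hx : Nz j x) (hx' : Nz (j.comp i) x)
    (hVW : Wx (j.comp i) x hx' ≤ Wx j x hx) [Fintype (Wx (j.comp i) x hx')]
    {η : K → ℂ} {E : Wx j x hx → ℂ} (hE : IsIrrCharacter (Wx j x hx) E)
    (hEη : ∀ k, E ⟨j k, coe_mem_Wx k⟩ = η k) {ζ : C → ℂ} (hζ : IsIrrCharacter C ζ)
    {m : ℕ} (hm : classInner (fun c => η (i c)) ζ = m) (hpm : ¬ p ∣ m)
    {β : IrrCharacter (Wx (j.comp i) x hx')}
    (huβ : ∀ (ξ : IrrCharacter (Wx (j.comp i) x hx')) (n : ℕ),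
      classInner (Glaub.res (Subgroup.inclusion hVW) E) ξ = n → ξ ≠ β → p ∣ n) :
    classInner (fun c => (β : Wx (j.comp i) x hx' → ℂ) ⟨(j.comp i) c, coe_mem_Wx c⟩) ζ ≠ 0 := by
  classical
  have : Fintype (IrrCharacter (Wx (j.comp i) x hx')) := Fintype.ofFinite _
  have := Fintype.ofFinite (Wx j x hx)
  obtain ⟨k, hk, hsum⟩ := Glaub.exists_mult (isCharacter_of_isIrr hE) (Subgroup.inclusion hVW)
  let jV : C →* Wx (j.comp i) x hx' :=
    { toFun := fun c => ⟨(j.comp i) c, coe_mem_Wx c⟩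
      map_one' := Subtype.ext (map_one (j.comp i))
      map_mul' := fun a b => Subtype.ext (map_mul (j.comp i) a b) }
  choose l hl using fun ξ : IrrCharacter (Wx (j.comp i) x hx') => classInner_natCast
    (isCharacter_comp (irr_isCharacter ξ) jV) (isCharacter_of_isIrr hζ)
  have h1 : (fun c => η (i c)) = ∑ ξ : IrrCharacter (Wx (j.comp i) x hx'),
      (k ξ : ℂ) • ((ξ : Wx (j.comp i) x hx' → ℂ) ∘ jV) := by
    funext c
    have h2 := congrFun hsum (jV c)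
    rw [Finset.sum_apply] at h2 ⊢
    have h3 : Glaub.res (Subgroup.inclusion hVW) E (jV c) = η (i c) := hEη (i c)
    rw [← h3, h2]
    refine Finset.sum_congr rfl fun ξ _ => ?_
    simp
  have h2 : (m : ℂ) = ((∑ ξ : IrrCharacter (Wx (j.comp i) x hx'), k ξ * l ξ : ℕ) : ℂ) := by
    rw [← hm, h1, classInner_sum_left]
    push_cast
    refine Finset.sum_congr rfl fun ξ _ => ?_
    rw [classInner_smul_left, hl]
  have h3 : m = ∑ ξ : IrrCharacter (Wx (j.comp i) x hx'), k ξ * l ξ := by exact_mod_cast h2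
  intro h0
  apply hpm
  rw [h3]
  apply Finset.dvd_sum
  intro ξ _
  by_cases hξ : ξ = β
  · have h4 : l ξ = 0 := by
      have h5 := hl ξ
      rw [hξ] at h5
      have h6 : classInner (fun c => (β : Wx (j.comp i) x hx' → ℂ)
        ⟨(j.comp i) c, coe_mem_Wx c⟩) ζ = (l β : ℂ) := h5
      rw [h0] at h6
      rw [hξ]
      exact_mod_cast h6.symm
    rw [h4, mul_zero]
    exact dvd_zero p
  · have h5 := huβ ξ (k ξ) (hk ξ) hξ
    exact Dvd.dvd.mul_right h5 _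

/-- Twisting by conjugation and by a linear character correspond. -/
theorem conj_twist {W : Type u} [Group W] [Finite W] {V : Type w} [Group V] [Fintype V]
    {S : Type v} [Group S] [Finite S] {φ : S →* MulAut W} {ι : V →* W} (hfix : Glaub.IsFix φ ι)
    (hp : p.Prime) (hS : IsPGroup p S) (hpW : ¬ p ∣ Nat.card W)
    {E : W → ℂ} {mβ : ℕ} {β : IrrCharacter V}
    (hmβ : classInner (Glaub.res ι E) β = mβ) (hpβ : ¬ p ∣ mβ)
    {aW : W ≃* W} {aV : V ≃* V} (hι : ∀ v, aW (ι v) = ι (aV v))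
    (hEy : IsIrrCharacter W (fun w => E (aW w))) (hEyI : Glaub.Inv φ (fun w => E (aW w)))
    {δ : W → ℂ} (hδ : IsIrrCharacter W δ) (hδ1 : δ 1 = 1)
    (hδmul : ∀ a b, δ (a * b) = δ a * δ b) (hδE : (fun w => E (aW w)) = δ * E) :
    (fun v => (β : V → ℂ) (aV v)) = fun v => δ (ι v) * (β : V → ℂ) v := by
  classical
  have := Fintype.ofFinite W
  have hδn : ∀ w, δ w * conj (δ w) = 1 := by
    intro w
    have h1 : δ w * δ w⁻¹ = 1 := by rw [← hδmul, mul_inv_cancel, hδ1]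
    rw [← irr_inv ⟨δ, hδ⟩, h1]
  have hβy : IsIrrCharacter V (fun v => (β : V → ℂ) (aV v)) :=
    isIrrCharacter_comp_surjective β.2 aV.toMonoidHom aV.surjective
  obtain ⟨γ, mγ, hmγ, hpγ, -, huγ⟩ := Glaub.existsUnique_below hfix hp hS hpW
    ⟨fun w => E (aW w), hEy⟩ hEyI
  have hδβ : IsIrrCharacter V (fun v => δ (ι v) * (β : V → ℂ) v) :=
    Glaub.isIrr_mul_linear β.2 (isCharacter_comp (isCharacter_of_isIrr hδ) ι)
      (by simp [hδ1])
  have c1 : classInner (Glaub.res ι (fun w => E (aW w))) (fun v => (β : V → ℂ) (aV v)) = mβ := by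
    rw [← hmβ, ← classInner_comp_equiv aV (Glaub.res ι E) (β : V → ℂ)]
    congr 1
    funext v
    change E (aW (ι v)) = E (ι (aV v))
    rw [hι]
  have c2 : classInner (Glaub.res ι (fun w => E (aW w)))
      (fun v => δ (ι v) * (β : V → ℂ) v) = mβ := by
    rw [← hmβ]
    unfold classInner
    congr 1
    refine Finset.sum_congr rfl fun v _ => ?_
    have h2 := congrFun hδE (ι v)
    simp only [Pi.mul_apply] at h2
    change E (aW (ι v)) * conj (δ (ι v) * (β : V → ℂ) v) = E (ι v) * conj ((β : V → ℂ) v)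
    rw [h2, map_mul]
    linear_combination (E (ι v) * conj ((β : V → ℂ) v)) * hδn (ι v)
  have e1 : (⟨fun v => (β : V → ℂ) (aV v), hβy⟩ : IrrCharacter V) = γ := by
    by_contra hne
    exact hpβ (huγ ⟨fun v => (β : V → ℂ) (aV v), hβy⟩ mβ c1 hne)
  have e2 : (⟨fun v => δ (ι v) * (β : V → ℂ) v, hδβ⟩ : IrrCharacter V) = γ := by
    by_contra hne
    exact hpβ (huγ ⟨fun v => δ (ι v) * (β : V → ℂ) v, hδβ⟩ mβ c2 hne)
  exact congrArg Subtype.val (e1.trans e2.symm)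

/-- The basic step: `x` centralises the `p`-group. -/
theorem Fxd.step {S : Subgroup B} (h : Fxd p j i S) {η : K → ℂ}
    (hη : IsIrrCharacter K η) (hηS : ∀ s ∈ S, Fx j η s) {ζ : C → ℂ} (hζ : IsIrrCharacter C ζ)
    {m : ℕ} (hm : classInner (fun c => η (i c)) ζ = m) (hpm : ¬ p ∣ m) {x y : B} (hx : Nz j x)
    (hy : Nz j y) (hpW : ¬ p ∣ Nat.card (Wx j x hx)) (hxS : ∀ s ∈ S, s * x = x * s)
    (hyS : ∀ s ∈ S, y⁻¹ * s * y ∈ S) (hyS' : ∀ s ∈ S, y * s * y⁻¹ ∈ S) (hxη : Fx j η x)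
    (hyη : Fx j η y) {c₀ : C} (hc₀ : j (i c₀) = x * y * x⁻¹ * y⁻¹) {t t' : ℂ}
    (ht : CC j η x y t) (ht' : CC (j.comp i) ζ x y t') : t = t' := by
  classical
  have hp := h.prime
  have hpK : ¬ p ∣ Nat.card K := by
    intro hd
    apply hpW
    refine hd.trans ?_
    let jW : K →* Wx j x hx :=
      { toFun := fun k => ⟨j k, coe_mem_Wx k⟩
        map_one' := Subtype.ext (map_one j)
        map_mul' := fun a b => Subtype.ext (map_mul j a b) }
    exact Subgroup.card_dvd_of_injective jW (fun a b hab => h.inj (congrArg Subtype.val hab))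
  have hji : Function.Injective (j.comp i) := h.inj.comp h.inj'
  have hxS' : ∀ s ∈ S, x⁻¹ * s * x ∈ S := by
    intro s hs
    rw [mul_assoc, hxS s hs, inv_mul_cancel_left]
    exact hs
  have hxS'' : ∀ s ∈ S, x * s * x⁻¹ ∈ S := by
    intro s hs
    rw [← hxS s hs, mul_inv_cancel_right]
    exact hs
  have hx' : Nz (j.comp i) x := h.nz_comp hx hxS' hxS''
  have hy' : Nz (j.comp i) y := h.nz_comp hy hyS hyS'
  have hxζ := h.corr_inv hpK hη hηS hζ hm hpm hx hxS' hxS'' hxη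
  have hyζ := h.corr_inv hpK hη hηS hζ hm hpm hy hyS hyS' hyη
  have hVW : Wx (j.comp i) x hx' ≤ Wx j x hx := by
    rintro _ ⟨c, a, rfl⟩
    exact ⟨i c, a, rfl⟩
  have := Fintype.ofFinite (Wx j x hx)
  have := Fintype.ofFinite (Wx (j.comp i) x hx')
  -- the action of `S` on `W`
  have hnW : ∀ s ∈ S, ∀ w ∈ Wx j x hx, s * w * s⁻¹ ∈ Wx j x hx := by
    rintro s hs _ ⟨k, a, rfl⟩
    obtain ⟨k', hk'⟩ := (h.nz s hs).1 k
    refine ⟨k', a, ?_⟩
    have h1 : Commute s (x ^ a) := Commute.zpow_right (hxS s hs) a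
    have h2 : s * (j k * x ^ a) * s⁻¹ = s * j k * s⁻¹ * (s * x ^ a * s⁻¹) := by group
    rw [hk', h2, h1.eq, mul_inv_cancel_right]
  have hfix := h.isFix_Wx hx hx' hxS hnW hVW
  obtain ⟨E, hE, hEη⟩ := exists_ext_Wx (hx := hx) h.inj hη hxη
  have hEinv := h.inv_ext hx hpW hη hηS hxη hxS hnW hE hEη
  obtain ⟨β, mβ, hmβ, hpβ, -, huβ⟩ := Glaub.existsUnique_below hfix hp h.pg hpW ⟨E, hE⟩ hEinv
  -- `β` extends `ζ`
  have hβζ0 := corr_restrict hx hx' hVW hE hEη hζ hm hpm huβ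
  have hβζ : ∀ c, (β : Wx (j.comp i) x hx' → ℂ) ⟨(j.comp i) c, coe_mem_Wx c⟩ = ζ c :=
    restrict_Wx hji hζ hxζ β.2 hβζ0
  -- conjugation by `y`
  have hyW : Nz (Wx j x hx).subtype y := nz_Wx hx hy hc₀
  have hyV : Nz (Wx (j.comp i) x hx').subtype y := nz_Wx hx' hy' hc₀
  obtain ⟨aW, haW⟩ := exists_autN (Wx j x hx).subtype_injective hyW
  obtain ⟨aV, haV⟩ := exists_autN (Wx (j.comp i) x hx').subtype_injective hyV
  have hEy : IsIrrCharacter (Wx j x hx) (fun w => E (aW w)) :=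
    isIrrCharacter_comp_surjective hE aW.toMonoidHom aW.surjective
  have hEyη : ∀ k, (fun w => E (aW w)) ⟨j k, coe_mem_Wx k⟩ = η k := by
    intro k
    obtain ⟨k', hk'⟩ := hy.1 k
    have h1 : aW ⟨j k, coe_mem_Wx k⟩ = ⟨j k', coe_mem_Wx k'⟩ := by
      apply Subtype.ext
      have := haW ⟨j k, coe_mem_Wx k⟩
      change ((aW ⟨j k, coe_mem_Wx k⟩ : Wx j x hx) : B) = y * j k * y⁻¹ at this
      exact this.trans hk'.symm
    change E (aW ⟨j k, coe_mem_Wx k⟩) = η k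
    rw [h1, hEη, hyη k k' hk']
  obtain ⟨δ, hδ, hδ1, hδmul, hδj, hδE⟩ := exists_delta h.inj hη hE hEη hEy hEyη
  -- `δ x = t`
  have hδx : δ ⟨x, self_mem_Wx⟩ = t := by
    obtain ⟨k, hk⟩ := exists_ne_zero_Wx (hx := hx) h.inj hη hE hEη
    have h1 := CC.ext_apply h.inj hη hx hy hyη ht (Wx j x hx) (fun k => coe_mem_Wx k)
      self_mem_Wx hE hEη k
      ⟨j k * x, mul_self_mem_Wx k⟩ (aW ⟨j k * x, mul_self_mem_Wx k⟩) rfl
      (haW ⟨j k * x, mul_self_mem_Wx k⟩)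
    have h2 := congrFun hδE ⟨j k * x, mul_self_mem_Wx k⟩
    simp only [Pi.mul_apply] at h2
    rw [h1] at h2
    have h3 := mul_right_cancel₀ hk h2
    have h4 : (⟨j k * x, mul_self_mem_Wx k⟩ : Wx j x hx) =
        ⟨j k, coe_mem_Wx k⟩ * ⟨x, self_mem_Wx⟩ := rfl
    rw [h3, h4, hδmul, hδj, one_mul]
  -- `β ^ y = δ β`
  have hι : ∀ v : Wx (j.comp i) x hx', aW (Subgroup.inclusion hVW v) =
      Subgroup.inclusion hVW (aV v) := by
    intro v
    apply Subtype.ext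
    exact (haW (Subgroup.inclusion hVW v)).trans (haV v).symm
  have hβδ := conj_twist hfix hp h.pg hpW hmβ hpβ hι hEy
    (h.inv_ext hx hpW hη hηS hxη hxS hnW hEy hEyη) hδ hδ1 hδmul hδE
  obtain ⟨c, hc⟩ := exists_ne_zero_Wx (hx := hx') hji hζ β.2 hβζ
  have h1 := CC.ext_apply hji hζ hx' hy' hyζ ht' (Wx (j.comp i) x hx')
    (fun k => coe_mem_Wx k) self_mem_Wx β.2 hβζ c
    ⟨(j.comp i) c * x, mul_self_mem_Wx c⟩ (aV ⟨(j.comp i) c * x, mul_self_mem_Wx c⟩) rfl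
    (haV ⟨(j.comp i) c * x, mul_self_mem_Wx c⟩)
  have h2 := congrFun hβδ ⟨(j.comp i) c * x, mul_self_mem_Wx c⟩
  beta_reduce at h2
  rw [h1] at h2
  have h3 := mul_right_cancel₀ hc h2
  have h4 : Subgroup.inclusion hVW ⟨(j.comp i) c * x, mul_self_mem_Wx c⟩ =
      ⟨j (i c), coe_mem_Wx (i c)⟩ * ⟨x, self_mem_Wx⟩ := rfl
  rw [h4, hδmul, hδj, one_mul, hδx] at h3
  exact h3.symm

end Cfsg.Agent.H76.Twc
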