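import Cfsg.Agent.H76.Twc3

/-!
# Commutator scalars and the Glauberman correspondence: pairs
-/

set_option autoImplicit false
set_option linter.unusedSectionVars false
set_option linter.unusedFintypeInType false
set_option linter.deprecated false
set_option linter.style.haveILetI false

namespace Cfsg.Agent.H76.Twc

open scoped ComplexConjugate
open Cfsg Cfsg.Agent.CharBase Cfsg.Agent.Char

universe u v w

/-- A finite abelian group acting faithfully and irreducibly is cyclic. -/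
theorem isCyclic_of_irreducible {A V : Type*} [Group A] [Finite A] [AddCommGroup V] [Finite V]
    [Nontrivial V] (f : A →* AddMonoid.End V) (hf : Function.Injective f)
    (hcomm : ∀ a b, f a * f b = f b * f a)
    (hirr : ∀ W : AddSubgroup V, (∀ a, ∀ w ∈ W, f a w ∈ W) → W = ⊥ ∨ W = ⊤) : IsCyclic A := by
  classical
  let R := Subring.closure (Set.range f)
  have hcR : ∀ x ∈ Set.range f, ∀ y ∈ Set.range f, x * y = y * x := by
    rintro _ ⟨a, rfl⟩ _ ⟨b, rfl⟩
    exact hcomm a b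
  letI : CommRing R := Subring.closureCommRingOfComm hcR
  have hdom : IsDomain R := by
    have hnt : Nontrivial R := by
      refine ⟨⟨0, 1, ?_⟩⟩
      intro h
      have h1 : (0 : AddMonoid.End V) = 1 := congrArg Subtype.val h
      obtain ⟨v, hv⟩ := exists_ne (0 : V)
      apply hv
      have := congrArg (fun e : AddMonoid.End V => e v) h1
      exact this.symm
    have hnz : NoZeroDivisors R := by
      refine ⟨?_⟩
      intro r s hrs
      by_cases hr : r = 0
      · left; exact hr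
      · right
        have h1 := hirr (AddMonoidHom.ker (r : AddMonoid.End V)) (by
          intro a w hw
          have hw' : (r : AddMonoid.End V) w = 0 := hw
          change (r : AddMonoid.End V) (f a w) = 0
          have h2 : r * ⟨f a, Subring.subset_closure ⟨a, rfl⟩⟩ =
            (⟨f a, Subring.subset_closure ⟨a, rfl⟩⟩ : R) * r := mul_comm _ _
          have h3 : (r : AddMonoid.End V) * f a = f a * r := congrArg Subtype.val h2
          have h4 := congrArg (fun e : AddMonoid.End V => e w) h3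
          change (r : AddMonoid.End V) (f a w) = f a ((r : AddMonoid.End V) w) at h4
          rw [h4, hw', map_zero])
        rcases h1 with h1 | h1
        · apply Subtype.ext
          have h2 : (r : AddMonoid.End V) * (s : AddMonoid.End V) = 0 := congrArg Subtype.val hrs
          ext w
          have h3 := congrArg (fun e : AddMonoid.End V => e w) h2
          have h4 : (s : AddMonoid.End V) w ∈ AddMonoidHom.ker (r : AddMonoid.End V) := h3
          rw [h1] at h4
          exact h4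
        · exfalso
          apply hr
          apply Subtype.ext
          ext w
          have : w ∈ AddMonoidHom.ker (r : AddMonoid.End V) := by rw [h1]; trivial
          exact this
    exact NoZeroDivisors.to_isDomain R
  let g : A →* R :=
    { toFun := fun a => ⟨f a, Subring.subset_closure ⟨a, rfl⟩⟩
      map_one' := Subtype.ext (map_one f)
      map_mul' := fun a b => Subtype.ext (map_mul f a b) }
  exact isCyclic_of_subgroup_isDomain g (fun a b h => hf (congrArg Subtype.val h))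


/-- If `Y` acts on `V` (by conjugation) as an abelian group, irreducibly, then two elements
of `Y` are powers of one element of `Y` modulo `C_Y(V)`. -/
theorem exists_common {B : Type u} [Group B] [Finite B] {Y V : Subgroup B} (hV : V ≠ ⊥) (hVc : ∀ a ∈ V, ∀ b ∈ V, a * b = b * a)
    (hYV : ∀ y ∈ Y, ∀ v ∈ V, y * v * y⁻¹ ∈ V)
    (hcomm : ∀ g ∈ Y, ∀ h ∈ Y, ∀ v ∈ V, (g * h * g⁻¹ * h⁻¹) * v = v * (g * h * g⁻¹ * h⁻¹))
    (hirr : ∀ W : Subgroup B, W ≤ V → W ≠ ⊥ → (∀ y ∈ Y, ∀ w ∈ W, y * w * y⁻¹ ∈ W) → W = V)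
    {g h : B} (hg : g ∈ Y) (hh : h ∈ Y) :
    ∃ u ∈ Y, ∃ m n : ℤ, (∀ v ∈ V, (g * (u ^ m)⁻¹) * v = v * (g * (u ^ m)⁻¹)) ∧
      ∀ v ∈ V, (h * (u ^ n)⁻¹) * v = v * (h * (u ^ n)⁻¹) := by
  classical
  letI : CommGroup V := { (inferInstance : Group V) with
    mul_comm := fun a b => Subtype.ext (hVc a a.2 b b.2) }
  have hYV' : ∀ y ∈ Y, ∀ v ∈ V, y⁻¹ * v * y ∈ V := by
    intro y hy v hv
    have := hYV y⁻¹ (Y.inv_mem hy) v hv
    rwa [inv_inv] at this
  -- the action
  let φ : Y →* MulAut V :=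
    { toFun := fun y =>
        { toFun := fun v => ⟨y * v * (y : B)⁻¹, hYV y y.2 v v.2⟩
          invFun := fun v => ⟨(y : B)⁻¹ * v * y, hYV' y y.2 v v.2⟩
          left_inv := fun v => Subtype.ext (by simp only; group)
          right_inv := fun v => Subtype.ext (by simp only; group)
          map_mul' := fun a b => Subtype.ext (by simp only [Subgroup.coe_mul]; group) }
      map_one' := by ext v; simp
      map_mul' := fun a b => by ext v; simp [mul_assoc] }
  have hφ : ∀ (y : Y) (v : V), ((φ y v : V) : B) = y * v * (y : B)⁻¹ := fun y v => rfl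
  let f0 : MulAut V →* AddMonoid.End (Additive V) :=
    { toFun := fun a => MonoidHom.toAdditive a.toMonoidHom
      map_one' := rfl
      map_mul' := fun a b => rfl }
  have hf0 : Function.Injective f0 := by
    intro a b hab
    ext v
    have h1 := congrArg (fun e : AddMonoid.End (Additive V) => e (Additive.ofMul v)) hab
    exact congrArg Subtype.val (show a v = b v from h1)
  have hnt : Nontrivial (Additive V) := by
    have := V.nontrivial_iff_ne_bot.mpr hV
    infer_instance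
  have hcyc : IsCyclic φ.range := by
    refine isCyclic_of_irreducible (f0.comp φ.range.subtype)
      (hf0.comp φ.range.subtype_injective) ?_ ?_
    · rintro ⟨_, a, rfl⟩ ⟨_, b, rfl⟩
      rw [← map_mul, ← map_mul]
      congr 1
      apply Subtype.ext
      change φ a * φ b = φ b * φ a
      rw [← map_mul, ← map_mul]
      ext v
      rw [hφ, hφ]
      have h1 := hcomm a a.2 b b.2 (b * a * v * ((b : B) * a)⁻¹) (by
        exact hYV _ (Y.mul_mem b.2 a.2) _ v.2)
      simp only [Subgroup.coe_mul]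
      have h2 : (a : B) * b * v * ((a : B) * b)⁻¹ =
        (a * b * (a : B)⁻¹ * (b : B)⁻¹) * (b * a * v * ((b : B) * a)⁻¹) *
          (a * b * (a : B)⁻¹ * (b : B)⁻¹)⁻¹ := by group
      rw [h2, h1]
      group
    · intro W hW
      let W' : Subgroup B := (AddSubgroup.toSubgroup W).map V.subtype
      have hW'V : W' ≤ V := by
        rintro _ ⟨v, -, rfl⟩
        exact v.2
      have hmem : ∀ v : V, (v : B) ∈ W' ↔ Additive.ofMul v ∈ W := by
        intro v
        constructor
        · rintro ⟨v', hv', h⟩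
          have : v' = v := Subtype.ext h
          rw [← this]
          exact hv'
        · intro h
          exact ⟨v, h, rfl⟩
      by_cases hb : W' = ⊥
      · left
        rw [eq_bot_iff]
        intro w hw
        have h1 : ((Additive.toMul w : V) : B) ∈ W' := (hmem _).mpr hw
        rw [hb, Subgroup.mem_bot] at h1
        have h2 : (Additive.toMul w : V) = 1 := Subtype.ext h1
        exact h2
      · right
        have h1 := hirr W' hW'V hb (by
          rintro y hy _ ⟨v, hv, rfl⟩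
          have h2 := hW ⟨φ ⟨y, hy⟩, ⟨y, hy⟩, rfl⟩ (Additive.ofMul v) hv
          exact (hmem (φ ⟨y, hy⟩ v)).mpr h2)
        rw [eq_top_iff]
        intro w _
        have h2 : ((Additive.toMul w : V) : B) ∈ W' := by
          rw [h1]
          exact (Additive.toMul w : V).2
        exact (hmem _).mp h2
  obtain ⟨⟨_, u, rfl⟩, hu⟩ := hcyc.exists_generator
  have key : ∀ a ∈ Y, ∃ m : ℤ, ∀ v ∈ V, (a * ((u : B) ^ m)⁻¹) * v = v * (a * ((u : B) ^ m)⁻¹) := by
    intro a ha
    obtain ⟨m, hm⟩ := hu ⟨φ ⟨a, ha⟩, ⟨a, ha⟩, rfl⟩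
    refine ⟨m, fun v hv => ?_⟩
    have h1 : φ u ^ m = φ ⟨a, ha⟩ := congrArg Subtype.val hm
    have h2 : φ (⟨a, ha⟩ * (u ^ m)⁻¹) = 1 := by
      rw [map_mul, map_inv, map_zpow, h1, mul_inv_cancel]
    have h3 := congrArg (fun e : MulAut V => ((e ⟨v, hv⟩ : V) : B)) h2
    simp only [MulAut.one_apply] at h3
    rw [hφ] at h3
    simp only [Subgroup.coe_mul, Subgroup.coe_inv, Subgroup.coe_zpow] at h3
    rw [← mul_inv_eq_iff_eq_mul]
    exact h3
  obtain ⟨m, hm⟩ := key g hg
  obtain ⟨n, hn⟩ := key h hh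
  exact ⟨u, u.2, m, n, hm, hn⟩


variable {B : Type u} [Group B] {K : Type v} [Group K] {j : K →* B}

theorem Tw.npow {n : ℕ} {ρ : Representation ℂ K (Fin n → ℂ)} (hj : Function.Injective j) {x : B}
    {X : (Module.End ℂ (Fin n → ℂ))ˣ} (hx : Nz j x) (hX : Tw j ρ x X) (a : ℕ) :
    Tw j ρ (x ^ a) (X ^ a) := by
  induction a with
  | zero =>
    rw [pow_zero, pow_zero]
    exact Tw.one.resolve_right (fun h => h hj)
  | succ n ih =>
    rw [pow_succ, pow_succ]
    exact ih.mul hX hx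

theorem Tw.zpow {n : ℕ} {ρ : Representation ℂ K (Fin n → ℂ)} (hj : Function.Injective j) {x : B}
    {X : (Module.End ℂ (Fin n → ℂ))ˣ} (hx : Nz j x) (hX : Tw j ρ x X) (a : ℤ) :
    Tw j ρ (x ^ a) (X ^ a) := by
  rcases a with a | a
  · rw [Int.ofNat_eq_natCast, zpow_natCast, zpow_natCast]
    exact hX.npow hj hx a
  · rw [zpow_negSucc, zpow_negSucc]
    exact (hX.npow hj hx (a + 1)).inv

theorem CC.zpow_zpow [Finite K] (hj : Function.Injective j) {η : K → ℂ} (hη : IsIrrCharacter K η)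
    {x : B} (hx : Nz j x) (hxη : Fx j η x) (a b : ℤ) : CC j η (x ^ a) (x ^ b) 1 := by
  obtain ⟨n, ρ, hρ, rfl⟩ := hη
  obtain ⟨X, hX⟩ := exists_tw hj hρ hx hxη
  refine ⟨n, ρ, X ^ a, X ^ b, 1, hρ, rfl, ?_, hX.zpow hj hx a, hX.zpow hj hx b, ?_⟩
  · rw [map_one]; group
  · rw [one_smul, map_one, one_mul, ← Units.val_mul, ← Units.val_mul, ← zpow_add, ← zpow_add,
      add_comm]

variable {C : Type w} [Group C] {i : C →* K}

/-- The two scalars agree. -/
def Pr (j : K →* B) (i : C →* K) (η : K → ℂ) (ζ : C → ℂ) (x y : B) : Prop :=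
  ∀ t t' : ℂ, CC j η x y t → CC (j.comp i) ζ x y t' → t = t'

theorem Pr.symm {η : K → ℂ} {ζ : C → ℂ} {x y : B} (h : Pr j i η ζ x y) : Pr j i η ζ y x := by
  intro t t' ht ht'
  exact inv_injective (h _ _ ht.symm ht'.symm)

/-- A subgroup on which both scalars are defined. -/
structure Good (j : K →* B) (i : C →* K) (η : K → ℂ) (ζ : C → ℂ) (Y : Subgroup B) : Prop where
  inj : Function.Injective j
  inj' : Function.Injective (j.comp i)
  irr : IsIrrCharacter K η
  irr' : IsIrrCharacter C ζ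
  nz : ∀ y ∈ Y, Nz j y
  nz' : ∀ y ∈ Y, Nz (j.comp i) y
  fx : ∀ y ∈ Y, Fx j η y
  fx' : ∀ y ∈ Y, Fx (j.comp i) ζ y
  comm : ∀ g ∈ Y, ∀ h ∈ Y, ∃ c, (j.comp i) c = g * h * g⁻¹ * h⁻¹

variable [Finite K] [Finite C] {η : K → ℂ} {ζ : C → ℂ} {Y : Subgroup B}

theorem Good.mul_right (G : Good j i η ζ Y) {x y z : B} (hx : x ∈ Y) (hy : y ∈ Y) (hz : z ∈ Y)
    (h1 : Pr j i η ζ x y) (h2 : Pr j i η ζ x z) : Pr j i η ζ x (y * z) := by
  obtain ⟨c1, hc1⟩ := G.comm x hx y hy
  obtain ⟨c2, hc2⟩ := G.comm x hx z hz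
  obtain ⟨t1, -, ht1⟩ := CC.exists' G.inj G.irr (G.nz x hx) (G.nz y hy) (G.fx x hx) (G.fx y hy)
    (k₀ := i c1) hc1
  obtain ⟨t2, -, ht2⟩ := CC.exists' G.inj G.irr (G.nz x hx) (G.nz z hz) (G.fx x hx) (G.fx z hz)
    (k₀ := i c2) hc2
  obtain ⟨s1, -, hs1⟩ := CC.exists' G.inj' G.irr' (G.nz' x hx) (G.nz' y hy) (G.fx' x hx)
    (G.fx' y hy) hc1
  obtain ⟨s2, -, hs2⟩ := CC.exists' G.inj' G.irr' (G.nz' x hx) (G.nz' z hz) (G.fx' x hx)
    (G.fx' z hz) hc2
  intro t t' ht ht'
  have e1 := CC.unique G.inj (G.nz x hx) ((G.nz y hy).mul (G.nz z hz)) ht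
    (CC.mul_right G.inj (G.nz x hx) (G.nz y hy) (G.nz z hz) (G.fx z hz) ht1 ht2)
  have e2 := CC.unique G.inj' (G.nz' x hx) ((G.nz' y hy).mul (G.nz' z hz)) ht'
    (CC.mul_right G.inj' (G.nz' x hx) (G.nz' y hy) (G.nz' z hz) (G.fx' z hz) hs1 hs2)
  rw [e1, e2, h1 _ _ ht1 hs1, h2 _ _ ht2 hs2]

theorem Good.zpow_zpow (G : Good j i η ζ Y) {u : B} (hu : u ∈ Y) (a b : ℤ) :
    Pr j i η ζ (u ^ a) (u ^ b) := by
  intro t t' ht ht'
  have hua := Y.zpow_mem hu a
  have hub := Y.zpow_mem hu b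
  have e1 := CC.unique G.inj (G.nz _ hua) (G.nz _ hub) ht
    (CC.zpow_zpow G.inj G.irr (G.nz u hu) (G.fx u hu) a b)
  have e2 := CC.unique G.inj' (G.nz' _ hua) (G.nz' _ hub) ht'
    (CC.zpow_zpow G.inj' G.irr' (G.nz' u hu) (G.fx' u hu) a b)
  rw [e1, e2]

theorem Good.main (G : Good j i η ζ Y) {g h u : B} (hg : g ∈ Y) (hh : h ∈ Y) (hu : u ∈ Y)
    (m n : ℤ) (h1 : ∀ b ∈ Y, Pr j i η ζ (g * (u ^ m)⁻¹) b)
    (h2 : ∀ b ∈ Y, Pr j i η ζ (h * (u ^ n)⁻¹) b) : Pr j i η ζ g h := by
  have hum := Y.zpow_mem hu m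
  have hun := Y.zpow_mem hu n
  have hg' := Y.mul_mem hg (Y.inv_mem hum)
  have hh' := Y.mul_mem hh (Y.inv_mem hun)
  have e1 : g = (g * (u ^ m)⁻¹) * u ^ m := by group
  have e2 : h = (h * (u ^ n)⁻¹) * u ^ n := by group
  have a1 : Pr j i η ζ (u ^ m) h := by
    rw [e2]
    exact G.mul_right hum hh' hun (h2 _ hum).symm (G.zpow_zpow hu m n)
  refine Pr.symm ?_
  rw [e1]
  exact G.mul_right hh hg' hum (h1 _ hh).symm a1.symm

end Cfsg.Agent.H76.Twc
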