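import Cfsg.Agent.H76.Twc4

/-!
# Commutator scalars and the Glauberman correspondence: the pair theorem
-/

set_option autoImplicit false
set_option linter.unusedSectionVars false
set_option linter.unusedFintypeInType false

namespace Cfsg.Agent.H76.Twc

open scoped ComplexConjugate
open Cfsg Cfsg.Agent.CharBase Cfsg.Agent.Char

universe u v w

variable {B : Type u} [Group B] {K : Type v} [Group K] {j : K →* B}

/-- Transport along a homomorphism. -/
theorem Nz.map {B' : Type w} [Group B'] (f : B →* B') {x : B} (hx : Nz j x) :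
    Nz (f.comp j) (f x) := by
  constructor
  · intro k
    obtain ⟨k', hk'⟩ := hx.1 k
    refine ⟨k', ?_⟩
    change f (j k') = f x * f (j k) * (f x)⁻¹
    rw [hk', map_mul, map_mul, map_inv]
  · intro k
    obtain ⟨k', hk'⟩ := hx.2 k
    refine ⟨k', ?_⟩
    change f (j k') = (f x)⁻¹ * f (j k) * f x
    rw [hk', map_mul, map_mul, map_inv]

theorem Nz.of_map {B' : Type w} [Group B'] {f : B →* B'} (hf : Function.Injective f) {x : B}
    (hx : Nz (f.comp j) (f x)) : Nz j x := by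
  constructor
  · intro k
    obtain ⟨k', hk'⟩ := hx.1 k
    refine ⟨k', hf ?_⟩
    rw [map_mul, map_mul, map_inv]
    exact hk'
  · intro k
    obtain ⟨k', hk'⟩ := hx.2 k
    refine ⟨k', hf ?_⟩
    rw [map_mul, map_mul, map_inv]
    exact hk'

theorem Fx.map {B' : Type w} [Group B'] (f : B →* B') (hf : Function.Injective (f.comp j))
    {η : K → ℂ} {x : B} (hn : Nz j x) (hx : Fx j η x) : Fx (f.comp j) η (f x) := by
  intro k k' hk
  obtain ⟨k1, h1⟩ := hn.1 k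
  have h2 : (f.comp j) k1 = (f.comp j) k' := by
    rw [hk]
    change f (j k1) = f x * f (j k) * (f x)⁻¹
    rw [h1, map_mul, map_mul, map_inv]
  rw [← hf h2, hx k k1 h1]

theorem Fx.of_map {B' : Type w} [Group B'] {f : B →* B'} {η : K → ℂ} {x : B}
    (hx : Fx (f.comp j) η (f x)) : Fx j η x := by
  intro k k' hk
  refine hx k k' ?_
  change f (j k') = _
  rw [hk, map_mul, map_mul, map_inv]
  rfl

theorem not_dvd_Wx [Finite B] {p : ℕ} (hp : p.Prime) (hj : Function.Injective j)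
    (hK : ¬ p ∣ Nat.card K) {x : B} (hx : Nz j x) (hox : ¬ p ∣ orderOf x) :
    ¬ p ∣ Nat.card (Wx j x hx) := by
  have hn := Mx_normal (j := j) (x := x) (hx := hx)
  have h1 : Nat.card (Mx j x hx) = Nat.card K := (Nat.card_congr (eMx (hx := hx) hj).toEquiv).symm
  have h2 : (Mx j x hx).index ∣ orderOf x := by
    have h3 : ∀ w : Wx j x hx ⧸ Mx j x hx,
        w ∈ Subgroup.zpowers ((⟨x, self_mem_Wx⟩ : Wx j x hx) : Wx j x hx ⧸ Mx j x hx) := by
      intro w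
      obtain ⟨⟨_, k, a, rfl⟩, rfl⟩ := QuotientGroup.mk_surjective w
      refine ⟨a, ?_⟩
      simp only
      rw [← QuotientGroup.mk_zpow]
      refine (QuotientGroup.eq_iff_div_mem.mpr ?_).symm
      change ∃ l, j l = (j k * x ^ a) / (x ^ a)
      exact ⟨k, by simp⟩
    rw [Subgroup.index_eq_card, ← orderOf_eq_card_of_forall_mem_zpowers h3]
    refine (orderOf_map_dvd (QuotientGroup.mk' (Mx j x hx)) (⟨x, self_mem_Wx⟩ : Wx j x hx)).trans ?_
    rw [← Subgroup.orderOf_coe]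
  rw [← Subgroup.card_mul_index (Mx j x hx), h1]
  intro hd
  rcases hp.dvd_mul.mp hd with h | h
  · exact hK h
  · exact hox (h.trans h2)

/-- transitivity of the Glauberman relation -/
theorem not_dvd_of_comp {C1 : Type v} {C : Type w} [Group C1] [Group C] [Fintype K] [Fintype C1]
    [Fintype C] {i1 : C1 →* K} {i' : C →* C1} {η : K → ℂ} (hη : IsCharacter K η)
    {η1 : IrrCharacter C1} {p : ℕ}
    (hu : ∀ (γ : IrrCharacter C1) (n : ℕ), classInner (Glaub.res i1 η) γ = n → γ ≠ η1 → p ∣ n)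
    {ζ : C → ℂ} (hζ : IsIrrCharacter C ζ) {m : ℕ}
    (hm : classInner (fun c => η (i1 (i' c))) ζ = m) (hpm : ¬ p ∣ m) :
    ∃ m' : ℕ, classInner (fun c => (η1 : C1 → ℂ) (i' c)) ζ = m' ∧ ¬ p ∣ m' := by
  classical
  have : Fintype (IrrCharacter C1) := Fintype.ofFinite _
  obtain ⟨k, hk, hsum⟩ := Glaub.exists_mult hη i1
  choose l hl using fun ξ : IrrCharacter C1 => classInner_natCast
    (isCharacter_comp (irr_isCharacter ξ) i') (isCharacter_of_isIrr hζ)
  have h1 : (fun c => η (i1 (i' c))) = ∑ ξ : IrrCharacter C1,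
      (k ξ : ℂ) • ((ξ : C1 → ℂ) ∘ i') := by
    funext c
    have h2 := congrFun hsum (i' c)
    rw [Finset.sum_apply] at h2 ⊢
    have h3 : Glaub.res i1 η (i' c) = η (i1 (i' c)) := rfl
    rw [← h3, h2]
    refine Finset.sum_congr rfl fun ξ _ => ?_
    simp
  have h2 : (m : ℂ) = ((∑ ξ : IrrCharacter C1, k ξ * l ξ : ℕ) : ℂ) := by
    rw [← hm, h1, classInner_sum_left]
    push_cast
    refine Finset.sum_congr rfl fun ξ _ => ?_
    rw [classInner_smul_left, hl]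
  have h3 : m = ∑ ξ : IrrCharacter C1, k ξ * l ξ := by exact_mod_cast h2
  refine ⟨l η1, hl η1, ?_⟩
  intro h0
  apply hpm
  rw [h3]
  apply Finset.dvd_sum
  intro ξ _
  by_cases hξ : ξ = η1
  · rw [hξ]
    exact Dvd.dvd.mul_left h0 _
  · have h5 := hu ξ (k ξ) (hk ξ) hξ
    exact Dvd.dvd.mul_right h5 _

theorem exists_S1 [Finite B] {p : ℕ} (hp : p.Prime) {S Y : Subgroup B} (hS : IsPGroup p S)
    (hS1 : S ≠ ⊥) (hYS : ∀ y ∈ Y, ∀ s ∈ S, y * s * y⁻¹ ∈ S) :
    ∃ V : Subgroup B, V ≠ ⊥ ∧ V ≤ S ∧ (∀ v ∈ V, ∀ s ∈ S, s * v = v * s) ∧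
      (∀ y ∈ Y, ∀ v ∈ V, y * v * y⁻¹ ∈ V) ∧
      ∀ W : Subgroup B, W ≤ V → W ≠ ⊥ → (∀ y ∈ Y, ∀ w ∈ W, y * w * y⁻¹ ∈ W) → W = V := by
  classical
  have := Fact.mk hp
  let P : Set (Subgroup B) := {V | V ≠ ⊥ ∧ V ≤ S ∧ (∀ v ∈ V, ∀ s ∈ S, s * v = v * s) ∧
      (∀ y ∈ Y, ∀ v ∈ V, y * v * y⁻¹ ∈ V)}
  have hne : P.Nonempty := by
    refine ⟨(Subgroup.center S).map S.subtype, ?_, ?_, ?_, ?_⟩
    · have hnt : Nontrivial S := S.nontrivial_iff_ne_bot.mpr hS1
      have h1 := hS.center_nontrivial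
      rw [Subgroup.nontrivial_iff_ne_bot] at h1
      intro h2
      apply h1
      rw [Subgroup.map_eq_bot_iff] at h2
      rw [eq_bot_iff]
      refine h2.trans ?_
      rw [Subgroup.ker_subtype]
    · rintro _ ⟨v, -, rfl⟩
      exact v.2
    · rintro _ ⟨v, hv, rfl⟩ s hs
      exact congrArg Subtype.val (Subgroup.mem_center_iff.mp hv ⟨s, hs⟩)
    · rintro y hy _ ⟨v, hv, rfl⟩
      refine ⟨⟨y * v * y⁻¹, hYS y hy v v.2⟩, ?_, rfl⟩
      change _ ∈ Subgroup.center S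
      rw [Subgroup.mem_center_iff]
      intro s
      apply Subtype.ext
      have h1 : y⁻¹ * (s : B) * y ∈ S := by
        have := hYS y⁻¹ (Y.inv_mem hy) s s.2
        rwa [inv_inv] at this
      have h2 := congrArg Subtype.val (Subgroup.mem_center_iff.mp hv ⟨_, h1⟩)
      simp only [Subgroup.coe_mul] at h2 ⊢
      have h3 : (s : B) * (y * v * y⁻¹) = y * ((y⁻¹ * s * y) * v) * y⁻¹ := by group
      rw [h3, h2]
      group
  obtain ⟨V, hV, hmin⟩ := WellFounded.has_min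
    (InvImage.wf (fun V : Subgroup B => Nat.card V) Nat.lt_wfRel.wf) P hne
  refine ⟨V, hV.1, hV.2.1, hV.2.2.1, hV.2.2.2, ?_⟩
  intro W hWV hW hWY
  have hWP : W ∈ P := ⟨hW, hWV.trans hV.2.1, fun v hv => hV.2.2.1 v (hWV hv), hWY⟩
  have h1 : ¬ (Nat.card W < Nat.card V) := hmin W hWP
  exact Subgroup.eq_of_le_of_card_ge hWV (not_lt.mp h1)

theorem eq_one_of_pgroup [Finite B] [Finite K] {p : ℕ} (hp : p.Prime) (hj : Function.Injective j)
    (hK : ¬ p ∣ Nat.card K) {S : Subgroup B} (hS : IsPGroup p S) {k : K} (hk : j k ∈ S) :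
    k = 1 := by
  obtain ⟨a, ha⟩ := hS ⟨j k, hk⟩
  have h1 : (j k) ^ p ^ a = 1 := congrArg Subtype.val ha
  have h2 : k ^ p ^ a = 1 := hj (by rw [map_pow, h1, map_one])
  have h3 : orderOf k ∣ p ^ a := orderOf_dvd_of_pow_eq_one h2
  have h4 : orderOf k ∣ Nat.card K := orderOf_dvd_natCard k
  by_contra hne
  have h5 : orderOf k ≠ 1 := fun h => hne (orderOf_eq_one_iff.mp h)
  rcases Nat.eq_zero_or_pos a with h | h
  · rw [h, pow_zero, Nat.dvd_one] at h3
    exact h5 h3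
  · obtain ⟨q, hq, hqd⟩ := Nat.exists_prime_and_dvd h5
    have h6 : q ∣ p ^ a := hqd.trans h3
    have h7 : q ∣ p := hq.dvd_of_dvd_pow h6
    have h8 : q = p := (Nat.prime_dvd_prime_iff_eq hq hp).mp h7
    exact hK (h8 ▸ hqd.trans h4)

/-- `Y` and `S` as in the pair theorem. -/
structure Act [Fintype K] {C : Type w} [Group C] [Fintype C] (p : ℕ) (j : K →* B) (i : C →* K)
    (η : K → ℂ) (ζ : C → ℂ) (S Y : Subgroup B) : Prop where
  fxd : Fxd p j i S
  pK : ¬ p ∣ Nat.card K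
  irr : IsIrrCharacter K η
  irr' : IsIrrCharacter C ζ
  fS : ∀ s ∈ S, Fx j η s
  rel : ∃ m : ℕ, classInner (fun c => η (i c)) ζ = m ∧ ¬ p ∣ m
  nz : ∀ y ∈ Y, Nz j y
  fx : ∀ y ∈ Y, Fx j η y
  YS : ∀ y ∈ Y, ∀ s ∈ S, y * s * y⁻¹ ∈ S
  comm : ∀ g ∈ Y, ∀ h ∈ Y, ∃ c, j (i c) = g * h * g⁻¹ * h⁻¹
  pY : ∀ y ∈ Y, ¬ p ∣ orderOf y

variable [Finite B] [Fintype K] {C : Type w} [Group C] [Fintype C] {p : ℕ} {i : C →* K}
  {η : K → ℂ} {ζ : C → ℂ} {S Y : Subgroup B}

theorem Act.YS' (A : Act p j i η ζ S Y) : ∀ y ∈ Y, ∀ s ∈ S, y⁻¹ * s * y ∈ S := by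
  intro y hy s hs
  have := A.YS y⁻¹ (Y.inv_mem hy) s hs
  rwa [inv_inv] at this

theorem Act.good (A : Act p j i η ζ S Y) : Good j i η ζ Y := by
  obtain ⟨m, hm, hpm⟩ := A.rel
  refine ⟨A.fxd.inj, A.fxd.inj.comp A.fxd.inj', A.irr, A.irr', A.nz, ?_, A.fx, ?_, A.comm⟩
  · intro y hy
    exact A.fxd.nz_comp (A.nz y hy) (A.YS' y hy) (A.YS y hy)
  · intro y hy
    exact A.fxd.corr_inv A.pK A.irr A.fS A.irr' hm hpm (A.nz y hy) (A.YS' y hy) (A.YS y hy)
      (A.fx y hy)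

/-- The base case. -/
theorem Act.base (A : Act p j i η ζ S Y) (hS : S = ⊥) {g h : B} (hg : g ∈ Y) (hh : h ∈ Y) :
    Pr j i η ζ g h := by
  have hsurj : Function.Surjective i := by
    intro k
    have := (A.fxd.fix k).mp (by
      intro s hs
      rw [hS, Subgroup.mem_bot] at hs
      rw [hs]
      simp)
    exact this
  have h1 : IsIrrCharacter C (fun c => η (i c)) := isIrrCharacter_comp_surjective A.irr i hsurj
  obtain ⟨m, hm, hpm⟩ := A.rel
  have h2 : (⟨fun c => η (i c), h1⟩ : IrrCharacter C) = ⟨ζ, A.irr'⟩ := by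
    by_contra hne
    have h3 := classInner_irr_of_ne hne
    rw [hm] at h3
    have h4 : m = 0 := by exact_mod_cast h3
    exact hpm (h4 ▸ dvd_zero p)
  have h3 : (fun c => η (i c)) = ζ := congrArg Subtype.val h2
  intro t t' ht ht'
  obtain ⟨c₀, hc₀⟩ := A.comm g hg h hh
  have h4 := CC.restrict i h1 A.fxd.inj hc₀ ht
  rw [h3] at h4
  exact CC.unique A.good.inj' (A.good.nz' g hg) (A.good.nz' h hh) h4 ht'

end Cfsg.Agent.H76.Twc
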