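import Cfsg.Agent.H76.Twc5

/-!
# Commutator scalars and the Glauberman correspondence: the pair theorem (induction)
-/

set_option autoImplicit false
set_option linter.unusedSectionVars false
set_option linter.unusedFintypeInType false

namespace Cfsg.Agent.H76.Twc

open scoped ComplexConjugate
open Cfsg Cfsg.Agent.CharBase Cfsg.Agent.Char

universe u v w

variable {B : Type u} [Group B] {K : Type v} [Group K] {j : K →* B}

/-- the elements of `K` centralised by `V` -/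
def cK (j : K →* B) (V : Subgroup B) : Subgroup K where
  carrier := {k | ∀ s ∈ V, s * j k * s⁻¹ = j k}
  one_mem' := by intro s _; simp
  mul_mem' := by
    intro a b ha hb s hs
    rw [map_mul]
    have : s * (j a * j b) * s⁻¹ = (s * j a * s⁻¹) * (s * j b * s⁻¹) := by group
    rw [this, ha s hs, hb s hs]
  inv_mem' := by
    intro a ha s hs
    have : s * (j a)⁻¹ * s⁻¹ = (s * j a * s⁻¹)⁻¹ := by group
    rw [map_inv, this, ha s hs]

theorem mem_cK {V : Subgroup B} {k : K} : k ∈ cK j V ↔ ∀ s ∈ V, s * j k * s⁻¹ = j k := Iff.rfl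

theorem coe_mem_normalizer {V : Subgroup B} (c : cK j V) :
    j c ∈ Subgroup.normalizer (V : Set B) := by
  have hc : ∀ s ∈ V, s * j c = j c * s := by
    intro s hs
    have := c.2 s hs
    rw [mul_inv_eq_iff_eq_mul] at this
    exact this
  rw [Subgroup.mem_normalizer_iff]
  intro h
  constructor
  · intro hh
    rw [← hc h hh, mul_inv_cancel_right]
    exact hh
  · intro hh
    have h1 := hc _ hh
    have h2 : h = j c * h * (j c)⁻¹ := by
      have h3 : (j c * h * (j c)⁻¹) * j c = j c * h := by group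
      rw [h3] at h1
      exact mul_left_cancel (a := j c) (by rw [← h1])
    rw [h2]
    exact hh

/-- `cK j V → N(V)` -/
def j1 (j : K →* B) (V : Subgroup B) : cK j V →* Subgroup.normalizer (V : Set B) where
  toFun c := ⟨j c, coe_mem_normalizer c⟩
  map_one' := Subtype.ext (map_one j)
  map_mul' a b := Subtype.ext (map_mul j (a : K) b)

theorem mem_normalizer_of [Finite B] {Y V : Subgroup B} (hYV : ∀ y ∈ Y, ∀ v ∈ V, y * v * y⁻¹ ∈ V) :
    Y ≤ Subgroup.normalizer (V : Set B) := by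
  intro y hy
  rw [Subgroup.mem_normalizer_iff]
  intro h
  constructor
  · exact hYV y hy h
  · intro hh
    have := hYV y⁻¹ (Y.inv_mem hy) _ hh
    have h2 : y⁻¹ * (y * h * y⁻¹) * y⁻¹⁻¹ = h := by group
    rwa [h2] at this

variable [Finite B] [Fintype K] {C : Type w} [Group C] [Fintype C] {p : ℕ} {i : C →* K}
  {η : K → ℂ} {ζ : C → ℂ} {S Y : Subgroup B}

theorem Act.fxd1 (A : Act p j i η ζ S Y) {V : Subgroup B} (hVS : V ≤ S) :
    Fxd p j (cK j V).subtype V := by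
  refine ⟨A.fxd.prime, A.fxd.inj, Subgroup.subtype_injective _, A.fxd.pg.to_le hVS, ?_, ?_⟩
  · intro s hs
    exact A.fxd.nz s (hVS hs)
  · intro k
    rw [Subgroup.range_subtype]
    exact Iff.rfl

/-- `C → cK j V` -/
def Act.i' (A : Act p j i η ζ S Y) {V : Subgroup B} (hVS : V ≤ S) : C →* cK j V where
  toFun c := ⟨i c, fun s hs => (A.fxd.fix (i c)).mpr ⟨c, rfl⟩ s (hVS hs)⟩
  map_one' := Subtype.ext (map_one i)
  map_mul' a b := Subtype.ext (map_mul i a b)

/-- The descent to `N(V)/V`. -/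
theorem Act.descend (A : Act p j i η ζ S Y) {V : Subgroup B} (hV : V ≠ ⊥) (hVS : V ≤ S)
    (hVc : ∀ v ∈ V, ∀ s ∈ S, s * v = v * s) (hYV : ∀ y ∈ Y, ∀ v ∈ V, y * v * y⁻¹ ∈ V) :
    ∃ (B' : Type u) (_ : Group B') (_ : Finite B') (K' : Type v) (_ : Group K') (_ : Fintype K')
      (j' : K' →* B') (i' : C →* K') (η' : K' → ℂ) (S' Y' : Subgroup B'),
      Act p j' i' η' ζ S' Y' ∧ Nat.card S' < Nat.card S ∧
      ∀ v ∈ Y, (∀ s ∈ V, s * v = v * s) → ∀ w ∈ Y, ∃ v' ∈ Y', ∃ w' ∈ Y',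
        (Pr j' i' η' ζ v' w' → Pr j i η ζ v w) := by
  classical
  have hp := A.fxd.prime
  have F1 := A.fxd1 hVS
  obtain ⟨m, hm, hpm⟩ := A.rel
  obtain ⟨φ, hφ⟩ := exists_act A.fxd.inj V F1.nz
  have : Fintype (cK j V) := Fintype.ofFinite _
  obtain ⟨η1, m1, hm1, hpm1, -, hu1⟩ := Glaub.existsUnique_below (F1.isFix hφ) hp F1.pg A.pK
    ⟨η, A.irr⟩ (fun s k => A.fS s (hVS s.2) k _ (hφ s k))
  let N := Subgroup.normalizer (V : Set B)
  have hVN : V ≤ N := Subgroup.le_normalizer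
  have hSV : ∀ s ∈ S, ∀ v ∈ V, s * v * s⁻¹ ∈ V := by
    intro s hs v hv
    rw [hVc v hv s hs, mul_inv_cancel_right]
    exact hv
  have hSV' : ∀ s ∈ S, ∀ v ∈ V, s⁻¹ * v * s ∈ V := by
    intro s hs v hv
    rw [hVc v hv s⁻¹ (S.inv_mem hs), inv_mul_cancel_right]
    exact hv
  have hYV' : ∀ y ∈ Y, ∀ v ∈ V, y⁻¹ * v * y ∈ V := by
    intro y hy v hv
    have := hYV y⁻¹ (Y.inv_mem hy) v hv
    rwa [inv_inv] at this
  have hSN : S ≤ N := mem_normalizer_of hSV
  have hYN : Y ≤ N := mem_normalizer_of hYV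
  let VN : Subgroup N := V.subgroupOf N
  have hVNn : VN.Normal := Subgroup.normal_in_normalizer
  let π : N →* N ⧸ VN := QuotientGroup.mk' VN
  let jN : cK j V →* N := j1 j V
  let j' : cK j V →* N ⧸ VN := π.comp jN
  let i' : C →* cK j V := A.i' hVS
  have hjN : N.subtype.comp jN = j.comp (cK j V).subtype := rfl
  have hjNi : Function.Injective jN := fun a b hab =>
    Subtype.ext (A.fxd.inj (congrArg Subtype.val hab))
  have hj'i : Function.Injective j' := by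
    intro a b hab
    have h1 : (jN a)⁻¹ * jN b ∈ VN := QuotientGroup.eq.mp hab
    have h2 : j ((a : K)⁻¹ * b) ∈ V := by
      rw [map_mul, map_inv]
      exact h1
    have h3 := eq_one_of_pgroup hp A.fxd.inj A.pK F1.pg h2
    exact Subtype.ext (inv_mul_eq_one.mp h3)
  -- normalising elements
  have nzN : ∀ z : N, Nz j (z : B) → Nz jN z := by
    intro z hz
    have hzV : ∀ s ∈ V, (z : B) * s * (z : B)⁻¹ ∈ V := fun s hs =>
      (Subgroup.mem_normalizer_iff.mp z.2 s).mp hs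
    have hzV' : ∀ s ∈ V, (z : B)⁻¹ * s * (z : B) ∈ V := fun s hs => by
      have := (Subgroup.mem_normalizer_iff.mp (N.inv_mem z.2) s).mp hs
      rwa [inv_inv] at this
    have h1 : Nz (N.subtype.comp jN) (N.subtype z) := by
      rw [hjN]
      exact F1.nz_comp hz hzV' hzV
    exact h1.of_map N.subtype_injective
  have fxN : ∀ z : N, Nz j (z : B) → Fx j η z → Fx jN (η1 : cK j V → ℂ) z := by
    intro z hz hzη
    have hzV : ∀ s ∈ V, (z : B) * s * (z : B)⁻¹ ∈ V := fun s hs =>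
      (Subgroup.mem_normalizer_iff.mp z.2 s).mp hs
    have hzV' : ∀ s ∈ V, (z : B)⁻¹ * s * (z : B) ∈ V := fun s hs => by
      have := (Subgroup.mem_normalizer_iff.mp (N.inv_mem z.2) s).mp hs
      rwa [inv_inv] at this
    have h1 : Fx (N.subtype.comp jN) (η1 : cK j V → ℂ) (N.subtype z) := by
      rw [hjN]
      exact F1.corr_inv A.pK A.irr (fun s hs => A.fS s (hVS hs)) η1.2 hm1 hpm1 hz hzV' hzV hzη
    exact h1.of_map
  let S' : Subgroup (N ⧸ VN) := (S.subgroupOf N).map π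
  let Y' : Subgroup (N ⧸ VN) := (Y.subgroupOf N).map π
  have F' : Fxd p j' i' S' := by
    refine ⟨hp, hj'i, ?_, ?_, ?_, ?_⟩
    · intro a b hab
      exact A.fxd.inj' (congrArg Subtype.val hab)
    · refine IsPGroup.map ?_ π
      exact A.fxd.pg.comap_of_injective N.subtype N.subtype_injective
    · rintro _ ⟨s, hs, rfl⟩
      exact (nzN s (A.fxd.nz s hs)).map π
    · intro c
      constructor
      · intro h1
        have h2 : (c : K) ∈ i.range := by
          rw [← A.fxd.fix]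
          intro s hs
          obtain ⟨c2, hc2⟩ := (nzN ⟨s, hSN hs⟩ (A.fxd.nz s hs)).1 c
          have h3 := h1 (π ⟨s, hSN hs⟩) ⟨⟨s, hSN hs⟩, hs, rfl⟩
          have h4 : j' c2 = j' c := by
            rw [← h3]
            change π (jN c2) = π ⟨s, hSN hs⟩ * π (jN c) * (π ⟨s, hSN hs⟩)⁻¹
            rw [hc2, map_mul, map_mul, map_inv]
          have h5 : c2 = c := hj'i h4
          rw [h5] at hc2
          exact (congrArg Subtype.val hc2).symm
        obtain ⟨d, hd⟩ := h2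
        exact ⟨d, Subtype.ext hd⟩
      · rintro ⟨d, rfl⟩ _ ⟨s, hs, rfl⟩
        have h1 := (A.fxd.fix (i d)).mpr ⟨d, rfl⟩ s hs
        change π s * π (jN (i' d)) * (π s)⁻¹ = π (jN (i' d))
        rw [← map_inv, ← map_mul, ← map_mul]
        congr 1
        exact Subtype.ext h1
  have hp1 : ¬ p ∣ Nat.card (cK j V) := fun h => A.pK (h.trans (Subgroup.card_subgroup_dvd_card _))
  obtain ⟨m', hm', hpm'⟩ := not_dvd_of_comp (i1 := (cK j V).subtype) (i' := i')
    (isCharacter_of_isIrr A.irr) hu1 A.irr' hm hpm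
  have A' : Act p j' i' (η1 : cK j V → ℂ) ζ S' Y' := by
    refine ⟨F', hp1, η1.2, A.irr', ?_, ⟨m', hm', hpm'⟩, ?_, ?_, ?_, ?_, ?_⟩
    · rintro _ ⟨s, hs, rfl⟩
      exact (fxN s (A.fxd.nz s hs) (A.fS s hs)).map π hj'i (nzN s (A.fxd.nz s hs))
    · rintro _ ⟨s, hs, rfl⟩
      exact (nzN s (A.nz s hs)).map π
    · rintro _ ⟨s, hs, rfl⟩
      exact (fxN s (A.nz s hs) (A.fx s hs)).map π hj'i (nzN s (A.nz s hs))
    · rintro _ ⟨y, hy, rfl⟩ _ ⟨s, hs, rfl⟩
      exact ⟨y * s * y⁻¹, A.YS y hy s hs, by rw [map_mul, map_mul, map_inv]⟩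
    · rintro _ ⟨y, hy, rfl⟩ _ ⟨s, hs, rfl⟩
      obtain ⟨c, hc⟩ := A.comm y hy s hs
      refine ⟨c, ?_⟩
      change π (jN (i' c)) = _
      rw [← map_inv, ← map_inv, ← map_mul, ← map_mul, ← map_mul]
      congr 1
      exact Subtype.ext hc
    · rintro _ ⟨y, hy, rfl⟩ hd
      apply A.pY y hy
      rw [Subgroup.orderOf_coe]
      exact hd.trans (orderOf_map_dvd π y)
  refine ⟨N ⧸ VN, inferInstance, inferInstance, cK j V, inferInstance, inferInstance, j', i',
    η1, S', Y', A', ?_, ?_⟩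
  · -- cardinality
    by_contra hge
    rw [not_lt] at hge
    let f : S → S' := fun s => ⟨π ⟨s, hSN s.2⟩, ⟨s, hSN s.2⟩, s.2, rfl⟩
    have hf : Function.Surjective f := by
      rintro ⟨_, s, hs, rfl⟩
      exact ⟨⟨s, hs⟩, rfl⟩
    have hbij := hf.bijective_of_nat_card_le hge
    obtain ⟨v, hv1⟩ := (Subgroup.ne_bot_iff_exists_ne_one).mp hV
    have h1 : f ⟨v, hVS v.2⟩ = f 1 := by
      apply Subtype.ext
      change π ⟨v, _⟩ = π 1
      rw [map_one]
      exact (QuotientGroup.eq_one_iff _).mpr (show (v : B) ∈ V from v.2)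
    have h2 := hbij.1 h1
    apply hv1
    have h3 : (v : B) = 1 := congrArg Subtype.val h2
    exact Subtype.ext h3
  · intro v hv hvV w hw
    refine ⟨π ⟨v, hYN hv⟩, ⟨⟨v, hYN hv⟩, hv, rfl⟩, π ⟨w, hYN hw⟩, ⟨⟨w, hYN hw⟩, hw, rfl⟩, ?_⟩
    intro hPr t t' ht ht'
    obtain ⟨c₀, hc₀⟩ := A.comm v hv w hw
    have nv := A.nz v hv
    have nw := A.nz w hw
    have hvV' : ∀ s ∈ V, v⁻¹ * s * v ∈ V := hYV' v hv
    have hvV'' : ∀ s ∈ V, v * s * v⁻¹ ∈ V := hYV v hv
    have nv1 := F1.nz_comp nv (hYV' v hv) (hYV v hv)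
    have nw1 := F1.nz_comp nw (hYV' w hw) (hYV w hw)
    have hfS1 : ∀ s ∈ V, Fx j η s := fun s hs => A.fS s (hVS hs)
    have fv1 := F1.corr_inv A.pK A.irr hfS1 η1.2 hm1 hpm1 nv (hYV' v hv) (hYV v hv) (A.fx v hv)
    have fw1 := F1.corr_inv A.pK A.irr hfS1 η1.2 hm1 hpm1 nw (hYV' w hw) (hYV w hw) (A.fx w hw)
    have hjj : Function.Injective (j.comp (cK j V).subtype) :=
      A.fxd.inj.comp (Subgroup.subtype_injective _)
    obtain ⟨t1, -, ht1⟩ := CC.exists' hjj η1.2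
      nv1 nw1 fv1 fw1 (k₀ := i' c₀) hc₀
    have e1 : t = t1 := F1.step A.irr hfS1 η1.2 hm1 hpm1 nv nw
      (not_dvd_Wx hp A.fxd.inj A.pK nv (A.pY v hv)) hvV (hYV' w hw) (hYV w hw) (A.fx v hv)
      (A.fx w hw) (c₀ := i' c₀) hc₀ ht ht1
    -- to `N`
    have nvN := nzN ⟨v, hYN hv⟩ nv
    have nwN := nzN ⟨w, hYN hw⟩ nw
    have hcN : jN (i' c₀) = (⟨v, hYN hv⟩ : N) * ⟨w, hYN hw⟩ * (⟨v, hYN hv⟩ : N)⁻¹ *
        (⟨w, hYN hw⟩ : N)⁻¹ := Subtype.ext hc₀
    have a1 : CC jN (η1 : cK j V → ℂ) (⟨v, hYN hv⟩ : N) ⟨w, hYN hw⟩ t1 :=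
      (CC.map_iff N.subtype hjj nvN nwN hcN).mpr ht1
    have a2 : CC j' (η1 : cK j V → ℂ) (π ⟨v, hYN hv⟩) (π ⟨w, hYN hw⟩) t1 :=
      (CC.map_iff π hj'i nvN nwN hcN).mp a1
    -- the other side
    have hji := A.good.inj'
    have nv2 := A.good.nz' v hv
    have nw2 := A.good.nz' w hw
    have nvN2 : Nz (jN.comp i') (⟨v, hYN hv⟩ : N) :=
      Nz.of_map (f := N.subtype) N.subtype_injective nv2
    have nwN2 : Nz (jN.comp i') (⟨w, hYN hw⟩ : N) :=
      Nz.of_map (f := N.subtype) N.subtype_injective nw2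
    have b1 : CC (jN.comp i') ζ (⟨v, hYN hv⟩ : N) ⟨w, hYN hw⟩ t' :=
      (CC.map_iff N.subtype hji nvN2 nwN2 (k₀ := c₀) hcN).mpr ht'
    have hj'i' : Function.Injective (π.comp (jN.comp i')) := fun a b hab =>
      F'.inj' (hj'i hab)
    have b2 : CC (j'.comp i') ζ (π ⟨v, hYN hv⟩) (π ⟨w, hYN hw⟩) t' :=
      (CC.map_iff π hj'i' nvN2 nwN2 (k₀ := c₀) hcN).mp b1
    rw [e1]
    exact hPr t1 t' a2 b2

theorem pair_aux (p : ℕ) {C : Type w} [Group C] [Fintype C] (ζ : C → ℂ) : ∀ (n : ℕ)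
    (B : Type u) [Group B] [Finite B] (K : Type v) [Group K] [Fintype K] (j : K →* B) (i : C →* K)
    (η : K → ℂ) (S Y : Subgroup B), Nat.card S = n → Act p j i η ζ S Y →
    ∀ g ∈ Y, ∀ h ∈ Y, Pr j i η ζ g h := by
  intro n
  induction n using Nat.strong_induction_on with
  | _ n ih =>
    intro B _ _ K _ _ j i η S Y hn A g hg h hh
    by_cases hS : S = ⊥
    · exact A.base hS hg hh
    · obtain ⟨V, hV, hVS, hVc, hYV, hirr⟩ := exists_S1 A.fxd.prime A.fxd.pg hS A.YS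
      obtain ⟨B', _, _, K', _, _, j', i', η', S', Y', A', hcard, hred⟩ :=
        A.descend hV hVS hVc hYV
      have key : ∀ v ∈ Y, (∀ s ∈ V, s * v = v * s) → ∀ w ∈ Y, Pr j i η ζ v w := by
        intro v hv hvV w hw
        obtain ⟨v', hv', w', hw', hred'⟩ := hred v hv hvV w hw
        exact hred' (ih _ (hn ▸ hcard) B' K' j' i' η' S' Y' rfl A' v' hv' w' hw')
      obtain ⟨u, hu, m, k, h1, h2⟩ := exists_common hV
        (fun a ha b hb => hVc b hb a (hVS ha)) hYV (by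
          intro g hg h hh v hv
          obtain ⟨c, hc⟩ := A.comm g hg h hh
          have h3 := (A.fxd.fix (i c)).mpr ⟨c, rfl⟩ v (hVS hv)
          rw [mul_inv_eq_iff_eq_mul] at h3
          rw [← hc, h3]) hirr hg hh
      refine A.good.main hg hh hu m k ?_ ?_
      · exact key _ (Y.mul_mem hg (Y.inv_mem (Y.zpow_mem hu m))) (fun s hs => (h1 s hs).symm)
      · exact key _ (Y.mul_mem hh (Y.inv_mem (Y.zpow_mem hu k))) (fun s hs => (h2 s hs).symm)

/-- The pair theorem: commutator scalars are compatible with the Glauberman correspondence. -/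
theorem Act.pair (A : Act p j i η ζ S Y) {g h : B} (hg : g ∈ Y) (hh : h ∈ Y) :
    Pr j i η ζ g h := pair_aux p ζ _ B K j i η S Y rfl A g hg h hh

end Cfsg.Agent.H76.Twc
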