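import Cfsg.Agent.H76.Twc6

/-!
# Averages over irreducible representations
-/

set_option autoImplicit false
set_option linter.unusedSectionVars false
set_option linter.unusedFintypeInType false

namespace Cfsg.Agent.H76.Twc

open scoped ComplexConjugate
open Cfsg Cfsg.Agent.CharBase Cfsg.Agent.Char

universe u v w

section Avg

variable {G : Type u} [Group G] [Fintype G] {n : ℕ} {ρ : Representation ℂ G (Fin n → ℂ)}

theorem avg (hρ : ρ.IsIrreducible) (A : Module.End ℂ (Fin n → ℂ)) :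
    ∑ g : G, ρ g * A * ρ g⁻¹ =
      ((Fintype.card G : ℂ) * LinearMap.trace ℂ _ A / n) • (1 : Module.End ℂ (Fin n → ℂ)) := by
  classical
  have hnt := nontrivial_of_irreducible_rep ρ hρ
  have hn : (n : ℂ) ≠ 0 := by
    rintro h
    have h1 : n = 0 := by exact_mod_cast h
    subst h1
    exact not_subsingleton (Fin 0 → ℂ) inferInstance
  obtain ⟨c, hc⟩ := exists_smul_one_of_commute ρ hρ (∑ g : G, ρ g * A * ρ g⁻¹) (by
    intro h
    rw [Finset.sum_mul, Finset.mul_sum]
    refine Fintype.sum_equiv (Equiv.mulLeft h⁻¹) _ _ fun g => ?_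
    have h1 : (h⁻¹ * g)⁻¹ = g⁻¹ * h := by group
    rw [Equiv.coe_mulLeft, h1, map_mul ρ g⁻¹ h]
    have h2 : ρ g = ρ h * ρ (h⁻¹ * g) := by
      rw [← map_mul]
      congr 1
      group
    rw [h2]
    simp only [mul_assoc])
  have h1 := congrArg (LinearMap.trace ℂ (Fin n → ℂ)) hc
  rw [map_sum, map_smul, LinearMap.trace_one, Module.finrank_fin_fun, smul_eq_mul] at h1
  have h2 : ∀ g : G, LinearMap.trace ℂ (Fin n → ℂ) (ρ g * A * ρ g⁻¹) =
      LinearMap.trace ℂ (Fin n → ℂ) A := by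
    intro g
    rw [LinearMap.trace_mul_comm, ← mul_assoc, ← map_mul, inv_mul_cancel, map_one, one_mul]
  simp only [h2, Finset.sum_const, Finset.card_univ, nsmul_eq_mul] at h1
  rw [hc, h1, mul_div_assoc, div_self hn, mul_one]

/-- matrix version of `trace (ρ g * Y) * trace (Z * ρ g⁻¹)` -/
theorem sum_tr_tr (hρ : ρ.IsIrreducible) (Y Z : Module.End ℂ (Fin n → ℂ)) :
    ∑ g : G, LinearMap.trace ℂ _ (ρ g * Y) * LinearMap.trace ℂ _ (Z * ρ g⁻¹) =
      ((Fintype.card G : ℂ) / n) * LinearMap.trace ℂ _ (Z * Y) := by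
  classical
  let T := LinearMap.toMatrixAlgEquiv (Pi.basisFun ℂ (Fin n))
  have htr : ∀ A : Module.End ℂ (Fin n → ℂ), LinearMap.trace ℂ _ A = (T A).trace := by
    intro A
    exact LinearMap.trace_eq_matrix_trace ℂ (Pi.basisFun ℂ (Fin n)) A
  have key : ∀ g : G, LinearMap.trace ℂ _ (ρ g * Y) * LinearMap.trace ℂ _ (Z * ρ g⁻¹) =
      ∑ l : Fin n, ∑ k : Fin n,
        (T (ρ g * (Y * T.symm (Matrix.single l k 1) * Z) * ρ g⁻¹)) l k := by
    intro g
    rw [htr, htr, Matrix.trace, Matrix.trace, Finset.sum_mul_sum]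
    refine Finset.sum_congr rfl fun l _ => Finset.sum_congr rfl fun k _ => ?_
    have h1 : T (ρ g * (Y * T.symm (Matrix.single l k 1) * Z) * ρ g⁻¹) =
        T (ρ g * Y) * Matrix.single l k 1 * T (Z * ρ g⁻¹) := by
      simp only [map_mul, AlgEquiv.apply_symm_apply, mul_assoc]
    rw [h1, Matrix.diag_apply, Matrix.diag_apply]
    rw [Matrix.mul_apply, Finset.sum_eq_single k]
    · rw [Matrix.mul_apply, Finset.sum_eq_single l]
      · simp
      · intro b _ hb
        simp [hb.symm]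
      · simp
    · intro b _ hb
      rw [Matrix.mul_apply, Finset.sum_eq_zero, zero_mul]
      intro a _
      simp [hb.symm]
    · simp
  simp only [key]
  rw [Finset.sum_comm]
  have h2 : ∀ l : Fin n, ∑ g : G, ∑ k : Fin n,
      (T (ρ g * (Y * T.symm (Matrix.single l k 1) * Z) * ρ g⁻¹)) l k =
      ((Fintype.card G : ℂ) / n) *
        LinearMap.trace ℂ _ (Y * T.symm (Matrix.single l l 1) * Z) := by
    intro l
    rw [Finset.sum_comm]
    have h3 : ∀ k : Fin n, ∑ g : G,
        (T (ρ g * (Y * T.symm (Matrix.single l k 1) * Z) * ρ g⁻¹)) l k =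
        ((Fintype.card G : ℂ) * LinearMap.trace ℂ _ (Y * T.symm (Matrix.single l k 1) * Z) / n) *
          (1 : Matrix (Fin n) (Fin n) ℂ) l k := by
      intro k
      rw [← Matrix.sum_apply, ← map_sum, avg hρ, map_smul, map_one, Matrix.smul_apply,
        smul_eq_mul]
    simp only [h3]
    rw [Finset.sum_eq_single l]
    · rw [Matrix.one_apply_eq]
      ring
    · intro b _ hb
      rw [Matrix.one_apply_ne hb.symm, mul_zero]
    · simp
  simp only [h2]
  rw [← Finset.mul_sum, ← map_sum]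
  congr 1
  have h4 : ∑ l : Fin n, Y * T.symm (Matrix.single l l 1) * Z = Y * Z := by
    rw [← Finset.sum_mul, ← Finset.mul_sum, ← map_sum]
    have h5 : ∑ l : Fin n, (Matrix.single l l (1 : ℂ) : Matrix (Fin n) (Fin n) ℂ) = 1 := by
      ext a b
      rw [Matrix.sum_apply]
      by_cases hab : a = b
      · subst hab
        rw [Finset.sum_eq_single a]
        · simp
        · intro c _ hc
          simp [hc]
        · simp
      · rw [Matrix.one_apply_ne hab]
        refine Finset.sum_eq_zero fun c _ => ?_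
        rw [Matrix.single_apply, if_neg]
        rintro ⟨h6, h7⟩
        exact hab (h6.symm.trans h7)
    rw [h5, map_one, mul_one]
  rw [h4, LinearMap.trace_mul_comm]

end Avg

section Coset

variable {B : Type u} [Group B] {K : Type v} [Group K] {j : K →* B}

theorem CC.mul_left [Finite K] (hj : Function.Injective j) {η : K → ℂ} {x y z : B} {t s : ℂ}
    (hx : Nz j x) (hy : Nz j y) (hz : Nz j z) (hyη : Fx j η y)
    (h : CC j η x z t) (h' : CC j η y z s) : CC j η (x * y) z (t * s) := by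
  have h1 := (CC.mul_right hj hz hx hy hyη h.symm h'.symm).symm
  rwa [mul_inv, inv_inv, inv_inv] at h1

theorem CC.coset [Finite K] (hj : Function.Injective j) {η : K → ℂ} (hη : IsIrrCharacter K η)
    {x y : B} {t : ℂ} (hx : Nz j x) (hy : Nz j y) (hxη : Fx j η x) (hyη : Fx j η y)
    (h : CC j η x y t) (m n : K) : CC j η (j m * x) (j n * y) t := by
  have hcl := isClassFunction_of_isCharacter (isCharacter_of_isIrr hη)
  have h1 : CC j η (j m * x) y (1 * t) :=
    CC.mul_left hj (Nz.coe m) hx hy hxη (CC.coe_left hj hη m hy hyη) h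
  have hmx : Nz j (j m * x) := (Nz.coe m).mul hx
  have hmxη : Fx j η (j m * x) := Fx.mul hx (Fx.coe hj hcl m) hxη
  have h2 := CC.mul_right hj hmx (Nz.coe n) hy hyη (CC.coe_left hj hη n hmx hmxη).symm h1
  rwa [inv_one, one_mul, one_mul] at h2

/-- The sum of `η` over the commutators of two cosets. -/
theorem coset_sum [Fintype K] (hj : Function.Injective j) {η : K → ℂ} (hη : IsIrrCharacter K η)
    {x y : B} {t : ℂ} (hx : Nz j x) (hy : Nz j y) (hxη : Fx j η x) (hyη : Fx j η y)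
    (h : CC j η x y t) (k : K → K → K)
    (hk : ∀ m n, j (k m n) = (j m * x) * (j n * y) * (j m * x)⁻¹ * (j n * y)⁻¹) :
    η 1 * ∑ m : K, ∑ n : K, η (k m n) = t⁻¹ * (Fintype.card K : ℂ) ^ 2 := by
  classical
  have ht := h.ne_zero
  have hcos := fun m n => CC.coset hj hη hx hy hxη hyη h m n
  obtain ⟨d, ρ, X, Y, k₀, hρ, hρη, hk₀, hX, hY, hXY⟩ := h
  have hnt := nontrivial_of_irreducible_rep ρ hρ
  have hd : (d : ℂ) ≠ 0 := by
    rintro h
    have h1 : d = 0 := by exact_mod_cast h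
    subst h1
    exact not_subsingleton (Fin 0 → ℂ) inferInstance
  have hη1 : η 1 = d := by
    rw [← hρη, Representation.char_one, Module.finrank_fin_fun]
  have e1 : ∀ m n, ρ (k m n) = t⁻¹ • (ρ m * (X * (ρ n * Y) * (X⁻¹ : (Module.End ℂ (Fin d → ℂ))ˣ)) *
      ρ m⁻¹ * ((Y⁻¹ : (Module.End ℂ (Fin d → ℂ))ˣ) * ρ n⁻¹)) := by
    intro m n
    have hX' : Tw j ρ (j m * x) (op ρ m * X) := (Tw.coe hj m).mul hX hx
    have hY' : Tw j ρ (j n * y) (op ρ n * Y) := (Tw.coe hj n).mul hY hy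
    have h1 := CC.forall' hj ((Nz.coe m).mul hx) ((Nz.coe n).mul hy) (hcos m n) hρ hρη (hk m n)
      hX' hY'
    have h2 : ρ (k m n) = t⁻¹ • ((op ρ m * X : (Module.End ℂ (Fin d → ℂ))ˣ) *
        (op ρ n * Y : (Module.End ℂ (Fin d → ℂ))ˣ) *
        ((op ρ m * X)⁻¹ : (Module.End ℂ (Fin d → ℂ))ˣ) *
        ((op ρ n * Y)⁻¹ : (Module.End ℂ (Fin d → ℂ))ˣ)) := by
      rw [h1, smul_mul_assoc, smul_mul_assoc, smul_smul, inv_mul_cancel₀ ht, one_smul]
      rw [mul_assoc, mul_assoc, mul_assoc, ← mul_assoc ((op ρ m * X :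
        (Module.End ℂ (Fin d → ℂ))ˣ) : Module.End ℂ (Fin d → ℂ)), Units.mul_inv, one_mul,
        Units.mul_inv, mul_one]
    rw [h2]
    congr 1
  have e2 : ∀ n, ∑ m : K, η (k m n) = t⁻¹ * ((Fintype.card K : ℂ) / d) *
      (LinearMap.trace ℂ (Fin d → ℂ) (ρ n * (Y : Module.End ℂ (Fin d → ℂ))) *
        LinearMap.trace ℂ (Fin d → ℂ)
          ((Y⁻¹ : (Module.End ℂ (Fin d → ℂ))ˣ) * ρ n⁻¹ : Module.End ℂ (Fin d → ℂ))) := by
    intro n
    have h1 : ∀ m, η (k m n) = LinearMap.trace ℂ _ (ρ (k m n)) := by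
      intro m
      rw [← hρη]
      rfl
    simp only [h1]
    rw [← map_sum]
    simp only [e1]
    rw [← Finset.smul_sum, ← Finset.sum_mul, avg hρ, map_smul, smul_mul_assoc, one_mul, map_smul,
      smul_eq_mul, smul_eq_mul]
    have h2 : LinearMap.trace ℂ (Fin d → ℂ) ((X : Module.End ℂ (Fin d → ℂ)) * (ρ n * Y) *
        ((X⁻¹ : (Module.End ℂ (Fin d → ℂ))ˣ) : Module.End ℂ (Fin d → ℂ))) =
        LinearMap.trace ℂ (Fin d → ℂ) (ρ n * (Y : Module.End ℂ (Fin d → ℂ))) := by
      rw [LinearMap.trace_mul_comm, ← mul_assoc, Units.inv_mul, one_mul]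
    rw [h2]
    ring
  rw [Finset.sum_comm]
  simp only [e2]
  rw [← Finset.mul_sum, sum_tr_tr hρ, Units.inv_mul, LinearMap.trace_one, Module.finrank_fin_fun,
    hη1]
  field_simp

end Coset

end Cfsg.Agent.H76.Twc
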