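import Cfsg.Agent.H76.Twd1

/-!
# Counting the characters over an invariant character
-/

set_option autoImplicit false
set_option linter.unusedSectionVars false
set_option linter.unusedFintypeInType false

namespace Cfsg.Agent.H76.Twc

open scoped ComplexConjugate
open Cfsg Cfsg.Agent.CharBase Cfsg.Agent.Char

universe u v w

variable {X : Type u} [Group X] [Fintype X] {K : Type v} [Group K] [Fintype K] {j : K →* X}

open Classical in
/-- number of pairs with given commutator -/
noncomputable def cF (g : X) : ℂ := ∑ x : X, ∑ y : X, if x * y * x⁻¹ * y⁻¹ = g then 1 else 0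

theorem cF_class : IsClassFunction X (cF : X → ℂ) := by
  classical
  intro g h
  unfold cF
  refine Fintype.sum_equiv (MulAut.conj h).symm.toEquiv _ _ fun x => ?_
  refine Fintype.sum_equiv (MulAut.conj h).symm.toEquiv _ _ fun y => ?_
  have h1 : (MulAut.conj h).symm.toEquiv x = h⁻¹ * x * h := by
    simp [MulAut.conj_symm_apply]
  have h2 : (MulAut.conj h).symm.toEquiv y = h⁻¹ * y * h := by
    simp [MulAut.conj_symm_apply]
  rw [h1, h2]
  congr 1
  apply propext
  constructor
  · intro e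
    have : h⁻¹ * x * h * (h⁻¹ * y * h) * (h⁻¹ * x * h)⁻¹ * (h⁻¹ * y * h)⁻¹ =
        h⁻¹ * (x * y * x⁻¹ * y⁻¹) * h := by group
    rw [this, e]
    group
  · intro e
    rw [← e]
    group

theorem sum_comm_char (χ : IrrCharacter X) :
    (χ : X → ℂ) 1 * ∑ x : X, ∑ y : X, (χ : X → ℂ) (x * y * x⁻¹ * y⁻¹) =
      (Fintype.card X : ℂ) ^ 2 := by
  have hcl := isClassFunction_of_isCharacter (irr_isCharacter χ)
  have hinj : Function.Injective (MonoidHom.id X) := fun a b h => h
  have h1 := coset_sum (j := MonoidHom.id X) hinj χ.2 Nz.one Nz.one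
    (by simpa using Fx.coe (j := MonoidHom.id X) hinj hcl 1)
    (by simpa using Fx.coe (j := MonoidHom.id X) hinj hcl 1)
    (CC.self_one hinj χ.2 Nz.one (by simpa using Fx.coe (j := MonoidHom.id X) hinj hcl 1))
    (fun m n => m * n * m⁻¹ * n⁻¹) (by intro m n; simp)
  rwa [inv_one, one_mul] at h1

theorem classInner_cF (χ : IrrCharacter X) :
    classInner (cF : X → ℂ) χ = (Fintype.card X : ℂ) / (χ : X → ℂ) 1 := by
  classical
  obtain ⟨d, hd⟩ := exists_nat_degree (irr_isCharacter χ)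
  have hd0 : (d : ℂ) ≠ 0 := by
    rw [← hd]
    exact irr_one_ne_zero χ.2
  have h1 := sum_comm_char χ
  have h2 : ∑ g : X, cF g * conj ((χ : X → ℂ) g) =
      ∑ x : X, ∑ y : X, conj ((χ : X → ℂ) (x * y * x⁻¹ * y⁻¹)) := by
    unfold cF
    simp only [Finset.sum_mul]
    rw [Finset.sum_comm]
    refine Finset.sum_congr rfl fun x _ => ?_
    rw [Finset.sum_comm]
    refine Finset.sum_congr rfl fun y _ => ?_
    rw [Finset.sum_eq_single (x * y * x⁻¹ * y⁻¹)]
    · simp
    · intro b _ hb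
      rw [if_neg hb.symm, zero_mul]
    · simp
  have h3 : (d : ℂ) * ∑ x : X, ∑ y : X, conj ((χ : X → ℂ) (x * y * x⁻¹ * y⁻¹)) =
      (Fintype.card X : ℂ) ^ 2 := by
    have h4 := congrArg (starRingEnd ℂ) h1
    rw [map_mul, map_pow, Complex.conj_natCast, hd, Complex.conj_natCast, map_sum] at h4
    simp only [map_sum] at h4
    exact h4
  have hX : (Fintype.card X : ℂ) ≠ 0 := by
    exact_mod_cast Fintype.card_ne_zero
  unfold classInner
  rw [h2, hd, Nat.card_eq_fintype_card]
  field_simp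
  linear_combination h3

/-- constituents of an invariant character, in hom-language -/
theorem res_eq_smul (hj : Function.Injective j) (hnz : ∀ x : X, Nz j x) {ξ : K → ℂ}
    (hξ : IsIrrCharacter K ξ) (hfx : ∀ x : X, Fx j ξ x) {χ : X → ℂ} (hχ : IsIrrCharacter X χ)
    (h : classInner (fun k => χ (j k)) ξ ≠ 0) (k : K) :
    χ (j k) = classInner (fun k => χ (j k)) ξ * ξ k := by
  classical
  have hn : j.range.Normal := by
    constructor
    rintro _ ⟨k, rfl⟩ g
    obtain ⟨k', hk'⟩ := (hnz g).1 k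
    exact ⟨k', hk'⟩
  have := Fintype.ofFinite j.range
  let e : K ≃* j.range := MonoidHom.ofInjective hj
  have he : ∀ k, ((e k : j.range) : X) = j k := fun k => rfl
  have hθ : IsIrrCharacter j.range (fun r => ξ (e.symm r)) :=
    isIrrCharacter_comp_surjective hξ e.symm.toMonoidHom e.symm.surjective
  have hci : classInner (fun r : j.range => χ r) (fun r => ξ (e.symm r)) =
      classInner (fun k => χ (j k)) ξ := by
    rw [← classInner_comp_equiv e]
    simp only [MulEquiv.symm_apply_apply, he]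
  have h1 := Char.restrict_eq_smul_of_invariant j.range hχ hθ (by rw [hci]; exact h) (by
    intro g
    funext r
    obtain ⟨k, rfl⟩ := e.surjective r
    rw [cj_apply]
    simp only [MulEquiv.symm_apply_apply]
    refine hfx g k _ ?_
    have h2 : j (e.symm ⟨g * ((e k : j.range) : X) * g⁻¹, hn.conj_mem _ (e k).2 g⟩) =
      ((e (e.symm ⟨g * ((e k : j.range) : X) * g⁻¹, hn.conj_mem _ (e k).2 g⟩) : j.range) : X) :=
      rfl
    rw [h2, MulEquiv.apply_symm_apply]
    rfl)
  have h2 := congrFun h1 (e k)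
  rw [Pi.smul_apply, smul_eq_mul, hci] at h2
  simp only [MulEquiv.symm_apply_apply, he] at h2
  exact h2

open Classical in
/-- The sum of `ξ` over the commutators lying in `K`. -/
theorem count1 (hj : Function.Injective j) (hnz : ∀ x : X, Nz j x) {ξ : K → ℂ}
    (hξ : IsIrrCharacter K ξ) (hfx : ∀ x : X, Fx j ξ x) :
    ξ 1 * ∑ x : X, ∑ y : X, ∑ k : K, (if j k = x * y * x⁻¹ * y⁻¹ then conj (ξ k) else 0) =
      (Nat.card {χ : IrrCharacter X // classInner (fun k => (χ : X → ℂ) (j k)) ξ ≠ 0} : ℂ) *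
        ((Fintype.card X : ℂ) * Fintype.card K) := by
  have : Fintype (IrrCharacter X) := Fintype.ofFinite _
  have hξ1 : ξ 1 ≠ 0 := irr_one_ne_zero hξ
  have hK : (Fintype.card K : ℂ) ≠ 0 := by
    exact_mod_cast Fintype.card_ne_zero
  have h1 : ∑ x : X, ∑ y : X, ∑ k : K, (if j k = x * y * x⁻¹ * y⁻¹ then conj (ξ k) else 0) =
      (Fintype.card K : ℂ) * classInner (fun k => cF (j k)) ξ := by
    unfold classInner
    rw [← mul_assoc, Nat.card_eq_fintype_card, mul_inv_cancel₀ hK, one_mul]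
    have h2 : ∀ x : X, ∑ y : X, ∑ k : K,
        (if j k = x * y * x⁻¹ * y⁻¹ then conj (ξ k) else 0) =
        ∑ k : K, ∑ y : X, (if j k = x * y * x⁻¹ * y⁻¹ then conj (ξ k) else 0) := fun x =>
      Finset.sum_comm
    simp only [h2]
    rw [Finset.sum_comm]
    refine Finset.sum_congr rfl fun k _ => ?_
    unfold cF
    rw [Finset.sum_mul]
    refine Finset.sum_congr rfl fun x _ => ?_
    rw [Finset.sum_mul]
    refine Finset.sum_congr rfl fun y _ => ?_
    by_cases h3 : j k = x * y * x⁻¹ * y⁻¹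
    · rw [if_pos h3, if_pos h3.symm, one_mul]
    · rw [if_neg h3, if_neg (fun h => h3 h.symm), zero_mul]
  have h2 : (fun k => (cF : X → ℂ) (j k)) =
      ∑ χ : IrrCharacter X, ((Fintype.card X : ℂ) / (χ : X → ℂ) 1) •
        (fun k => (χ : X → ℂ) (j k)) := by
    funext k
    have h3 := congrFun (classFun_eq_sum (f := (cF : X → ℂ)) cF_class) (j k)
    rw [h3, Finset.sum_apply, Finset.sum_apply]
    refine Finset.sum_congr rfl fun χ _ => ?_
    rw [classInner_cF]
    rfl
  rw [h1, h2, classInner_sum_left]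
  have h4 : ∀ χ : IrrCharacter X, classInner (((Fintype.card X : ℂ) / (χ : X → ℂ) 1) •
      (fun k => (χ : X → ℂ) (j k))) ξ =
      if classInner (fun k => (χ : X → ℂ) (j k)) ξ ≠ 0 then (Fintype.card X : ℂ) / ξ 1 else 0 := by
    intro χ
    rw [classInner_smul_left]
    split_ifs with h5
    · have h6 := res_eq_smul hj hnz hξ hfx χ.2 h5 1
      rw [map_one] at h6
      rw [h6]
      field_simp
    · push Not at h5
      rw [h5, mul_zero]
  simp only [h4]
  rw [← Finset.sum_filter, Finset.sum_const, nsmul_eq_mul]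
  have h7 : (Finset.univ.filter fun χ : IrrCharacter X =>
      classInner (fun k => (χ : X → ℂ) (j k)) ξ ≠ 0).card =
      Nat.card {χ : IrrCharacter X // classInner (fun k => (χ : X → ℂ) (j k)) ξ ≠ 0} := by
    rw [Nat.card_eq_fintype_card, Fintype.card_subtype]
  rw [h7]
  field_simp

open Classical in
/-- averaging over cosets -/
theorem count2 (hj : Function.Injective j) (hnz : ∀ x : X, Nz j x) {ξ : K → ℂ}
    (hξ : IsIrrCharacter K ξ) (hfx : ∀ x : X, Fx j ξ x) (c : X → X → ℂ)
    (hc : ∀ x y t, CC j ξ x y t → c x y = conj t⁻¹)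
    (hc0 : ∀ x y, (¬ ∃ k, j k = x * y * x⁻¹ * y⁻¹) → c x y = 0) :
    ξ 1 * ∑ x : X, ∑ y : X, ∑ k : K, (if j k = x * y * x⁻¹ * y⁻¹ then conj (ξ k) else 0) =
      ∑ x : X, ∑ y : X, c x y := by
  have hK : (Fintype.card K : ℂ) ≠ 0 := by
    exact_mod_cast Fintype.card_ne_zero
  set f : X → X → ℂ := fun x y =>
    ∑ k : K, (if j k = x * y * x⁻¹ * y⁻¹ then conj (ξ k) else 0) with hf
  obtain ⟨d, hd⟩ := exists_nat_degree (isCharacter_of_isIrr hξ)
  -- pointwise average
  have key : ∀ x y, ξ 1 * ∑ m : K, ∑ n : K, f (j m * x) (j n * y) =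
      (Fintype.card K : ℂ) ^ 2 * c x y := by
    intro x y
    by_cases hex : ∃ k, j k = x * y * x⁻¹ * y⁻¹
    · obtain ⟨k₀, hk₀⟩ := hex
      obtain ⟨t, ht0, ht⟩ := CC.exists' hj hξ (hnz x) (hnz y) (hfx x) (hfx y) hk₀
      have hex2 : ∀ m n, ∃ k, j k = (j m * x) * (j n * y) * (j m * x)⁻¹ * (j n * y)⁻¹ := by
        intro m n
        obtain ⟨-, -, -, -, k, -, -, hk, -⟩ :=
          CC.coset hj hξ (hnz x) (hnz y) (hfx x) (hfx y) ht m n
        exact ⟨k, hk⟩
      choose k hk using hex2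
      have h1 := coset_sum hj hξ (hnz x) (hnz y) (hfx x) (hfx y) ht k hk
      have h2 : ∀ m n, f (j m * x) (j n * y) = conj (ξ (k m n)) := by
        intro m n
        rw [hf]
        simp only
        rw [Finset.sum_eq_single (k m n)]
        · rw [if_pos (hk m n)]
        · intro b _ hb
          rw [if_neg]
          intro h3
          exact hb (hj (h3.trans (hk m n).symm))
        · simp
      simp only [h2]
      rw [hc x y t ht]
      have h3 := congrArg (starRingEnd ℂ) h1
      rw [map_mul, map_mul, map_pow, Complex.conj_natCast, hd, Complex.conj_natCast, map_sum] at h3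
      simp only [map_sum] at h3
      rw [hd, h3, mul_comm]
    · rw [hc0 x y hex, mul_zero]
      apply mul_eq_zero_of_right
      refine Finset.sum_eq_zero fun m _ => Finset.sum_eq_zero fun n _ => ?_
      rw [hf]
      simp only
      refine Finset.sum_eq_zero fun k _ => ?_
      rw [if_neg]
      intro h3
      apply hex
      -- `[m x, n y] ∈ j(K)` implies `[x, y] ∈ j(K)`
      have hn : (j.range).Normal := by
        constructor
        rintro _ ⟨k, rfl⟩ g
        obtain ⟨k', hk'⟩ := (hnz g).1 k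
        exact ⟨k', hk'⟩
      have h4 : ((j m * x * (j n * y) * (j m * x)⁻¹ * (j n * y)⁻¹ : X) : X ⧸ j.range) = 1 :=
        (QuotientGroup.eq_one_iff _).mpr ⟨k, h3⟩
      have hm : ((j m : X) : X ⧸ j.range) = 1 := (QuotientGroup.eq_one_iff _).mpr ⟨m, rfl⟩
      have hn' : ((j n : X) : X ⧸ j.range) = 1 := (QuotientGroup.eq_one_iff _).mpr ⟨n, rfl⟩
      simp only [QuotientGroup.mk_mul, QuotientGroup.mk_inv, hm, hn', one_mul] at h4
      have h5 : ((x * y * x⁻¹ * y⁻¹ : X) : X ⧸ j.range) = 1 := by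
        simp only [QuotientGroup.mk_mul, QuotientGroup.mk_inv]
        exact h4
      exact (QuotientGroup.eq_one_iff _).mp h5
  have h1 : ∀ m n : K, ∑ x : X, ∑ y : X, f (j m * x) (j n * y) = ∑ x : X, ∑ y : X, f x y := by
    intro m n
    rw [← Equiv.sum_comp (Equiv.mulLeft (j m)) (fun x => ∑ y : X, f x y)]
    refine Finset.sum_congr rfl fun x _ => ?_
    rw [← Equiv.sum_comp (Equiv.mulLeft (j n)) (fun y => f (Equiv.mulLeft (j m) x) y)]
    rfl
  have h2 : ∑ m : K, ∑ n : K, ∑ x : X, ∑ y : X, f (j m * x) (j n * y) =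
      (Fintype.card K : ℂ) ^ 2 * ∑ x : X, ∑ y : X, f x y := by
    simp only [h1, Finset.sum_const, Finset.card_univ, nsmul_eq_mul]
    ring
  have h3 : ∑ m : K, ∑ n : K, ∑ x : X, ∑ y : X, f (j m * x) (j n * y) =
      ∑ x : X, ∑ y : X, ∑ m : K, ∑ n : K, f (j m * x) (j n * y) := by
    have e1 : ∀ m : K, ∑ n : K, ∑ x : X, ∑ y : X, f (j m * x) (j n * y) =
        ∑ x : X, ∑ y : X, ∑ n : K, f (j m * x) (j n * y) := by
      intro m
      rw [Finset.sum_comm]
      exact Finset.sum_congr rfl fun x _ => Finset.sum_comm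
    simp only [e1]
    rw [Finset.sum_comm]
    exact Finset.sum_congr rfl fun x _ => Finset.sum_comm
  have h4 : ξ 1 * ((Fintype.card K : ℂ) ^ 2 * ∑ x : X, ∑ y : X, f x y) =
      (Fintype.card K : ℂ) ^ 2 * ∑ x : X, ∑ y : X, c x y := by
    rw [← h2, h3, Finset.mul_sum, Finset.mul_sum]
    refine Finset.sum_congr rfl fun x _ => ?_
    rw [Finset.mul_sum, Finset.mul_sum]
    exact Finset.sum_congr rfl fun y _ => key x y
  have h5 : (Fintype.card K : ℂ) ^ 2 ≠ 0 := pow_ne_zero 2 hK
  apply mul_left_cancel₀ h5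
  rw [← h4]
  ring

/-- fibre sums -/
theorem sum_comp_hom {Q : Type w} [Group Q] [Fintype Q] (π : X →* Q)
    (hπ : Function.Surjective π) (f : Q → ℂ) :
    ∑ x : X, f (π x) = (Nat.card π.ker : ℂ) * ∑ q : Q, f q := by
  classical
  rw [Finset.mul_sum, ← Finset.sum_fiberwise' (s := Finset.univ) (g := π) (f := f)]
  refine Finset.sum_congr rfl fun q _ => ?_
  rw [Finset.sum_const, nsmul_eq_mul]
  congr 1
  have h1 := MonoidHom.card_fiber_eq_of_mem_range π (x := q) (y := 1) (hπ q) (hπ 1)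
  rw [h1]
  congr 1
  rw [Nat.card_eq_fintype_card, Fintype.card_subtype]
  congr 1
  ext x
  simp [MonoidHom.mem_ker]

/-- **The counting formula.** -/
theorem count {Q : Type w} [Group Q] [Fintype Q] (π : X →* Q)
    (hπ : Function.Surjective π) (hker : π.ker = j.range)
    (hj : Function.Injective j) (hnz : ∀ x : X, Nz j x) {ξ : K → ℂ}
    (hξ : IsIrrCharacter K ξ) (hfx : ∀ x : X, Fx j ξ x) (c : Q → Q → ℂ)
    (hc : ∀ x y t, CC j ξ x y t → c (π x) (π y) = conj t⁻¹)
    (hc0 : ∀ x y, (¬ ∃ k, j k = x * y * x⁻¹ * y⁻¹) → c (π x) (π y) = 0) :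
    (Nat.card {χ : IrrCharacter X // classInner (fun k => (χ : X → ℂ) (j k)) ξ ≠ 0} : ℂ) *
        Fintype.card Q = ∑ q : Q, ∑ r : Q, c q r := by
  classical
  have hK : (Fintype.card K : ℂ) ≠ 0 := by
    exact_mod_cast Fintype.card_ne_zero
  have hkK : (Nat.card π.ker : ℂ) = Fintype.card K := by
    rw [hker, ← Nat.card_eq_fintype_card]
    congr 1
    exact (Nat.card_congr (MonoidHom.ofInjective hj).toEquiv).symm
  have h1 := count1 hj hnz hξ hfx
  rw [count2 hj hnz hξ hfx (fun x y => c (π x) (π y)) hc hc0] at h1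
  have h2 : ∀ x : X, ∑ y : X, c (π x) (π y) = (Nat.card π.ker : ℂ) * ∑ r : Q, c (π x) r :=
    fun x => sum_comp_hom π hπ (fun r => c (π x) r)
  simp only [h2] at h1
  rw [← Finset.mul_sum, sum_comp_hom π hπ (fun q => ∑ r : Q, c q r), hkK] at h1
  have h3 : (Fintype.card X : ℂ) = Fintype.card K * Fintype.card Q := by
    have h4 := sum_comp_hom π hπ (fun _ => (1 : ℂ))
    simp only [Finset.sum_const, Finset.card_univ, nsmul_eq_mul, mul_one] at h4
    rw [h4, hkK]
  rw [h3] at h1
  have h5 : (Fintype.card K : ℂ) * (Fintype.card K : ℂ) ≠ 0 := mul_ne_zero hK hK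
  apply mul_left_cancel₀ h5
  linear_combination -h1

/-- Two counts with the same scalars agree. -/
theorem count_eq {X' : Type u} [Group X'] [Fintype X'] {K' : Type w} [Group K'] [Fintype K']
    {j' : K' →* X'} {Q : Type u} [Group Q] [Fintype Q] (π : X →* Q)
    (hπ : Function.Surjective π) (hker : π.ker = j.range)
    (hj : Function.Injective j) (hnz : ∀ x : X, Nz j x) {ξ : K → ℂ}
    (hξ : IsIrrCharacter K ξ) (hfx : ∀ x : X, Fx j ξ x) (π' : X' →* Q)
    (hπ' : Function.Surjective π') (hker' : π'.ker = j'.range)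
    (hj' : Function.Injective j') (hnz' : ∀ x : X', Nz j' x) {ξ' : K' → ℂ}
    (hξ' : IsIrrCharacter K' ξ') (hfx' : ∀ x : X', Fx j' ξ' x)
    (ι : X' →* X) (hι : ∀ x, π (ι x) = π' x)
    (hcc : ∀ x y t, CC j' ξ' x y t → CC j ξ (ι x) (ι y) t) :
    Nat.card {χ : IrrCharacter X // classInner (fun k => (χ : X → ℂ) (j k)) ξ ≠ 0} =
      Nat.card {χ : IrrCharacter X' // classInner (fun k => (χ : X' → ℂ) (j' k)) ξ' ≠ 0} := by
  classical
  -- the common function
  let c : Q → Q → ℂ := fun q r =>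
    if h : ∃ (x y : X) (t : ℂ), π x = q ∧ π y = r ∧ CC j ξ x y t then
      conj (h.choose_spec.choose_spec.choose)⁻¹ else 0
  have hcX : ∀ x y t, CC j ξ x y t → c (π x) (π y) = conj t⁻¹ := by
    intro x y t ht
    have hex : ∃ (x' y' : X) (t : ℂ), π x' = π x ∧ π y' = π y ∧ CC j ξ x' y' t :=
      ⟨x, y, t, rfl, rfl, ht⟩
    have h1 : c (π x) (π y) = conj (hex.choose_spec.choose_spec.choose)⁻¹ := dif_pos hex
    rw [h1]
    obtain ⟨hx, hy, hs⟩ := hex.choose_spec.choose_spec.choose_spec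
    -- representatives differ by elements of `K`
    obtain ⟨m, hm⟩ : x * (hex.choose)⁻¹ ∈ j.range := by
      rw [← hker, MonoidHom.mem_ker, map_mul, map_inv, hx, mul_inv_cancel]
    obtain ⟨n, hn⟩ : y * (hex.choose_spec.choose)⁻¹ ∈ j.range := by
      rw [← hker, MonoidHom.mem_ker, map_mul, map_inv, hy, mul_inv_cancel]
    have h2 := CC.coset hj hξ (hnz _) (hnz _) (hfx _) (hfx _) hs m n
    rw [hm, hn, inv_mul_cancel_right, inv_mul_cancel_right] at h2
    rw [CC.unique hj (hnz x) (hnz y) h2 ht]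
  have hc0X : ∀ x y, (¬ ∃ k, j k = x * y * x⁻¹ * y⁻¹) → c (π x) (π y) = 0 := by
    intro x y hex
    apply dif_neg
    rintro ⟨x', y', t, hx, hy, ht⟩
    apply hex
    obtain ⟨-, -, -, -, k, -, -, hk, -⟩ := ht
    have h1 : x * y * x⁻¹ * y⁻¹ ∈ j.range := by
      rw [← hker, MonoidHom.mem_ker]
      simp only [map_mul, map_inv, ← hx, ← hy]
      rw [← map_inv, ← map_inv, ← map_mul, ← map_mul, ← map_mul, ← hk, ← MonoidHom.mem_ker, hker]
      exact ⟨k, rfl⟩
    exact h1
  have h1 := count π hπ hker hj hnz hξ hfx c hcX hc0X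
  have h2 := count π' hπ' hker' hj' hnz' hξ' hfx' c
    (fun x y t ht => by
      rw [← hι, ← hι]
      exact hcX _ _ _ (hcc x y t ht))
    (fun x y hex => by
      rw [← hι, ← hι]
      apply hc0X
      rintro ⟨k, hk⟩
      apply hex
      have h3 : x * y * x⁻¹ * y⁻¹ ∈ j'.range := by
        rw [← hker', MonoidHom.mem_ker]
        simp only [map_mul, map_inv, ← hι]
        have h4 : π (j k) = 1 := by
          rw [← MonoidHom.mem_ker, hker]
          exact ⟨k, rfl⟩
        rw [hk] at h4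
        simpa only [map_mul, map_inv] using h4
      exact h3)
  have hQ : (Fintype.card Q : ℂ) ≠ 0 := by
    exact_mod_cast Fintype.card_ne_zero
  have h3 := mul_right_cancel₀ hQ (h1.trans h2.symm)
  exact_mod_cast h3

end Cfsg.Agent.H76.Twc
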