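import Cfsg.Agent.H76.Twd2
import Cfsg.Agent.Char.RelGlaub
import Cfsg.Agent.H76.DetMul
import Cfsg.Agent.H76.AlperinDade2
import Cfsg.Agent.Char.Correspondence

/-!
# Canonical extensions and Clifford counting, in the language of homomorphisms
-/

set_option autoImplicit false
set_option linter.unusedSectionVars false
set_option linter.unusedFintypeInType false

namespace Cfsg.Agent.H76.Twc

open scoped ComplexConjugate
open Cfsg Cfsg.Agent.CharBase Cfsg.Agent.Char

universe u v w

section Canon

variable {M : Type u} [Group M] [Finite M] {K : Type v} [Group K] [Finite K] {j : K →* M}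

theorem range_normal (hnz : ∀ x : M, Nz j x) : j.range.Normal := by
  constructor
  rintro _ ⟨k, rfl⟩ g
  obtain ⟨k', hk'⟩ := (hnz g).1 k
  exact ⟨k', hk'⟩

/-- restriction of a determinant order condition -/
theorem canon_core {p : ℕ} (hp : p.Prime) (hj : Function.Injective j) (hnz : ∀ x : M, Nz j x)
    {a : ℕ} (hidx : j.range.index = p ^ a) (hpK : ¬ p ∣ Nat.card K) {η : K → ℂ}
    (hη : IsIrrCharacter K η) (hfx : ∀ x : M, Fx j η x) :
    ∃ E : M → ℂ, IsIrrCharacter M E ∧ (∀ k, E (j k) = η k) ∧ ¬ p ∣ detOrder E ∧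
      ∀ E' : M → ℂ, IsIrrCharacter M E' → (∀ k, E' (j k) = η k) → ¬ p ∣ detOrder E' → E' = E := by
  classical
  have hQ := range_normal hnz
  have := Fintype.ofFinite M
  have := Fintype.ofFinite j.range
  let e : K ≃* j.range := MonoidHom.ofInjective hj
  have he : ∀ k, ((e k : j.range) : M) = j k := fun k => rfl
  let θ : j.range → ℂ := fun r => η (e.symm r)
  have hθ : IsIrrCharacter j.range θ :=
    isIrrCharacter_comp_surjective hη e.symm.toMonoidHom e.symm.surjective
  have hinv : ∀ g : M, cj j.range g θ = θ := by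
    intro g
    funext r
    obtain ⟨k, rfl⟩ := e.surjective r
    rw [cj_apply]
    simp only [θ, MulEquiv.symm_apply_apply]
    refine hfx g k _ ?_
    have h2 : j (e.symm ⟨g * ((e k : j.range) : M) * g⁻¹, hQ.conj_mem _ (e k).2 g⟩) =
      ((e (e.symm ⟨g * ((e k : j.range) : M) * g⁻¹, hQ.conj_mem _ (e k).2 g⟩) : j.range) : M) :=
      rfl
    rw [h2, MulEquiv.apply_symm_apply]
    rfl
  have hcard : Nat.card j.range = Nat.card K := (Nat.card_congr e.toEquiv).symm
  have hcop : (Nat.card j.range).Coprime j.range.index := by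
    rw [hcard, hidx]
    exact (Nat.Coprime.pow_left a ((Nat.Prime.coprime_iff_not_dvd hp).mpr hpK)).symm
  obtain ⟨n, hn⟩ := exists_nat_degree (isCharacter_of_isIrr hθ)
  have hnQ : n ∣ Nat.card j.range := degree_dvd_card hθ hn
  have hcopn : Nat.Coprime j.range.index n := (hcop.coprime_dvd_left hnQ).symm
  obtain ⟨lam, hlam⟩ : ∃ lam : j.range →* ℂ, detChar θ = lam := by
    obtain ⟨k, ρ, hρ, hρθ⟩ := hθ
    rw [← hρθ]
    exact ⟨detHom ρ, detChar_eq ρ ⟨k, ρ, hρ, rfl⟩⟩
  have hlinv : ∀ g : M, cj j.range g lam = lam := by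
    intro g
    rw [← hlam, ← detChar_cj hθ, hinv]
  have hord : orderOf (lam : j.range → ℂ) ∣ Nat.card j.range := by
    apply orderOf_dvd_of_pow_eq_one
    rw [pow_fun_eq_one_iff]
    intro q
    rw [← map_pow, pow_card_eq_one', _root_.map_one]
  have hcopl : Nat.Coprime j.range.index (orderOf (lam : j.range → ℂ)) :=
    (hcop.coprime_dvd_left hord).symm
  obtain ⟨μ, hμ, hμo, hμu⟩ := exists_linear_extension lam hlinv hcopl
  have hext : ∃ η : M → ℂ, IsIrrCharacter M η ∧ (∀ n : j.range, η n = θ n) :=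
    Cfsg.Agent.Glaub.exists_extension_of_hall j.range hcop hθ hinv
  obtain ⟨E, ⟨hE, hEQ, hEd⟩, hEu⟩ := exists_unique_extension_det hθ hn hcopn hext μ
    (fun q => by rw [hμ, hlam])
  have hkη : ∀ k, θ (e k) = η k := fun k => by
    simp only [θ, MulEquiv.symm_apply_apply]
  refine ⟨E, hE, fun k => ?_, ?_, ?_⟩
  · rw [← hkη, ← hEQ (e k), he]
  · intro hd
    unfold detOrder at hd
    rw [hEd, hμo] at hd
    exact hpK (hcard ▸ hd.trans hord)
  · intro E' hE' hE'η hE'd
    apply hEu
    have hE'θ : ∀ n : j.range, E' n = θ n := by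
      intro n
      obtain ⟨k, rfl⟩ := e.surjective n
      rw [hkη, he, hE'η]
    refine ⟨hE', hE'θ, ?_⟩
    obtain ⟨d, σ, hσ, hσE⟩ := id hE'
    have h1 : detChar E' = detHom σ := by
      rw [← hσE]
      exact detChar_eq σ ⟨d, σ, hσ, rfl⟩
    have h2 : detHom σ = μ := by
      apply hμu
      · intro n
        have h3 := detChar_restrict j.range hE' hθ hE'θ n
        rw [h1, hlam] at h3
        exact h3
      · rw [hidx]
        refine Nat.Coprime.pow_left a ((Nat.Prime.coprime_iff_not_dvd hp).mpr ?_)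
        intro hd
        apply hE'd
        unfold detOrder
        rw [h1]
        exact hd
    rw [h1, h2]

end Canon

end Cfsg.Agent.H76.Twc
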