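import Cfsg.Agent.H76.Twe1

/-!
# Counting lemmas: classes and the Clifford correspondence
-/

set_option autoImplicit false
set_option linter.unusedSectionVars false
set_option linter.unusedFintypeInType false

namespace Cfsg.Agent.H76.Twc

open scoped ComplexConjugate
open Cfsg Cfsg.Agent.CharBase Cfsg.Agent.Char

universe u v w

section Classes

/-- Two sets fibred over equivalent sets of classes. -/
theorem card_eq_of_classes {X X' E E' : Type*} [Finite X] [Finite X'] [Finite E] [Finite E']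
    (r : Setoid E) (r' : Setoid E') (f : E ≃ E') (hf : ∀ a b, r a b ↔ r' (f a) (f b))
    (ov : X → E → Prop) (ov' : X' → E' → Prop) (h1 : ∀ x, ∃ e, ov x e)
    (h2 : ∀ x a b, ov x a → (ov x b ↔ r a b)) (h1' : ∀ x, ∃ e, ov' x e)
    (h2' : ∀ x a b, ov' x a → (ov' x b ↔ r' a b))
    (hc : ∀ e, Nat.card {x // ov x e} = Nat.card {x // ov' x (f e)}) :
    Nat.card X = Nat.card X' := by
  classical
  choose c hc1 using h1
  choose c' hc1' using h1'
  let cl : X → Quotient r := fun x => Quotient.mk r (c x)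
  let cl' : X' → Quotient r' := fun x => Quotient.mk r' (c' x)
  have hcl : ∀ x e, cl x = Quotient.mk r e ↔ ov x e := by
    intro x e
    rw [h2 x (c x) e (hc1 x)]
    exact Quotient.eq
  have hcl' : ∀ x e, cl' x = Quotient.mk r' e ↔ ov' x e := by
    intro x e
    rw [h2' x (c' x) e (hc1' x)]
    exact Quotient.eq
  let g : Quotient r ≃ Quotient r' := Quotient.congr f hf
  have := Fintype.ofFinite (Quotient r)
  have := Fintype.ofFinite (Quotient r')
  rw [← Nat.card_congr (Equiv.sigmaFiberEquiv cl), ← Nat.card_congr (Equiv.sigmaFiberEquiv cl'),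
    Nat.card_sigma, Nat.card_sigma, ← Equiv.sum_comp g]
  refine Finset.sum_congr rfl fun q _ => ?_
  induction q using Quotient.inductionOn with
  | _ e =>
    have e1 : Nat.card {x // cl x = Quotient.mk r e} = Nat.card {x // ov x e} :=
      Nat.card_congr (Equiv.subtypeEquivRight fun x => hcl x e)
    have e2 : g (Quotient.mk r e) = Quotient.mk r' (f e) := rfl
    have e3 : Nat.card {x // cl' x = g (Quotient.mk r e)} = Nat.card {x // ov' x (f e)} := by
      rw [e2]
      exact Nat.card_congr (Equiv.subtypeEquivRight fun x => hcl' x (f e))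
    rw [e1, e3, hc]

/-- an equivalence from a bi-unique total relation -/
theorem exists_equiv_of_rel {E E' : Type*} (R : E → E' → Prop) (h1 : ∀ e, ∃ e', R e e')
    (h2 : ∀ e', ∃ e, R e e') (h3 : ∀ a b b', R a b → R a b' → b = b')
    (h4 : ∀ a a' b, R a b → R a' b → a = a') : ∃ f : E ≃ E', ∀ e, R e (f e) := by
  choose f hf using h1
  choose g hg using h2
  exact ⟨⟨f, g, fun e => h4 _ _ _ (hg (f e)) (hf e), fun e => h3 _ _ _ (hf (g e)) (hg e)⟩, hf⟩

end Classes

section Clif

variable {G : Type u} [Group G] [Finite G]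

/-- Clifford correspondence, counted. -/
theorem clifford_card (N T : Subgroup G) [hN : N.Normal] [Fintype N] {θ : N → ℂ}
    (hθ : IsIrrCharacter N θ)
    (hT : T = inertia N θ) (hNT : N ≤ T) (P : ℂ → Prop) :
    Nat.card {χ : IrrCharacter G // P ((χ : G → ℂ) 1) ∧
      classInner (fun n : N => (χ : G → ℂ) n) θ ≠ 0} =
    Nat.card {ψ : IrrCharacter T // P (T.index * (ψ : T → ℂ) 1) ∧
      classInner (fun n : N => (ψ : T → ℂ) ⟨n, hNT n.2⟩) θ ≠ 0} := by
  classical
  have := Fintype.ofFinite G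
  have := Fintype.ofFinite T
  symm
  refine Nat.card_congr (Equiv.ofBijective (fun ψ => ⟨⟨indFun T (ψ.1 : T → ℂ),
    isIrr_indFun_of_inertia N T hθ hT hNT ψ.1.2 ψ.2.2⟩, ?_, ?_⟩) ⟨?_, ?_⟩)
  · change P (indFun T (ψ.1 : T → ℂ) 1)
    rw [indFun_one_apply]
    exact ψ.2.1
  · obtain ⟨χ, hχ, h1⟩ := exists_over T ψ.1.2
    have h2 := correspondence_key N T hθ hT hNT hχ ψ.1.2 h1 ψ.2.2
    change classInner (fun n : N => indFun T (ψ.1 : T → ℂ) n) θ ≠ 0
    rw [h2.1, ← h2.2]
    exact ψ.2.2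
  · intro ψ ψ' h
    apply Subtype.ext
    apply Subtype.ext
    exact indFun_injective_of_inertia N T hθ hT hNT ψ.1.2 ψ'.1.2 ψ.2.2 ψ'.2.2
      (congrArg (fun x => ((x.1 : IrrCharacter G) : G → ℂ)) h)
  · rintro ⟨χ, hP, hχ⟩
    obtain ⟨ψ, hψ, hψχ, hψo⟩ := clifford_correspondence N T hθ hT hNT χ.2 hχ
    refine ⟨⟨⟨ψ, hψ⟩, ?_, ?_⟩, ?_⟩
    · change P (T.index * ψ 1)
      rw [← indFun_one_apply, hψχ]
      exact hP
    · change classInner (fun n : N => ψ ⟨n, hNT n.2⟩) θ ≠ 0
      rw [hψo]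
      exact hχ
    · apply Subtype.ext
      apply Subtype.ext
      exact hψχ

end Clif

end Cfsg.Agent.H76.Twc
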