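import Cfsg.Agent.H76.Twe2

/-!
# Characters of p'-degree of an extension of a p'-group by a p-group
-/

set_option autoImplicit false
set_option linter.unusedSectionVars false
set_option linter.unusedFintypeInType false

namespace Cfsg.Agent.H76.Twc

open scoped ComplexConjugate
open Cfsg Cfsg.Agent.CharBase Cfsg.Agent.Char

universe u v w

variable {M : Type u} [Group M] [Finite M] {K : Type v} [Group K] [Finite K] {j : K →* M}

/-- `ξ = δ E` with `E` canonical and `δ` linear trivial on `K`. -/
theorem pprime_decomp {p : ℕ} (hp : p.Prime) (hj : Function.Injective j) (hnz : ∀ x : M, Nz j x)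
    {a : ℕ} (hidx : j.range.index = p ^ a) (hpK : ¬ p ∣ Nat.card K) {ξ : M → ℂ}
    (hξ : IsIrrCharacter M ξ) (hdeg : ¬ p ∣ charDegree ξ) :
    ∃ (E : M → ℂ) (δ : M →* ℂˣ), IsIrrCharacter M E ∧ IsIrrCharacter K (fun k => E (j k)) ∧
      (∀ x : M, Fx j (fun k => E (j k)) x) ∧
      ¬ p ∣ detOrder E ∧ (∀ k, δ (j k) = 1) ∧ ∀ x, ξ x = δ x * E x := by
  classical
  have hQ := range_normal hnz
  have := Fintype.ofFinite M
  have := Fintype.ofFinite j.range
  have := Fintype.ofFinite K
  let e : K ≃* j.range := MonoidHom.ofInjective hj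
  have he : ∀ k, ((e k : j.range) : M) = j k := fun k => rfl
  obtain ⟨θ, hθ, hθξ⟩ := exists_constituent_restrict j.range (isCharacter_of_isIrr hξ)
    (irr_one_ne_zero hξ)
  have hcd := clifford_degree j.range hξ hθ hθξ
  obtain ⟨d, hd⟩ := exists_nat_degree (isCharacter_of_isIrr hξ)
  obtain ⟨n, hn⟩ := exists_nat_degree (isCharacter_of_isIrr hθ)
  obtain ⟨c, hc⟩ := classInner_natCast (isCharacter_restrict (isCharacter_of_isIrr hξ) j.range)
    (isCharacter_of_isIrr hθ)
  rw [hc, hd, hn] at hcd
  have hcd' : d = c * ((inertia j.range θ).index * n) := by exact_mod_cast hcd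
  rw [H75.charDegree_eq hd] at hdeg
  have hle : j.range ≤ inertia j.range θ := le_inertia j.range
    (isClassFunction_of_isCharacter (isCharacter_of_isIrr hθ))
  have hi1 : (inertia j.range θ).index = 1 := by
    have h1 : (inertia j.range θ).index ∣ p ^ a := hidx ▸ Subgroup.index_dvd_of_le hle
    obtain ⟨b, -, hb⟩ := (Nat.dvd_prime_pow hp).mp h1
    rcases Nat.eq_zero_or_pos b with h | h
    · rw [hb, h, pow_zero]
    · exfalso
      apply hdeg
      rw [hcd']
      refine Dvd.dvd.mul_left (Dvd.dvd.mul_right ?_ _) _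
      rw [hb]
      exact dvd_pow_self p (by omega)
  have hT : inertia j.range θ = ⊤ := Subgroup.index_eq_one.mp hi1
  have hinv : ∀ g : M, cj j.range g θ = θ := fun g => by
    rw [← mem_inertia, hT]
    trivial
  let η : K → ℂ := fun k => θ (e k)
  have hη : IsIrrCharacter K η := isIrrCharacter_comp_surjective hθ e.toMonoidHom e.surjective
  have hfx : ∀ x : M, Fx j η x := by
    intro x k k' hk
    have h1 := congrFun (hinv x) (e k)
    rw [cj_apply] at h1
    change θ (e k') = θ (e k)
    rw [← h1]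
    congr 1
    exact Subtype.ext hk
  obtain ⟨E, hE, hEη, hEd, -⟩ := canon_core hp hj hnz hidx hpK hη hfx
  have hEθ : ∀ r : j.range, E r = θ r := by
    intro r
    obtain ⟨k, rfl⟩ := e.surjective r
    exact hEη k
  obtain ⟨β, hβk, hβ⟩ := exists_gallagher j.range hθ hE hEθ hξ hθξ
  have hβ1 : (β : M → ℂ) 1 = 1 := by
    have h1 := H76.degree_dvd_index j.range β hβk
    rw [hidx] at h1
    obtain ⟨b, -, hb⟩ := (Nat.dvd_prime_pow hp).mp h1
    have h2 := congrFun hβ 1
    simp only [Pi.mul_apply] at h2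
    have h3 : E 1 = n := by
      have := hEθ 1
      rw [hn] at this
      exact this
    rw [hd, h3, H75.deg_spec] at h2
    have h4 : d = H75.deg β * n := by exact_mod_cast h2
    rcases Nat.eq_zero_or_pos b with h | h
    · rw [H75.deg_spec, hb, h, pow_zero, Nat.cast_one]
    · exfalso
      apply hdeg
      rw [h4, hb]
      exact Dvd.dvd.mul_right (dvd_pow_self p (by omega)) _
  let δ0 : M →* ℂ :=
    { toFun := fun x => (β : M → ℂ) x
      map_one' := hβ1
      map_mul' := fun a b => linChar_mul (isCharacter_of_isIrr β.2) hβ1 a b }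
  have hEη' : (fun k => E (j k)) = η := funext hEη
  refine ⟨E, δ0.toHomUnits, hE, by rw [hEη']; exact hη, by rw [hEη']; exact hfx, hEd, ?_, ?_⟩
  · intro k
    apply Units.ext
    rw [MonoidHom.coe_toHomUnits]
    change (β : M → ℂ) (j k) = 1
    rw [hβk _ ⟨k, rfl⟩, hβ1]
  · intro x
    rw [MonoidHom.coe_toHomUnits]
    exact congrFun hβ x

/-- `δ` is determined by `δ E`. -/
theorem delta_unique (hj : Function.Injective j) (hnz : ∀ x : M, Nz j x) {E : M → ℂ}
    (hE : IsIrrCharacter M E) (hEK : IsIrrCharacter K (fun k => E (j k))) {δ δ' : M →* ℂˣ}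
    (hδ : ∀ k, δ (j k) = 1) (hδ' : ∀ k, δ' (j k) = 1) (h : ∀ x, (δ x : ℂ) * E x = δ' x * E x) :
    δ = δ' := by
  have hQ := range_normal hnz
  let e : K ≃* j.range := MonoidHom.ofInjective hj
  have hres : IsIrrCharacter j.range (fun m : j.range => E m) := by
    have h1 : (fun m : j.range => E m) = fun m => E (j (e.symm m)) := by
      funext m
      obtain ⟨k, rfl⟩ := e.surjective m
      rw [MulEquiv.symm_apply_apply]
      rfl
    rw [h1]
    exact isIrrCharacter_comp_surjective hEK e.symm.toMonoidHom e.symm.surjective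
  ext g
  obtain ⟨_, ⟨k, rfl⟩, hk⟩ := exists_ne_zero_coset j.range hE hres g
  have h1 := h (j k * g)
  rw [map_mul, map_mul, hδ, hδ', one_mul, one_mul] at h1
  exact mul_right_cancel₀ hk h1

/-- Twisting by a linear character. -/
theorem isIrr_twist {ξ : M → ℂ} (hξ : IsIrrCharacter M ξ) (δ : M →* ℂˣ) :
    IsIrrCharacter M (fun x => (δ x : ℂ) * ξ x) := by
  have h1 : IsCharacter M (fun x => (δ x : ℂ)) := isCharacter_of_hom ((Units.coeHom ℂ).comp δ)
  exact Glaub.isIrr_mul_linear hξ h1 (by simp)

end Cfsg.Agent.H76.Twc
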