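import Cfsg.Agent.H76.Twe3
import Cfsg.Agent.H76.Congr

/-!
# The correspondence between characters of p'-degree of `K S` and `C S`
-/

set_option autoImplicit false
set_option linter.unusedSectionVars false
set_option linter.unusedFintypeInType false

namespace Cfsg.Agent.H76.Twc

open scoped ComplexConjugate
open Cfsg Cfsg.Agent.CharBase Cfsg.Agent.Char

universe u v w x

/-- The set-up: `M = K S`, `M' = C S`, `C = C_K(S)`. -/
structure RS (p : ℕ) {K : Type v} {M : Type u} {C : Type w} {M' : Type x} [Group K] [Group M]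
    [Group C] [Group M'] [Finite M] [Fintype K] [Fintype C] (jK : K →* M) (jC : C →* M')
    (i : C →* K) (ι : M' →* M) (S : Subgroup M) : Prop where
  fxd : Fxd p jK i S
  pK : ¬ p ∣ Nat.card K
  injC : Function.Injective jC
  injι : Function.Injective ι
  comm : ∀ c, ι (jC c) = jK (i c)
  nzK : ∀ x : M, Nz jK x
  nzC : ∀ x : M', Nz jC x
  idxK : ∃ a, jK.range.index = p ^ a
  idxC : ∃ a, jC.range.index = p ^ a
  gen : ∀ x : M, ∃ k, ∃ s ∈ S, x = jK k * s
  gen' : ∀ x : M', ∃ c s', ι s' ∈ S ∧ x = jC c * s'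
  lift : ∀ s ∈ S, ∃ s' : M', ι s' = s
  kerC : ∀ x : M', ι x ∈ jK.range → x ∈ jC.range

/-- The relation between characters of `M` and `M'`. -/
def Rl (p : ℕ) {K : Type v} {M : Type u} {C : Type w} {M' : Type x} [Group K] [Group M]
    [Group C] [Group M'] [Fintype C] (jK : K →* M) (jC : C →* M')
    (i : C →* K) (ι : M' →* M) (ξ : M → ℂ) (ξ' : M' → ℂ) : Prop :=
  ∃ (E : M → ℂ) (E' : M' → ℂ) (δ : M →* ℂˣ), IsIrrCharacter M E ∧
    IsIrrCharacter K (fun k => E (jK k)) ∧ (∀ x : M, Fx jK (fun k => E (jK k)) x) ∧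
    ¬ p ∣ detOrder E ∧ IsIrrCharacter M' E' ∧
    IsIrrCharacter C (fun c => E' (jC c)) ∧ ¬ p ∣ detOrder E' ∧
    (∃ m : ℕ, classInner (fun c => E (jK (i c))) (fun c => E' (jC c)) = m ∧ ¬ p ∣ m) ∧
    (∀ k, δ (jK k) = 1) ∧ (∀ x, ξ x = δ x * E x) ∧ (∀ x, ξ' x = δ (ι x) * E' x)

variable {p : ℕ} {K : Type v} {M : Type u} {C : Type w} {M' : Type x} [Group K] [Group M]
    [Group C] [Group M'] [Finite M] [Finite M'] [Fintype K] [Fintype C] {jK : K →* M}
    {jC : C →* M'} {i : C →* K} {ι : M' →* M} {S : Subgroup M}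

theorem RS.pC (R : RS p jK jC i ι S) : ¬ p ∣ Nat.card C := fun h =>
  R.pK (h.trans (Subgroup.card_dvd_of_injective i R.fxd.inj'))

theorem RS.fxC (R : RS p jK jC i ι S) {ζ : C → ℂ} (hζ : IsIrrCharacter C ζ) (x : M') :
    Fx jC ζ x := by
  obtain ⟨c, s', hs', rfl⟩ := R.gen' x
  have hs : Fx jC ζ s' := by
    intro c1 c2 hc
    have h1 : jC c2 = jC c1 := by
      apply R.injι
      have h2 := (R.fxd.fix (i c1)).mpr ⟨c1, rfl⟩ (ι s') hs'
      rw [hc, map_mul, map_mul, map_inv, R.comm, h2]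
    rw [R.injC h1]
  exact Fx.mul (R.nzC s')
    (Fx.coe R.injC (isClassFunction_of_isCharacter (isCharacter_of_isIrr hζ)) c) hs

theorem Rl.irr {ξ : M → ℂ} {ξ' : M' → ℂ} (h : Rl p jK jC i ι ξ ξ') : IsIrrCharacter M ξ := by
  obtain ⟨E, E', δ, hE, -, -, -, -, -, -, -, -, hξ, -⟩ := h
  rw [funext hξ]
  exact isIrr_twist hE δ

theorem Rl.irr' {ξ : M → ℂ} {ξ' : M' → ℂ} (h : Rl p jK jC i ι ξ ξ') : IsIrrCharacter M' ξ' := by
  obtain ⟨E, E', δ, -, -, -, -, hE', -, -, -, -, -, hξ'⟩ := h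
  rw [funext hξ']
  exact isIrr_twist hE' (δ.comp ι)

theorem not_dvd_charDegree_of_irr {j : K →* M} (hpK : ¬ p ∣ Nat.card K) {E : M → ℂ}
    (hEK : IsIrrCharacter K (fun k => E (j k))) : ¬ p ∣ charDegree E := by
  obtain ⟨n, hn⟩ := exists_nat_degree (isCharacter_of_isIrr hEK)
  have h1 : E 1 = n := by
    rw [← hn]
    simp
  rw [H75.charDegree_eq h1]
  intro hd
  exact hpK (hd.trans (degree_dvd_card hEK hn))

theorem Rl.res (R : RS p jK jC i ι S) {ξ : M → ℂ} {ξ' : M' → ℂ} (h : Rl p jK jC i ι ξ ξ') :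
    IsIrrCharacter K (fun k => ξ (jK k)) ∧ IsIrrCharacter C (fun c => ξ' (jC c)) ∧
    (∃ m : ℕ, classInner (fun c => ξ (jK (i c))) (fun c => ξ' (jC c)) = m ∧ ¬ p ∣ m) := by
  obtain ⟨E, E', δ, hE, hEK, -, -, hE', hEC, -, hm, hδ, hξ, hξ'⟩ := h
  have e1 : (fun k => ξ (jK k)) = fun k => E (jK k) := by
    funext k
    rw [hξ, hδ]
    simp
  have e2 : (fun c => ξ' (jC c)) = fun c => E' (jC c) := by
    funext c
    rw [hξ', R.comm, hδ]
    simp
  have e3 : (fun c => ξ (jK (i c))) = fun c => E (jK (i c)) := by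
    funext c
    exact congrFun e1 (i c)
  rw [e1, e2, e3]
  exact ⟨hEK, hEC, hm⟩

theorem Rl.deg (R : RS p jK jC i ι S) {ξ : M → ℂ} {ξ' : M' → ℂ} (h : Rl p jK jC i ι ξ ξ') :
    ¬ p ∣ charDegree ξ ∧ ¬ p ∣ charDegree ξ' := by
  obtain ⟨h1, h2, -⟩ := h.res R
  exact ⟨not_dvd_charDegree_of_irr R.pK h1, not_dvd_charDegree_of_irr R.pC h2⟩

/-- uniqueness of the canonical extension -/
theorem canon_unique {j : K →* M} (hp : p.Prime) (hj : Function.Injective j)
    (hnz : ∀ x : M, Nz j x)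
    (hidx : ∃ a, j.range.index = p ^ a) (hpK : ¬ p ∣ Nat.card K) {E F : M → ℂ}
    (hE : IsIrrCharacter M E) (hF : IsIrrCharacter M F) (hEK : IsIrrCharacter K (fun k => E (j k)))
    (hfx : ∀ x : M, Fx j (fun k => E (j k)) x)
    (h : ∀ k, F (j k) = E (j k)) (hEd : ¬ p ∣ detOrder E) (hFd : ¬ p ∣ detOrder F) : F = E := by
  obtain ⟨a, ha⟩ := hidx
  obtain ⟨E0, -, -, -, hu⟩ := canon_core hp hj hnz ha hpK hEK hfx
  rw [hu E hE (fun k => rfl) hEd, hu F hF h hFd]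

theorem Rl.right_unique (R : RS p jK jC i ι S) {ξ : M → ℂ} {ξ₁ ξ₂ : M' → ℂ}
    (h1 : Rl p jK jC i ι ξ ξ₁) (h2 : Rl p jK jC i ι ξ ξ₂) : ξ₁ = ξ₂ := by
  classical
  have hp := R.fxd.prime
  obtain ⟨m2, hm2, hpm2⟩ := (h2.res R).2.2
  obtain ⟨E, E', δ, hE, hEK, hEf, hEd, hE', hEC, hEd', ⟨m, hm, hpm⟩, hδ, hξ, hξ'⟩ := h1
  obtain ⟨F, F', ε, hF, hFK, hFf, hFd, hF', hFC, hFd', ⟨n, hn, hpn⟩, hε, hφ, hφ'⟩ := h2
  have e0 : ∀ k, F (jK k) = E (jK k) := by
    intro k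
    have h3 := hξ (jK k)
    have h4 := hφ (jK k)
    rw [hδ] at h3
    rw [hε] at h4
    simp only [Units.val_one, one_mul] at h3 h4
    rw [← h3, ← h4]
  have e1 : F = E := canon_unique hp R.fxd.inj R.nzK R.idxK R.pK hE hF hEK hEf e0 hEd hFd
  subst e1
  have e2 : δ = ε := delta_unique R.fxd.inj R.nzK hE hEK hδ hε (fun x => by rw [← hξ, ← hφ])
  subst e2
  -- Glauberman
  obtain ⟨φ, hφa⟩ := exists_act R.fxd.inj S R.fxd.nz
  have hinv : Glaub.Inv φ (fun k => F (jK k)) := fun s k => hEf s k _ (hφa s k)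
  obtain ⟨β, -, -, -, -, hu⟩ := Glaub.existsUnique_below (R.fxd.isFix hφa) hp R.fxd.pg R.pK
    ⟨_, hEK⟩ hinv
  have a1 : (⟨_, hEC⟩ : IrrCharacter C) = β := by
    by_contra hne
    exact hpm (hu ⟨_, hEC⟩ m hm hne)
  have a2 : (⟨_, hFC⟩ : IrrCharacter C) = β := by
    by_contra hne
    exact hpn (hu ⟨_, hFC⟩ n hn hne)
  have a3 := congrArg Subtype.val (a2.trans a1.symm)
  have e3 : F' = E' := canon_unique hp R.injC R.nzC R.idxC R.pC hE' hF' hEC (R.fxC hEC)
    (fun c => congrFun a3 c) hEd' hFd'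
  funext x
  rw [hξ', hφ', e3]

theorem Rl.left_unique (R : RS p jK jC i ι S) {ξ₁ ξ₂ : M → ℂ} {ξ' : M' → ℂ}
    (h1 : Rl p jK jC i ι ξ₁ ξ') (h2 : Rl p jK jC i ι ξ₂ ξ') : ξ₁ = ξ₂ := by
  classical
  have hp := R.fxd.prime
  obtain ⟨E, E', δ, hE, hEK, hEf, hEd, hE', hEC, hEd', ⟨m, hm, hpm⟩, hδ, hξ, hξ'⟩ := h1
  obtain ⟨F, F', ε, hF, hFK, hFf, hFd, hF', hFC, hFd', ⟨n, hn, hpn⟩, hε, hφ, hφ'⟩ := h2
  have e0 : ∀ c, F' (jC c) = E' (jC c) := by
    intro c
    have h3 := hξ' (jC c)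
    have h4 := hφ' (jC c)
    rw [R.comm, hδ] at h3
    rw [R.comm, hε] at h4
    simp only [Units.val_one, one_mul] at h3 h4
    rw [← h3, ← h4]
  have e1 : F' = E' :=
    canon_unique hp R.injC R.nzC R.idxC R.pC hE' hF' hEC (R.fxC hEC) e0 hEd' hFd'
  subst e1
  have e2 : δ.comp ι = ε.comp ι := delta_unique R.injC R.nzC hE' hEC
    (fun c => by change δ (ι (jC c)) = 1; rw [R.comm, hδ])
    (fun c => by change ε (ι (jC c)) = 1; rw [R.comm, hε])
    (fun x => by change (δ (ι x) : ℂ) * _ = ε (ι x) * _; rw [← hξ', ← hφ'])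
  have e3 : δ = ε := by
    ext x
    obtain ⟨k, s, hs, rfl⟩ := R.gen x
    obtain ⟨s', rfl⟩ := R.lift s hs
    rw [map_mul, map_mul, hδ, hε]
    have := congrArg (fun f : M' →* ℂˣ => f s') e2
    change δ (ι s') = ε (ι s') at this
    rw [this]
  subst e3
  obtain ⟨φ, hφa⟩ := exists_act R.fxd.inj S R.fxd.nz
  have hinv : Glaub.Inv φ (fun k => E (jK k)) := fun s k => hEf s k _ (hφa s k)
  have hinv' : Glaub.Inv φ (fun k => F (jK k)) := fun s k => hFf s k _ (hφa s k)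
  have a1 := Glaub.eq_of_common (R.fxd.isFix hφa) hp R.fxd.pg R.pK ⟨_, hEK⟩ ⟨_, hFK⟩ hinv hinv'
    ⟨_, hEC⟩ m n hm hpm hn hpn
  have a2 := congrArg Subtype.val a1
  have e4 : F = E := canon_unique hp R.fxd.inj R.nzK R.idxK R.pK hE hF hEK hEf
    (fun k => (congrFun a2 k).symm) hEd hFd
  funext x
  rw [hξ, hφ, e4]

theorem Rl.exists_right (R : RS p jK jC i ι S) {ξ : M → ℂ} (hξ : IsIrrCharacter M ξ)
    (hdeg : ¬ p ∣ charDegree ξ) : ∃ ξ' : M' → ℂ, Rl p jK jC i ι ξ ξ' := by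
  classical
  have hp := R.fxd.prime
  obtain ⟨a, ha⟩ := R.idxK
  obtain ⟨b, hb⟩ := R.idxC
  obtain ⟨E, δ, hE, hEK, hEf, hEd, hδ, hξE⟩ :=
    pprime_decomp hp R.fxd.inj R.nzK ha R.pK hξ hdeg
  obtain ⟨φ, hφa⟩ := exists_act R.fxd.inj S R.fxd.nz
  have hinv : Glaub.Inv φ (fun k => E (jK k)) := fun s k => hEf s k _ (hφa s k)
  obtain ⟨β, m, hm, hpm, -, -⟩ := Glaub.existsUnique_below (R.fxd.isFix hφa) hp R.fxd.pg R.pK
    ⟨_, hEK⟩ hinv
  obtain ⟨E', hE', hE'β, hEd', -⟩ := canon_core hp R.injC R.nzC hb R.pC β.2 (R.fxC β.2)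
  have e1 : (fun c => E' (jC c)) = β := funext hE'β
  refine ⟨fun x => δ (ι x) * E' x, E, E', δ, hE, hEK, hEf, hEd, hE', by rw [e1]; exact β.2, hEd',
    ⟨m, by rw [e1]; exact hm, hpm⟩, hδ, hξE, fun x => rfl⟩

theorem Rl.exists_left (R : RS p jK jC i ι S) {ξ' : M' → ℂ} (hξ' : IsIrrCharacter M' ξ')
    (hdeg : ¬ p ∣ charDegree ξ') : ∃ ξ : M → ℂ, Rl p jK jC i ι ξ ξ' := by
  classical
  have hp := R.fxd.prime
  obtain ⟨a, ha⟩ := R.idxK
  obtain ⟨b, hb⟩ := R.idxC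
  obtain ⟨E', δ', hE', hEC, hEf', hEd', hδ', hξE'⟩ :=
    pprime_decomp hp R.injC R.nzC hb R.pC hξ' hdeg
  -- lift `δ'`
  have hKn := range_normal R.nzK
  let f : M' →* M ⧸ jK.range := (QuotientGroup.mk' jK.range).comp ι
  have hf : Function.Surjective f := by
    intro q
    obtain ⟨x, rfl⟩ := QuotientGroup.mk_surjective q
    obtain ⟨k, s, hs, rfl⟩ := R.gen x
    obtain ⟨s', rfl⟩ := R.lift s hs
    refine ⟨s', ?_⟩
    change ((ι s' : M) : M ⧸ jK.range) = ((jK k * ι s' : M) : M ⧸ jK.range)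
    rw [QuotientGroup.mk_mul, (QuotientGroup.eq_one_iff (N := jK.range) (jK k)).mpr ⟨k, rfl⟩,
      one_mul]
  have hker : f.ker ≤ δ'.ker := by
    intro x hx
    have h1 : ι x ∈ jK.range := (QuotientGroup.eq_one_iff _).mp hx
    obtain ⟨c, rfl⟩ := R.kerC x h1
    exact hδ' c
  let δ0 : M ⧸ jK.range →* ℂˣ := f.liftOfSurjective hf ⟨δ', hker⟩
  let δ : M →* ℂˣ := δ0.comp (QuotientGroup.mk' jK.range)
  have hδι : ∀ x, δ (ι x) = δ' x := fun x =>
    MonoidHom.liftOfRightInverse_comp_apply f _ (Function.rightInverse_surjInv hf) ⟨δ', hker⟩ x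
  have hδ : ∀ k, δ (jK k) = 1 := by
    intro k
    change δ0 ((jK k : M) : M ⧸ jK.range) = 1
    rw [(QuotientGroup.eq_one_iff (N := jK.range) (jK k)).mpr ⟨k, rfl⟩, map_one]
  obtain ⟨φ, hφa⟩ := exists_act R.fxd.inj S R.fxd.nz
  obtain ⟨η, hηinv, m, hm, hpm⟩ := Glaub.exists_over_fixed (R.fxd.isFix hφa) hp R.fxd.pg R.pK
    ⟨_, hEC⟩
  have hηf : ∀ x : M, Fx jK (η : K → ℂ) x := by
    intro x
    obtain ⟨k, s, hs, rfl⟩ := R.gen x
    refine Fx.mul (R.nzK s) (Fx.coe R.fxd.inj (irr_isClassFunction η) k) ?_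
    intro k1 k2 hk
    have h1 : k2 = φ ⟨s, hs⟩ k1 := R.fxd.inj (by rw [hk, hφa])
    rw [h1]
    exact hηinv ⟨s, hs⟩ k1
  obtain ⟨E, hE, hEη, hEd, -⟩ := canon_core hp R.fxd.inj R.nzK ha R.pK η.2 hηf
  have e1 : (fun k => E (jK k)) = η := funext hEη
  refine ⟨fun x => δ x * E x, E, E', δ, hE, by rw [e1]; exact η.2, by rw [e1]; exact hηf, hEd,
    hE', hEC, hEd', ⟨m, ?_, hpm⟩, hδ, fun x => rfl, fun x => by rw [hδι, hξE']⟩
  have e2 : (fun c => E (jK (i c))) = Glaub.res i (η : K → ℂ) := by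
    funext c
    exact hEη (i c)
  rw [e2]
  exact hm

/-- equivariance -/
theorem Rl.comp {ξ : M → ℂ} {ξ' : M' → ℂ} (h : Rl p jK jC i ι ξ ξ') (αK : K ≃* K) (αM : M ≃* M)
    (αC : C ≃* C) (αM' : M' ≃* M') (h1 : ∀ k, αM (jK k) = jK (αK k))
    (h2 : ∀ c, αM' (jC c) = jC (αC c)) (h3 : ∀ c, αK (i c) = i (αC c))
    (h4 : ∀ x, αM (ι x) = ι (αM' x)) :
    Rl p jK jC i ι (fun x => ξ (αM x)) (fun x => ξ' (αM' x)) := by
  obtain ⟨E, E', δ, hE, hEK, hEf, hEd, hE', hEC, hEd', ⟨m, hm, hpm⟩, hδ, hξ, hξ'⟩ := h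
  have e1 : (fun k => E (αM (jK k))) = fun k => E (jK (αK k)) := by
    funext k
    rw [h1]
  have e2 : (fun c => E' (αM' (jC c))) = fun c => E' (jC (αC c)) := by
    funext c
    rw [h2]
  refine ⟨fun x => E (αM x), fun x => E' (αM' x), δ.comp αM.toMonoidHom,
    isIrrCharacter_comp_surjective hE αM.toMonoidHom αM.surjective, ?_, ?_, ?_,
    isIrrCharacter_comp_surjective hE' αM'.toMonoidHom αM'.surjective, ?_, ?_,
    ⟨m, ?_, hpm⟩, ?_, ?_, ?_⟩
  · rw [e1]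
    exact isIrrCharacter_comp_surjective hEK αK.toMonoidHom αK.surjective
  · intro x k k' hk
    rw [e1]
    simp only
    refine hEf (αM x) (αK k) (αK k') ?_
    rw [← h1, ← h1, hk, map_mul, map_mul, map_inv]
  · have := detOrder_comp αM.toMonoidHom αM.surjective hE
    rw [show (fun x => E (αM x)) = fun x => E (αM.toMonoidHom x) from rfl, this]
    exact hEd
  · rw [e2]
    exact isIrrCharacter_comp_surjective hEC αC.toMonoidHom αC.surjective
  · have := detOrder_comp αM'.toMonoidHom αM'.surjective hE'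
    rw [show (fun x => E' (αM' x)) = fun x => E' (αM'.toMonoidHom x) from rfl, this]
    exact hEd'
  · have h5 := classInner_comp_equiv αC (fun c => E (jK (i c))) (fun c => E' (jC c))
    rw [hm] at h5
    rw [← h5, e2]
    congr 1
    funext c
    change E (αM (jK (i c))) = E (jK (i (αC c)))
    rw [h1, h3]
  · intro k
    change δ (αM (jK k)) = 1
    rw [h1, hδ]
  · intro x
    exact hξ (αM x)
  · intro x
    change ξ' (αM' x) = (δ (αM (ι x)) : ℂ) * E' (αM' x)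
    rw [hξ', h4]

/-- a central element of p-power order acts trivially in a character of p'-degree with
determinant of p'-order -/
theorem central_one {G : Type u} [Group G] [Finite G] (hp : p.Prime) {E : G → ℂ}
    (hE : IsIrrCharacter G E) (hdeg : ¬ p ∣ charDegree E) (hEd : ¬ p ∣ detOrder E) {z : G}
    (hz : z ∈ Subgroup.center G) {k : ℕ} (hzk : z ^ p ^ k = 1) : E z = E 1 := by
  obtain ⟨d, ρ, hρ, rfl⟩ := hE
  obtain ⟨c, hc⟩ := exists_smul_one_of_commute ρ hρ (ρ z) (by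
    intro g
    rw [← map_mul, ← map_mul, Subgroup.mem_center_iff.mp hz g])
  have hE1 : ρ.character 1 = d := by rw [Representation.char_one, Module.finrank_fin_fun]
  rw [H75.charDegree_eq hE1] at hdeg
  have hnt := nontrivial_of_irreducible_rep ρ hρ
  have hcp : c ^ p ^ k = 1 := by
    have h1 : ρ (z ^ p ^ k) = (c ^ p ^ k) • (1 : Module.End ℂ (Fin d → ℂ)) := by
      rw [map_pow, hc, smul_pow, one_pow]
    rw [hzk, map_one] at h1
    obtain ⟨v, hv⟩ := exists_ne (0 : Fin d → ℂ)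
    have h2 := congrArg (fun e : Module.End ℂ (Fin d → ℂ) => e v) h1
    have h3 : v = c ^ p ^ k • v := h2
    have h4 : (c ^ p ^ k - 1) • v = 0 := by rw [sub_smul, one_smul, ← h3, sub_self]
    rcases smul_eq_zero.mp h4 with h5 | h5
    · exact sub_eq_zero.mp h5
    · exact absurd h5 hv
  have hcd : c ^ (d * detOrder ρ.character) = 1 := by
    have h1 : detChar ρ.character z ^ detOrder ρ.character = 1 :=
      pow_fun_eq_one_iff.mp (pow_orderOf_eq_one (detChar ρ.character)) z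
    rw [detChar_eq ρ ⟨d, ρ, hρ, rfl⟩, detHom_apply, hc, LinearMap.det_smul, map_one, mul_one,
      Module.finrank_fin_fun, ← pow_mul] at h1
    exact h1
  have hc1 : c = 1 := by
    have h1 : orderOf c ∣ p ^ k := orderOf_dvd_of_pow_eq_one hcp
    have h2 : orderOf c ∣ d * detOrder ρ.character := orderOf_dvd_of_pow_eq_one hcd
    obtain ⟨b, -, hb⟩ := (Nat.dvd_prime_pow hp).mp h1
    rcases Nat.eq_zero_or_pos b with h | h
    · rw [h, pow_zero] at hb
      exact orderOf_eq_one_iff.mp hb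
    · exfalso
      have h3 : p ∣ d * detOrder ρ.character := (hb ▸ dvd_pow_self p (by omega)).trans h2
      rcases hp.dvd_mul.mp h3 with h4 | h4
      · exact hdeg h4
      · exact hEd h4
  change LinearMap.trace ℂ _ (ρ z) = LinearMap.trace ℂ _ (ρ 1)
  rw [hc, hc1, one_smul, map_one ρ]

/-- compatibility with central characters -/
theorem Rl.central (R : RS p jK jC i ι S) {ξ : M → ℂ} {ξ' : M' → ℂ} (h : Rl p jK jC i ι ξ ξ')
    {z : M'} (hz : ι z ∈ Subgroup.center M) (c : ℂ) : ξ (ι z) = ξ 1 * c ↔ ξ' z = ξ' 1 * c := by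
  classical
  have hp := R.fxd.prime
  have hdeg := h.deg R
  obtain ⟨E, E', δ, hE, hEK, hEf, hEd, hE', hEC, hEd', ⟨m, hm, hpm⟩, hδ, hξ, hξ'⟩ := h
  have hz' : z ∈ Subgroup.center M' := by
    rw [Subgroup.mem_center_iff]
    intro g
    apply R.injι
    rw [map_mul, map_mul]
    exact Subgroup.mem_center_iff.mp hz (ι g)
  have hdE : ¬ p ∣ charDegree E := not_dvd_charDegree_of_irr R.pK hEK
  have hdE' : ¬ p ∣ charDegree E' := not_dvd_charDegree_of_irr R.pC hEC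
  -- the p-part and p'-part
  obtain ⟨a, b, hab, ha, hb⟩ : ∃ a b : ℤ, z = z ^ a * z ^ b ∧ (∃ k, (z ^ a) ^ p ^ k = 1) ∧
      ¬ p ∣ orderOf (z ^ b) := by
    obtain ⟨k, n, hn, hkn⟩ : ∃ k n, ¬ p ∣ n ∧ orderOf z = p ^ k * n := by
      obtain ⟨k, n, hn, hkn⟩ := Nat.exists_eq_pow_mul_and_not_dvd (orderOf_pos z).ne' p
        hp.ne_one
      exact ⟨k, n, hn, hkn⟩
    have hcop : Nat.Coprime (p ^ k) n :=
      Nat.Coprime.pow_left k ((Nat.Prime.coprime_iff_not_dvd hp).mpr hn)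
    have hbez := Nat.gcd_eq_gcd_ab (p ^ k) n
    rw [hcop.gcd_eq_one] at hbez
    refine ⟨n * Nat.gcdB (p ^ k) n, (p ^ k : ℕ) * Nat.gcdA (p ^ k) n, ?_, ⟨k, ?_⟩, ?_⟩
    · rw [← zpow_add, add_comm, ← hbez]
      simp
    · rw [← zpow_natCast, ← zpow_mul]
      have h1 : ((n : ℤ) * Nat.gcdB (p ^ k) n * ((p ^ k : ℕ) : ℤ)) =
        (orderOf z : ℤ) * Nat.gcdB (p ^ k) n := by
        rw [hkn]
        push_cast
        ring
      rw [h1, zpow_mul, zpow_natCast, pow_orderOf_eq_one, one_zpow]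
    · intro hd
      apply hn
      refine hd.trans ?_
      apply orderOf_dvd_of_pow_eq_one
      rw [← zpow_natCast, ← zpow_mul]
      have h1 : (((p ^ k : ℕ) : ℤ) * Nat.gcdA (p ^ k) n * (n : ℤ)) =
        (orderOf z : ℤ) * Nat.gcdA (p ^ k) n := by
        rw [hkn]
        push_cast
        ring
      rw [h1, zpow_mul, zpow_natCast, pow_orderOf_eq_one, one_zpow]
  obtain ⟨k, hk⟩ := ha
  have hza : z ^ a ∈ Subgroup.center M' := Subgroup.zpow_mem _ hz' a
  have hzb : z ^ b ∈ Subgroup.center M' := Subgroup.zpow_mem _ hz' b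
  have hιa : ι (z ^ a) ∈ Subgroup.center M := by
    rw [map_zpow]
    exact Subgroup.zpow_mem _ hz a
  have hιb : ι (z ^ b) ∈ Subgroup.center M := by
    rw [map_zpow]
    exact Subgroup.zpow_mem _ hz b
  have e1 : E (ι (z ^ a)) = E 1 := central_one hp hE hdE hEd hιa (k := k)
    (by rw [← map_pow, hk, map_one])
  have e1' : E' (z ^ a) = E' 1 := central_one hp hE' hdE' hEd' hza hk
  -- the p'-part
  have hbC : z ^ b ∈ jC.range := by
    have hCn := range_normal R.nzC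
    obtain ⟨q, hq⟩ := R.idxC
    rw [← QuotientGroup.eq_one_iff]
    have h1 : orderOf ((z ^ b : M') : M' ⧸ jC.range) ∣ p ^ q := by
      rw [← hq, Subgroup.index_eq_card]
      exact orderOf_dvd_natCard _
    have h2 : orderOf ((z ^ b : M') : M' ⧸ jC.range) ∣ orderOf (z ^ b) :=
      orderOf_map_dvd (QuotientGroup.mk' jC.range) (z ^ b)
    obtain ⟨r, -, hr⟩ := (Nat.dvd_prime_pow hp).mp h1
    rcases Nat.eq_zero_or_pos r with h | h
    · rw [h, pow_zero] at hr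
      exact orderOf_eq_one_iff.mp hr
    · exfalso
      apply hb
      exact (hr ▸ dvd_pow_self p (by omega)).trans h2
  obtain ⟨c₁, hc₁⟩ := hbC
  have hE1 := irr_one_ne_zero hE
  have hE1' := irr_one_ne_zero hE'
  set ω := E (ι (z ^ b)) / E 1 with hω
  set ω' := E' (z ^ b) / E' 1 with hω'
  have f1 : ∀ c, E (jK (i (c * c₁))) = ω * E (jK (i c)) := by
    intro c
    rw [← R.comm, map_mul, map_mul, R.comm c, hc₁, irr_mul_central hE hιb, hω]
    ring
  have f2 : ∀ c, E' (jC (c * c₁)) = ω' * E' (jC c) := by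
    intro c
    rw [map_mul, hc₁, irr_mul_central hE' hzb, hω']
    ring
  have hne : classInner (fun c => E (jK (i c))) (fun c => E' (jC c)) ≠ 0 := by
    rw [hm]
    intro h0
    have : m = 0 := by exact_mod_cast h0
    exact hpm (this ▸ dvd_zero p)
  have f3 : ω * conj ω' = 1 := by
    have h1 : classInner (fun c => E (jK (i c))) (fun c => E' (jC c)) =
        (ω * conj ω') * classInner (fun c => E (jK (i c))) (fun c => E' (jC c)) := by
      conv_lhs => unfold classInner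
      rw [← Equiv.sum_comp (Equiv.mulRight c₁)]
      unfold classInner
      rw [Finset.mul_sum, Finset.mul_sum, Finset.mul_sum]
      refine Finset.sum_congr rfl fun c _ => ?_
      simp only [Equiv.coe_mulRight]
      rw [f1, f2, map_mul]
      ring
    exact mul_right_cancel₀ hne (by rw [one_mul]; exact h1.symm)
  have f4 : ω' * conj ω' = 1 := by
    have h1 := irr_mul_central hE' (Subgroup.inv_mem _ hzb) (z ^ b)
    have h2 : E' (z ^ b)⁻¹ = conj (E' (z ^ b)) := irr_inv ⟨E', hE'⟩ (z ^ b)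
    rw [mul_inv_cancel, h2] at h1
    obtain ⟨n, hn⟩ := exists_nat_degree (isCharacter_of_isIrr hE')
    rw [hω', map_div₀, hn, Complex.conj_natCast]
    rw [hn] at h1 hE1'
    field_simp at h1 ⊢
    linear_combination -h1
  have f5 : ω = ω' := by
    have h0 : conj ω' ≠ 0 := by
      intro h0
      rw [h0, mul_zero] at f3
      exact zero_ne_one f3
    exact mul_right_cancel₀ h0 (f3.trans f4.symm)
  have g1 : E (ι z) = ω * E 1 := by
    have h1 : E (ι z) = E (ι (z ^ a) * ι (z ^ b)) := by rw [← map_mul, ← hab]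
    rw [h1, irr_mul_central hE hιb, e1, hω]
    ring
  have g2 : E' z = ω * E' 1 := by
    have h1 : E' z = E' (z ^ a * z ^ b) := by rw [← hab]
    rw [h1, irr_mul_central hE' hzb, e1', f5, hω']
    ring
  rw [hξ, hξ', hξ, hξ', g1, g2, map_one, map_one, map_one, Units.val_one, one_mul, one_mul]
  constructor
  · intro h1
    have h2 : (δ (ι z) : ℂ) * ω = c := by
      apply mul_left_cancel₀ hE1
      rw [← h1]
      ring
    rw [← h2]
    ring
  · intro h1
    have h2 : (δ (ι z) : ℂ) * ω = c := by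
      apply mul_left_cancel₀ hE1'
      rw [← h1]
      ring
    rw [← h2]
    ring

end Cfsg.Agent.H76.Twc
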