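import Cfsg.Agent.H76.Twe4
import Cfsg.Agent.H76.Triple2
import Cfsg.Agent.H75.CenterDeg

/-!
# The degree quotient divides the index
-/

set_option autoImplicit false
set_option linter.unusedSectionVars false
set_option linter.unusedFintypeInType false

namespace Cfsg.Agent.H76.Twc

open scoped ComplexConjugate
open Cfsg Cfsg.Agent.CharBase Cfsg.Agent.Char

universe u v w x

theorem ratio_inv {A : Type u} [Group A] [Finite A] (L : Subgroup A) [hL : L.Normal] [Fintype L]
    {θ : L → ℂ}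
    (hθ : IsIrrCharacter L θ) (hinv : ∀ a : A, cj L a θ = θ) {χ : A → ℂ}
    (hχ : IsIrrCharacter A χ) (hne : classInner (fun l : L => χ l) θ ≠ 0) :
    ∃ k : ℕ, χ 1 = k * θ 1 ∧ k ∣ L.index := by
  classical
  obtain ⟨H, _, _, ⟨T⟩⟩ := Trip.exists_lin L hθ hinv
  have := Fintype.ofFinite H
  -- use the whole group
  have htop : L ≤ (⊤ : Subgroup A) := le_top
  let χt : (⊤ : Subgroup A) → ℂ := fun x => χ x
  have hχt : IsIrrCharacter (⊤ : Subgroup A) χt :=
    isIrrCharacter_comp_surjective hχ (Subgroup.topEquiv (G := A)).toMonoidHom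
      Subgroup.topEquiv.surjective
  obtain ⟨β, hβ, hrel⟩ := T.exists_down hθ htop hχt hne
  have h1 : χ 1 = β 1 * θ 1 := T.rel_one hrel
  have hβ1 := H75.deg_spec ⟨β, hβ⟩
  refine ⟨H75.deg ⟨β, hβ⟩, ?_, ?_⟩
  · rw [h1, ← hβ1]
  · -- the central subgroup
    let q : T.p.ker →* T.bar (⊤ : Subgroup A) :=
      { toFun := fun z => T.qX ⊤ ⟨(z : H), trivial⟩
        map_one' := by
          rw [← map_one (T.qX ⊤)]
          rfl
        map_mul' := fun a b => by
          rw [← map_mul (T.qX ⊤)]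
          rfl }
    have hcomm : ∀ (z : T.p.ker) (h : T.up (⊤ : Subgroup A)),
        q z * T.qX ⊤ h = T.qX ⊤ h * q z := by
      intro z h
      change T.qX ⊤ _ * T.qX ⊤ h = T.qX ⊤ h * T.qX ⊤ _
      rw [← map_mul, ← map_mul]
      congr 1
      apply Subtype.ext
      exact T.central z z.2 h
    have hqn : q.range.Normal := by
      constructor
      rintro _ ⟨z, rfl⟩ g
      obtain ⟨h, rfl⟩ := T.qX_surj ⊤ g
      rw [← hcomm, mul_inv_cancel_right]
      exact ⟨z, rfl⟩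
    have h2 : H75.deg (⟨β, hβ⟩ : IrrCharacter (T.bar (⊤ : Subgroup A))) ∣ q.range.index := by
      apply H75.deg_dvd_index_of_scalar
      rintro _ ⟨z, rfl⟩ g
      obtain ⟨h, rfl⟩ := T.qX_surj ⊤ g
      have h3 : q z * T.qX ⊤ h * (q z)⁻¹ * (T.qX ⊤ h)⁻¹ = 1 := by
        rw [hcomm]
        group
      rw [h3]
    refine h2.trans ?_
    -- the quotient is a quotient of `A ⧸ L`
    let f : (T.up (⊤ : Subgroup A)) →* A ⧸ L :=
      (QuotientGroup.mk' L).comp (T.p.comp (T.up ⊤).subtype)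
    have hf : Function.Surjective f := by
      intro y
      obtain ⟨a, rfl⟩ := QuotientGroup.mk_surjective y
      obtain ⟨h, rfl⟩ := T.surj a
      exact ⟨⟨h, trivial⟩, rfl⟩
    have e1 : f.ker.index = L.index := by
      rw [Subgroup.index_ker, MonoidHom.range_eq_top.mpr hf, Subgroup.card_top,
        Subgroup.index_eq_card]
    have e2 : (q.range.comap (T.qX ⊤)).index = q.range.index :=
      Subgroup.index_comap_of_surjective _ (T.qX_surj ⊤)
    rw [← e1, ← e2]
    apply Subgroup.index_dvd_of_le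
    intro h hh
    have h4 : T.p (h : H) ∈ L := (QuotientGroup.eq_one_iff _).mp hh
    -- `h = z ι(l)`
    have h5 : (h : H) * (T.ι ⟨T.p h, h4⟩)⁻¹ ∈ T.p.ker := by
      rw [MonoidHom.mem_ker, map_mul, map_inv, T.p_ι, mul_inv_cancel]
    refine ⟨⟨_, h5⟩, ?_⟩
    change T.qX ⊤ ⟨(h : H) * (T.ι ⟨T.p h, h4⟩)⁻¹, trivial⟩ = T.qX ⊤ h
    apply Subtype.ext
    rw [T.qX_coe, T.qX_coe]
    change (((h : H) * (T.ι ⟨T.p h, h4⟩)⁻¹ : H) : H ⧸ T.I) = ((h : H) : H ⧸ T.I)
    rw [QuotientGroup.mk_mul, QuotientGroup.mk_inv,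
      (QuotientGroup.eq_one_iff (N := T.I) (T.ι ⟨T.p h, h4⟩)).mpr (T.ι_mem _), inv_one, mul_one]

/-- The degree quotient divides the index. -/
theorem ratio {G : Type u} [Group G] [Finite G] (N : Subgroup G) [hN : N.Normal] [Fintype N]
    {θ : N → ℂ} (hθ : IsIrrCharacter N θ) {χ : G → ℂ}
    (hχ : IsIrrCharacter G χ) (hne : classInner (fun l : N => χ l) θ ≠ 0) :
    ∃ k : ℕ, χ 1 = k * θ 1 ∧ k ∣ N.index := by
  classical
  have := Fintype.ofFinite G
  have := Fintype.ofFinite (inertia N θ)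
  have hNT : N ≤ inertia N θ := le_inertia N
    (isClassFunction_of_isCharacter (isCharacter_of_isIrr hθ))
  obtain ⟨ψ, hψ, hψχ, hψo⟩ := clifford_correspondence N (inertia N θ) hθ rfl hNT hχ hne
  let e : N.subgroupOf (inertia N θ) ≃* N := Subgroup.subgroupOfEquivOfLe hNT
  have : Fintype (N.subgroupOf (inertia N θ)) := Fintype.ofFinite _
  have hN' : (N.subgroupOf (inertia N θ)).Normal := Subgroup.normal_subgroupOf
  let θ' : N.subgroupOf (inertia N θ) → ℂ := fun n => θ (e n)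
  have hθ' : IsIrrCharacter (N.subgroupOf (inertia N θ)) θ' :=
    isIrrCharacter_comp_surjective hθ e.toMonoidHom e.surjective
  obtain ⟨k, hk, hkd⟩ := ratio_inv (N.subgroupOf (inertia N θ)) hθ' (by
    intro a
    funext n
    have h1 := congrFun ((mem_inertia N).mp a.2) (e n)
    exact h1) hψ (by
    have h1 : classInner (fun l : N.subgroupOf (inertia N θ) => ψ l) θ' =
        classInner (fun n : N => ψ ⟨n, hNT n.2⟩) θ :=
      classInner_comp_equiv e (fun n : N => ψ ⟨n, hNT n.2⟩) θ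
    rw [h1, hψo]
    exact hne)
  refine ⟨(inertia N θ).index * k, ?_, ?_⟩
  · rw [← hψχ, indFun_one_apply, hk]
    have : θ' 1 = θ 1 := by
      change θ (e 1) = θ 1
      rw [map_one]
    rw [this]
    push_cast
    ring
  · have h1 := Subgroup.relIndex_mul_index hNT
    rw [← h1, mul_comm]
    exact Nat.mul_dvd_mul_right hkd _

theorem not_dvd_charDegree_over {G : Type u} [Group G] [Finite G] {p : ℕ} (hp : p.Prime)
    (N : Subgroup G) [hN : N.Normal] [Fintype N] (hi : ¬ p ∣ N.index)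
    {θ : N → ℂ} (hθ : IsIrrCharacter N θ) (hd : ¬ p ∣ charDegree θ) {χ : G → ℂ}
    (hχ : IsIrrCharacter G χ) (hne : classInner (fun l : N => χ l) θ ≠ 0) :
    ¬ p ∣ charDegree χ := by
  obtain ⟨k, hk, hkd⟩ := ratio N hθ hχ hne
  obtain ⟨n, hn⟩ := exists_nat_degree (isCharacter_of_isIrr hθ)
  rw [H75.charDegree_eq hn] at hd
  have h1 : χ 1 = ((k * n : ℕ) : ℂ) := by
    rw [hk, hn]
    push_cast
    rfl
  rw [H75.charDegree_eq h1]
  intro h2
  rcases hp.dvd_mul.mp h2 with h3 | h3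
  · exact hi (h3.trans hkd)
  · exact hd h3

theorem dvd_charDegree_over {G : Type u} [Group G] [Finite G] {p : ℕ}
    (N : Subgroup G) [hN : N.Normal] [Fintype N]
    {θ : N → ℂ} (hθ : IsIrrCharacter N θ) {χ : G → ℂ}
    (hχ : IsIrrCharacter G χ) (hne : classInner (fun l : N => χ l) θ ≠ 0)
    (hd : ¬ p ∣ charDegree χ) :
    ¬ p ∣ charDegree θ := by
  obtain ⟨k, hk, hkd⟩ := ratio N hθ hχ hne
  obtain ⟨n, hn⟩ := exists_nat_degree (isCharacter_of_isIrr hθ)
  rw [H75.charDegree_eq hn]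
  have h1 : χ 1 = ((k * n : ℕ) : ℂ) := by
    rw [hk, hn]
    push_cast
    rfl
  rw [H75.charDegree_eq h1] at hd
  intro h2
  exact hd (Dvd.dvd.mul_left h2 k)

end Cfsg.Agent.H76.Twc
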