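import Cfsg.Agent.H76.Twe5

/-!
# The final case: set-up
-/

set_option autoImplicit false
set_option linter.unusedSectionVars false
set_option linter.unusedFintypeInType false

namespace Cfsg.Agent.H76.Twc

open scoped ComplexConjugate Pointwise
open Cfsg Cfsg.Agent.CharBase Cfsg.Agent.Char

universe u v w x

variable {Γ : Type u} [Group Γ] [Finite Γ] {p : ℕ} (K S M : Subgroup Γ)

/-- the normaliser -/
abbrev NS (S : Subgroup Γ) : Subgroup Γ := Subgroup.normalizer (S : Set Γ)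

/-- `C → K` -/
def iK : (K.subgroupOf (NS S)) →* K where
  toFun c := ⟨((c : NS S) : Γ), c.2⟩
  map_one' := rfl
  map_mul' _ _ := rfl

theorem nz_subtype [hKn : K.Normal] (x : Γ) : Nz K.subtype x :=
  ⟨fun k => ⟨⟨x * k * x⁻¹, hKn.conj_mem k k.2 x⟩, rfl⟩, fun k => ⟨⟨x⁻¹ * k * x, by
    have := hKn.conj_mem k k.2 x⁻¹
    rwa [inv_inv] at this⟩, rfl⟩⟩

theorem inf_eq_bot_of (hp : p.Prime) (hpK : ¬ p ∣ Nat.card K) (hS : IsPGroup p S) {x : Γ}
    (hxK : x ∈ K) (hxS : x ∈ S) : x = 1 := by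
  have h1 := eq_one_of_pgroup hp K.subtype_injective hpK hS (k := ⟨x, hxK⟩) hxS
  exact congrArg Subtype.val h1

theorem fxdG [hKn : K.Normal] (hp : p.Prime) (hpK : ¬ p ∣ Nat.card K) (hS : IsPGroup p S) :
    Fxd p K.subtype (iK K S) S := by
  refine ⟨hp, K.subtype_injective, ?_, hS, fun s _ => nz_subtype K s, ?_⟩
  · intro a b hab
    apply Subtype.ext
    apply Subtype.ext
    exact congrArg (fun k : K => (k : Γ)) hab
  · intro k
    constructor
    · intro h
      have h1 : (k : Γ) ∈ NS S := by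
        have hc : ∀ s ∈ S, s * (k : Γ) = k * s := by
          intro s hs
          have h2 : s * (k : Γ) * s⁻¹ = k := h s hs
          rwa [mul_inv_eq_iff_eq_mul] at h2
        rw [Subgroup.mem_normalizer_iff]
        intro g
        constructor
        · intro hg
          rw [← hc g hg, mul_inv_cancel_right]
          exact hg
        · intro hg
          have h3 := hc _ hg
          have h4 : (k : Γ) * g * (k : Γ)⁻¹ * k = k * g := by group
          rw [h4] at h3
          have h5 : g = (k : Γ) * g * (k : Γ)⁻¹ := mul_left_cancel h3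
          rw [h5]
          exact hg
      exact ⟨⟨⟨k, h1⟩, k.2⟩, rfl⟩
    · rintro ⟨c, rfl⟩ s hs
      have hcN : ((c : NS S) : Γ) ∈ NS S := (c : NS S).2
      have hcK : ((c : NS S) : Γ) ∈ K := c.2
      have h1 : s * ((c : NS S) : Γ) * s⁻¹ * ((c : NS S) : Γ)⁻¹ = 1 := by
        apply inf_eq_bot_of K S hp hpK hS
        · exact K.mul_mem (hKn.conj_mem _ hcK s) (K.inv_mem hcK)
        · have h2 : s * ((c : NS S) : Γ) * s⁻¹ * ((c : NS S) : Γ)⁻¹ =
            s * (((c : NS S) : Γ) * s⁻¹ * ((c : NS S) : Γ)⁻¹) := by group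
          rw [h2]
          exact S.mul_mem hs ((Subgroup.mem_normalizer_iff.mp hcN _).mp (S.inv_mem hs))
      exact mul_inv_eq_one.mp h1

variable {K S M}

/-- `K → M` -/
abbrev jKM (hKM : K ≤ M) : K →* M := Subgroup.inclusion hKM

/-- `C → M'` -/
abbrev jCM (hKM : K ≤ M) : (K.subgroupOf (NS S)) →* (M.subgroupOf (NS S)) :=
  Subgroup.inclusion (Subgroup.comap_mono hKM)

variable (S M) in
/-- `M' → M` -/
def ιM : (M.subgroupOf (NS S)) →* M where
  toFun c := ⟨((c : NS S) : Γ), c.2⟩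
  map_one' := rfl
  map_mul' _ _ := rfl

theorem rsG [hKn : K.Normal] [Fintype K] [Fintype (K.subgroupOf (NS S))] (hp : p.Prime)
    (hpK : ¬ p ∣ Nat.card K) (hS : IsPGroup p S)
    (hM : M = K ⊔ S) (hKM : K ≤ M) :
    RS p (jKM hKM) (jCM (S := S) hKM) (iK K S) (ιM S M) (S.subgroupOf M) := by
  have hSM : S ≤ M := hM ▸ le_sup_right
  have F := fxdG K S hp hpK hS
  have hgen : ∀ x : Γ, x ∈ M → ∃ k ∈ K, ∃ s ∈ S, x = k * s := by
    intro x hx
    rw [hM] at hx
    have h1 : x ∈ (K : Set Γ) * (S : Set Γ) := by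
      rw [← Subgroup.normal_mul]
      exact hx
    obtain ⟨k, hk, s, hs, rfl⟩ := Set.mem_mul.mp h1
    exact ⟨k, hk, s, hs, rfl⟩
  have hinjK : Function.Injective (jKM hKM) := Subgroup.inclusion_injective hKM
  have hinjC : Function.Injective (jCM (S := S) hKM) := Subgroup.inclusion_injective _
  have hnzK : ∀ x : M, Nz (jKM hKM) x := fun x =>
    Nz.of_map (f := M.subtype) M.subtype_injective (nz_subtype K (x : Γ))
  have hidxK : ∃ a, (jKM hKM).range.index = p ^ a := by
    have h1 : (jKM hKM).range = K.subgroupOf M := by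
      ext x
      constructor
      · rintro ⟨k, rfl⟩
        exact k.2
      · intro hx
        exact ⟨⟨x, hx⟩, rfl⟩
    have h2 : (K.subgroupOf M).index ∣ Nat.card S := by
      change K.relIndex M ∣ _
      rw [hM, sup_comm, Subgroup.relIndex_sup_right]
      exact Subgroup.relIndex_dvd_card K S
    rw [h1]
    have := Fact.mk hp
    obtain ⟨n, hn⟩ := IsPGroup.iff_card.mp hS
    rw [hn] at h2
    obtain ⟨a, -, ha⟩ := (Nat.dvd_prime_pow hp).mp h2
    exact ⟨a, ha⟩
  have hker : ∀ x : M.subgroupOf (NS S), ιM S M x ∈ (jKM hKM).range →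
      x ∈ (jCM (S := S) hKM).range := by
    rintro x ⟨k, hk⟩
    have h1 : ((x : NS S) : Γ) ∈ K := by
      have h2 : (k : Γ) = ((x : NS S) : Γ) := congrArg (fun y : M => (y : Γ)) hk
      rw [← h2]
      exact k.2
    exact ⟨⟨x, h1⟩, rfl⟩
  refine ⟨⟨hp, hinjK, F.inj', ?_, fun s _ => hnzK s, ?_⟩, hpK, hinjC, ?_, fun c => rfl, hnzK, ?_,
    hidxK, ?_, ?_, ?_, ?_, hker⟩
  · exact hS.comap_of_injective M.subtype M.subtype_injective
  · intro k
    rw [← F.fix]
    constructor
    · intro h s hs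
      exact congrArg (fun y : M => (y : Γ)) (h ⟨s, hSM hs⟩ hs)
    · intro h s hs
      apply Subtype.ext
      exact h s hs
  · intro a b hab
    apply Subtype.ext
    apply Subtype.ext
    exact congrArg (fun y : M => (y : Γ)) hab
  · intro x
    refine Nz.of_map (f := (M.subgroupOf (NS S)).subtype) (Subgroup.subtype_injective _) ?_
    exact nz_subtype (K.subgroupOf (NS S)) (x : NS S)
  · -- index of `C`
    have hn := range_normal hnzK
    have h1 : (jCM (S := S) hKM).range =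
        ((QuotientGroup.mk' (jKM hKM).range).comp (ιM S M)).ker := by
      ext x
      rw [MonoidHom.mem_ker]
      constructor
      · rintro ⟨c, rfl⟩
        exact (QuotientGroup.eq_one_iff _).mpr ⟨iK K S c, rfl⟩
      · intro hx
        exact hker x ((QuotientGroup.eq_one_iff _).mp hx)
    obtain ⟨a, ha⟩ := hidxK
    have h2 : (jCM (S := S) hKM).range.index ∣ p ^ a := by
      rw [h1, Subgroup.index_ker, ← ha, Subgroup.index_eq_card]
      exact Subgroup.card_subgroup_dvd_card _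
    obtain ⟨b, -, hb⟩ := (Nat.dvd_prime_pow hp).mp h2
    exact ⟨b, hb⟩
  · rintro ⟨x, hx⟩
    obtain ⟨k, hk, s, hs, rfl⟩ := hgen x hx
    exact ⟨⟨k, hk⟩, ⟨s, hSM hs⟩, hs, rfl⟩
  · rintro ⟨⟨x, hxN⟩, hx⟩
    obtain ⟨k, hk, s, hs, rfl⟩ := hgen x hx
    have hsN : s ∈ NS S := Subgroup.le_normalizer hs
    have hkN : k ∈ NS S := by
      have h1 := (NS S).mul_mem hxN ((NS S).inv_mem hsN)
      rwa [mul_inv_cancel_right] at h1
    exact ⟨⟨⟨k, hkN⟩, hk⟩, ⟨⟨s, hsN⟩, hSM hs⟩, hs, rfl⟩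
  · rintro ⟨s, hsM⟩ hs
    exact ⟨⟨⟨s, Subgroup.le_normalizer hs⟩, hsM⟩, rfl⟩

end Cfsg.Agent.H76.Twc
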