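import Cfsg.Agent.H76.Twf1

/-!
# The final case: transfer of the commutator scalars
-/

set_option autoImplicit false
set_option linter.unusedSectionVars false
set_option linter.unusedFintypeInType false

namespace Cfsg.Agent.H76.Twc

open scoped ComplexConjugate Pointwise
open Cfsg Cfsg.Agent.CharBase Cfsg.Agent.Char

universe u v w x

theorem mem_range_of_not_dvd {M : Type u} [Group M] [Finite M] {K : Type v} [Group K] [Finite K]
    {j : K →* M} {p : ℕ} (hp : p.Prime) (hnz : ∀ x : M, Nz j x)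
    (hidx : ∃ a, j.range.index = p ^ a) {x : M} (hx : ¬ p ∣ orderOf x) : x ∈ j.range := by
  have hn := range_normal hnz
  obtain ⟨q, hq⟩ := hidx
  rw [← QuotientGroup.eq_one_iff]
  have h1 : orderOf (x : M ⧸ j.range) ∣ p ^ q := by
    rw [← hq, Subgroup.index_eq_card]
    exact orderOf_dvd_natCard _
  have h2 : orderOf (x : M ⧸ j.range) ∣ orderOf x :=
    orderOf_map_dvd (QuotientGroup.mk' j.range) x
  obtain ⟨r, -, hr⟩ := (Nat.dvd_prime_pow hp).mp h1
  rcases Nat.eq_zero_or_pos r with h | h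
  · rw [h, pow_zero] at hr
    exact orderOf_eq_one_iff.mp hr
  · exfalso
    apply hx
    exact (hr ▸ dvd_pow_self p (by omega)).trans h2

variable {Γ : Type u} [Group Γ] [Finite Γ] {p : ℕ} {K S M : Subgroup Γ} [hKn : K.Normal]
  [hMn : M.Normal] [Fintype K] [Fintype (K.subgroupOf (NS S))]

instance instNormalMN : (M.subgroupOf (NS S)).Normal := Subgroup.normal_subgroupOf

/-- equivariance under the normaliser -/
theorem Rl.cj (hKM : K ≤ M) {ξ : M → ℂ} {ξ' : M.subgroupOf (NS S) → ℂ}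
    (h : Rl p (jKM hKM) (jCM (S := S) hKM) (iK K S) (ιM S M) ξ ξ') (n : NS S) :
    Rl p (jKM hKM) (jCM (S := S) hKM) (iK K S) (ιM S M) (Char.cj M (n : Γ) ξ)
      (Char.cj (M.subgroupOf (NS S)) n ξ') :=
  h.comp (cjEquiv K (n : Γ)) (cjEquiv M (n : Γ)) (cjEquiv (K.subgroupOf (NS S)) n)
    (cjEquiv (M.subgroupOf (NS S)) n) (fun _ => rfl) (fun _ => rfl) (fun _ => rfl) (fun _ => rfl)

theorem Rl.inertia_iff (hKM : K ≤ M)
    (R : RS p (jKM hKM) (jCM (S := S) hKM) (iK K S) (ιM S M) (S.subgroupOf M)) {ξ : M → ℂ}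
    {ξ' : M.subgroupOf (NS S) → ℂ}
    (h : Rl p (jKM hKM) (jCM (S := S) hKM) (iK K S) (ιM S M) ξ ξ') (n : NS S) :
    (n : Γ) ∈ inertia M ξ ↔ n ∈ inertia (M.subgroupOf (NS S)) ξ' := by
  rw [mem_inertia, mem_inertia]
  have h1 := h.cj hKM n
  constructor
  · intro e
    rw [e] at h1
    exact h1.right_unique R h
  · intro e
    rw [e] at h1
    exact h1.left_unique R h

theorem commutator_mem_of_closure {h h' : Γ} (hc : h * h' * h⁻¹ * h'⁻¹ ∈ K) {g g' : Γ}
    (hg : g ∈ Subgroup.closure {h, h'}) (hg' : g' ∈ Subgroup.closure {h, h'}) :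
    g * g' * g⁻¹ * g'⁻¹ ∈ K := by
  have key : ∀ a b : Γ, ((a : Γ ⧸ K) * b = b * a) ↔ a * b * a⁻¹ * b⁻¹ ∈ K := by
    intro a b
    rw [← QuotientGroup.eq_one_iff]
    simp only [QuotientGroup.mk_mul, QuotientGroup.mk_inv]
    rw [mul_inv_eq_one, mul_inv_eq_iff_eq_mul]
  have hcc : ((h : Γ ⧸ K) * h' = h' * h) := (key h h').mpr hc
  -- every element commutes with `h`, `h'` modulo `K`
  have s1 : ∀ x ∈ Subgroup.closure {h, h'}, ((x : Γ ⧸ K) * h = h * x) ∧ ((x : Γ ⧸ K) * h' = h' * x) := by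
    intro x hx
    induction hx using Subgroup.closure_induction with
    | mem x hx =>
      rcases hx with rfl | hx
      · exact ⟨rfl, hcc⟩
      · rw [Set.mem_singleton_iff] at hx
        subst hx
        exact ⟨hcc.symm, rfl⟩
    | one => simp
    | mul x y _ _ hx hy =>
      simp only [QuotientGroup.mk_mul]
      exact ⟨by rw [mul_assoc, hy.1, ← mul_assoc, hx.1, mul_assoc],
        by rw [mul_assoc, hy.2, ← mul_assoc, hx.2, mul_assoc]⟩
    | inv x _ hx =>
      simp only [QuotientGroup.mk_inv]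
      exact ⟨by rw [inv_mul_eq_iff_eq_mul, ← mul_assoc, hx.1, mul_inv_cancel_right],
        by rw [inv_mul_eq_iff_eq_mul, ← mul_assoc, hx.2, mul_inv_cancel_right]⟩
  rw [← key]
  have s2 := s1 g hg
  induction hg' using Subgroup.closure_induction with
  | mem x hx =>
    rcases hx with rfl | hx
    · exact s2.1
    · rw [Set.mem_singleton_iff] at hx
      subst hx
      exact s2.2
  | one => simp
  | mul x y _ _ hx hy =>
    simp only [QuotientGroup.mk_mul]
    rw [← mul_assoc, hx, mul_assoc, hy, mul_assoc]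
  | inv x _ hx =>
    simp only [QuotientGroup.mk_inv]
    rw [mul_inv_eq_iff_eq_mul, mul_assoc, hx, inv_mul_cancel_left]

variable [Fintype M]

/-- The core of the transfer: elements of a complement. -/
theorem transfer_core (hp : p.Prime) (hpK : ¬ p ∣ Nat.card K) (hS : IsPGroup p S)
    (hKM : K ≤ M) (hSM : S ≤ M)
    (R : RS p (jKM hKM) (jCM (S := S) hKM) (iK K S) (ιM S M) (S.subgroupOf M)) {ξ : M → ℂ}
    {ξ' : M.subgroupOf (NS S) → ℂ}
    (hR : Rl p (jKM hKM) (jCM (S := S) hKM) (iK K S) (ιM S M) ξ ξ')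
    {h h' : Γ} (hN : h ∈ NS S) (hN' : h' ∈ NS S) {c₀ : K.subgroupOf (NS S)}
    (hc₀ : ((c₀ : NS S) : Γ) = h * h' * h⁻¹ * h'⁻¹)
    (hY : ∀ y ∈ Subgroup.closure {h, h'}, ¬ p ∣ orderOf y)
    (hT : h ∈ inertia M ξ) (hT' : h' ∈ inertia M ξ) :
    Pr K.subtype (iK K S) (fun k => ξ (jKM hKM k)) (fun c => ξ' (jCM hKM c)) h h' := by
  obtain ⟨r1, r2, m, hm, hpm⟩ := hR.res R
  have hYN : Subgroup.closure {h, h'} ≤ NS S := by
    rw [Subgroup.closure_le]
    rintro x (rfl | hx)
    · exact hN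
    · rw [Set.mem_singleton_iff] at hx
      subst hx
      exact hN'
  have hYT : Subgroup.closure {h, h'} ≤ inertia M ξ := by
    rw [Subgroup.closure_le]
    rintro x (rfl | hx)
    · exact hT
    · rw [Set.mem_singleton_iff] at hx
      subst hx
      exact hT'
  have hfx : ∀ y ∈ inertia M ξ, Fx K.subtype (fun k => ξ (jKM hKM k)) y := by
    intro y hy k k' hk
    have h1 := congrFun ((mem_inertia M).mp hy) (jKM hKM k)
    rw [cj_apply] at h1
    change ξ (jKM hKM k') = ξ (jKM hKM k)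
    rw [← h1]
    congr 1
    exact Subtype.ext hk
  have hMT : M ≤ inertia M ξ := le_inertia M (isClassFunction_of_isCharacter
    (isCharacter_of_isIrr hR.irr))
  have A : Act p K.subtype (iK K S) (fun k => ξ (jKM hKM k)) (fun c => ξ' (jCM hKM c)) S
      (Subgroup.closure {h, h'}) := by
    refine ⟨fxdG K S hp hpK hS, hpK, r1, r2, fun s hs => hfx s (hMT (hSM hs)), ⟨m, hm, hpm⟩,
      fun y _ => nz_subtype K y, fun y hy => hfx y (hYT hy), ?_, ?_, hY⟩
    · intro y hy s hs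
      exact (Subgroup.mem_normalizer_iff.mp (hYN hy) s).mp hs
    · intro g hg g' hg'
      have h1 : g * g' * g⁻¹ * g'⁻¹ ∈ K := by
        apply commutator_mem_of_closure _ hg hg'
        rw [← hc₀]
        exact c₀.2
      have h2 : g * g' * g⁻¹ * g'⁻¹ ∈ NS S :=
        (NS S).mul_mem ((NS S).mul_mem ((NS S).mul_mem (hYN hg) (hYN hg'))
          ((NS S).inv_mem (hYN hg))) ((NS S).inv_mem (hYN hg'))
      exact ⟨⟨⟨_, h2⟩, h1⟩, rfl⟩
  exact A.pair (Subgroup.subset_closure (Set.mem_insert _ _))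
    (Subgroup.subset_closure (Set.mem_insert_of_mem _ (Set.mem_singleton _)))

end Cfsg.Agent.H76.Twc
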