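import Cfsg.Agent.H76.Twf2

/-!
# The final case: the count over one character
-/

set_option autoImplicit false
set_option linter.unusedSectionVars false
set_option linter.unusedFintypeInType false

namespace Cfsg.Agent.H76.Twc

open scoped ComplexConjugate Pointwise
open Cfsg Cfsg.Agent.CharBase Cfsg.Agent.Char

universe u v w x

variable {Γ : Type u} [Group Γ] [Finite Γ] {p : ℕ} {K S M : Subgroup Γ} [hKn : K.Normal]
  [hMn : M.Normal] [Fintype K] [Fintype (K.subgroupOf (NS S))] [Fintype M]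

theorem nz_incl {T : Subgroup Γ} (hMT : M ≤ T) (x : T) : Nz (Subgroup.inclusion hMT) x :=
  Nz.of_map (f := T.subtype) T.subtype_injective (nz_subtype M (x : Γ))

theorem fx_incl {ξ : M → ℂ} {T : Subgroup Γ} (hMT : M ≤ T) (hT : T ≤ inertia M ξ) (x : T) :
    Fx (Subgroup.inclusion hMT) ξ x := by
  intro k k' hk
  have h1 := congrFun ((mem_inertia M).mp (hT x.2)) k
  rw [cj_apply] at h1
  rw [← h1]
  congr 1
  exact Subtype.ext (congrArg (fun y : T => (y : Γ)) hk)

/-- `T' → T` -/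
def iT {T : Subgroup Γ} {T' : Subgroup (NS S)} (h : ∀ n ∈ T', ((n : NS S) : Γ) ∈ T) : T' →* T where
  toFun x := ⟨((x : NS S) : Γ), h x x.2⟩
  map_one' := rfl
  map_mul' _ _ := rfl

/-- Transfer of commutator scalars. -/
theorem transfer (hp : p.Prime) (hpK : ¬ p ∣ Nat.card K) (hS : IsPGroup p S)
    (hSi : ¬ p ∣ S.index)
    (hKM : K ≤ M) (hSM : S ≤ M)
    (R : RS p (jKM hKM) (jCM (S := S) hKM) (iK K S) (ιM S M) (S.subgroupOf M)) {ξ : M → ℂ}
    {ξ' : M.subgroupOf (NS S) → ℂ}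
    (hR : Rl p (jKM hKM) (jCM (S := S) hKM) (iK K S) (ιM S M) ξ ξ')
    {T : Subgroup Γ} {T' : Subgroup (NS S)} (h : ∀ n ∈ T', ((n : NS S) : Γ) ∈ T)
    (hMT : M ≤ T) (hMT' : M.subgroupOf (NS S) ≤ T') (hT : T ≤ inertia M ξ)
    (hT' : T' ≤ inertia (M.subgroupOf (NS S)) ξ')
    {x y : T'} {t : ℂ} (hcc : CC (Subgroup.inclusion hMT') ξ' x y t) :
    CC (Subgroup.inclusion hMT) ξ (iT h x) (iT h y) t := by
  classical
  have hξ := hR.irr
  have hξ' := hR.irr'
  have := Fintype.ofFinite (M.subgroupOf (NS S))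
  have hj : Function.Injective (Subgroup.inclusion hMT) := Subgroup.inclusion_injective hMT
  have hj' : Function.Injective (Subgroup.inclusion hMT') := Subgroup.inclusion_injective hMT'
  have hnz : ∀ x : T, Nz (Subgroup.inclusion hMT) x := nz_incl hMT
  have hfx : ∀ x : T, Fx (Subgroup.inclusion hMT) ξ x := fx_incl hMT hT
  have hnz' : ∀ x : T', Nz (Subgroup.inclusion hMT') x := nz_incl hMT'
  have hfx' : ∀ x : T', Fx (Subgroup.inclusion hMT') ξ' x := fx_incl hMT' hT'
  -- a complement of `S` in `T'`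
  let SN : Subgroup (NS S) := S.subgroupOf (NS S)
  have hSN : SN ≤ T' := (Subgroup.comap_mono hSM).trans hMT'
  have hSNn : SN.Normal := Subgroup.normal_in_normalizer
  let ST : Subgroup T' := SN.subgroupOf T'
  have hSTn : ST.Normal := Subgroup.normal_subgroupOf
  have hcard : Nat.card ST = Nat.card S := by
    rw [Nat.card_congr (Subgroup.subgroupOfEquivOfLe hSN).toEquiv,
      Nat.card_congr (Subgroup.subgroupOfEquivOfLe (Subgroup.le_normalizer (H := S))).toEquiv]
  have hidx : ST.index ∣ S.index := by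
    have h1 : Nat.card T' ∣ Nat.card Γ :=
      (Subgroup.card_subgroup_dvd_card T').trans (Subgroup.card_subgroup_dvd_card (NS S))
    rw [← Subgroup.card_mul_index ST, ← Subgroup.card_mul_index S, hcard] at h1
    exact Nat.dvd_of_mul_dvd_mul_left Nat.card_pos h1
  have hpi : ¬ p ∣ ST.index := fun hd => hSi (hd.trans hidx)
  have hcop : Nat.Coprime (Nat.card ST) ST.index := by
    have := Fact.mk hp
    obtain ⟨n, hn⟩ := IsPGroup.iff_card.mp hS
    rw [hcard, hn]
    exact Nat.Coprime.pow_left n ((Nat.Prime.coprime_iff_not_dvd hp).mpr hpi)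
  obtain ⟨H, hH⟩ := Subgroup.exists_right_complement'_of_coprime hcop
  have hpH : ∀ z ∈ H, ¬ p ∣ orderOf z := by
    intro z hz hd
    apply hpi
    refine hd.trans ?_
    rw [hH.symm.index_eq_card]
    exact Subgroup.orderOf_dvd_natCard H hz
  -- decomposition
  have hdec : ∀ z : T', ∃ s : M.subgroupOf (NS S), ∃ b ∈ H, z = Subgroup.inclusion hMT' s * b := by
    intro z
    obtain ⟨⟨⟨s, hs⟩, ⟨b, hb⟩⟩, hsb⟩ := hH.2 z
    have hs' : (s : NS S) ∈ M.subgroupOf (NS S) := hSM hs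
    exact ⟨⟨s, hs'⟩, b, hb, hsb.symm⟩
  -- elements of the complement
  have hcore : ∀ b ∈ H, ∀ b' ∈ H, ∀ t : ℂ, CC (Subgroup.inclusion hMT') ξ' b b' t →
      CC (Subgroup.inclusion hMT) ξ (iT h b) (iT h b') t := by
    intro b hb b' hb' t hcc
    obtain ⟨-, -, -, -, k₀, -, -, hk₀, -⟩ := id hcc
    have hk₀H : Subgroup.inclusion hMT' k₀ ∈ H := by
      rw [hk₀]
      exact H.mul_mem (H.mul_mem (H.mul_mem hb hb') (H.inv_mem hb)) (H.inv_mem hb')
    have hk₀o : ¬ p ∣ orderOf k₀ := by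
      have h1 := hpH _ hk₀H
      rwa [orderOf_injective _ hj'] at h1
    obtain ⟨c₀, hc₀⟩ := mem_range_of_not_dvd hp R.nzC R.idxC hk₀o
    have hk1 : Subgroup.inclusion hMT' (jCM (S := S) hKM c₀) = b * b' * b⁻¹ * b'⁻¹ := by
      rw [hc₀, hk₀]
    have hcΓ : ((c₀ : NS S) : Γ) = ((b : NS S) : Γ) * ((b' : NS S) : Γ) * ((b : NS S) : Γ)⁻¹ *
        ((b' : NS S) : Γ)⁻¹ := congrArg (fun z : T' => ((z : NS S) : Γ)) hk1
    -- the `C`-side
    let f : T' →* Γ := (NS S).subtype.comp T'.subtype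
    have hf : Function.Injective f := fun a b hab => Subtype.ext (Subtype.ext hab)
    have F := fxdG K S hp hpK hS
    have hCres : IsIrrCharacter (K.subgroupOf (NS S)) (fun c => ξ' (jCM (S := S) hKM c)) :=
      (hR.res R).2.1
    have a1 : CC ((Subgroup.inclusion hMT').comp (jCM (S := S) hKM))
        (fun c => ξ' (jCM (S := S) hKM c)) b b' t :=
      CC.restrict (jCM (S := S) hKM) hCres hj' hk1 hcc
    have hnzN : ∀ z ∈ NS S, Nz (K.subtype.comp (iK K S)) z := by
      intro z hz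
      refine F.nz_comp (nz_subtype K z) ?_ ?_
      · intro s hs
        have := (Subgroup.mem_normalizer_iff.mp ((NS S).inv_mem hz) s).mp hs
        rwa [inv_inv] at this
      · intro s hs
        exact (Subgroup.mem_normalizer_iff.mp hz s).mp hs
    have hnzT : ∀ z : T', Nz ((Subgroup.inclusion hMT').comp (jCM (S := S) hKM)) z := fun z =>
      Nz.of_map (f := f) hf (hnzN _ (z : NS S).2)
    have hinj2 : Function.Injective (f.comp ((Subgroup.inclusion hMT').comp
        (jCM (S := S) hKM))) := hf.comp (hj'.comp R.injC)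
    have a2 : CC (K.subtype.comp (iK K S)) (fun c => ξ' (jCM (S := S) hKM c))
        ((b : NS S) : Γ) ((b' : NS S) : Γ) t :=
      (CC.map_iff f hinj2 (hnzT b) (hnzT b') (k₀ := c₀) hk1).mp a1
    -- the `K`-side
    have hk2 : Subgroup.inclusion hMT (jKM hKM (iK K S c₀)) =
        iT h b * iT h b' * (iT h b)⁻¹ * (iT h b')⁻¹ := Subtype.ext hcΓ
    obtain ⟨t2, -, ht2⟩ := CC.exists' hj hξ (hnz (iT h b)) (hnz (iT h b')) (hfx _) (hfx _) hk2
    have b1 : CC ((Subgroup.inclusion hMT).comp (jKM hKM)) (fun k => ξ (jKM hKM k))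
        (iT h b) (iT h b') t2 := CC.restrict (jKM hKM) (hR.res R).1 hj hk2 ht2
    have hnzT2 : ∀ z : T, Nz ((Subgroup.inclusion hMT).comp (jKM hKM)) z := fun z =>
      Nz.of_map (f := T.subtype) T.subtype_injective (nz_subtype K (z : Γ))
    have hinj3 : Function.Injective (T.subtype.comp ((Subgroup.inclusion hMT).comp (jKM hKM))) :=
      T.subtype_injective.comp (hj.comp R.fxd.inj)
    have b2 : CC K.subtype (fun k => ξ (jKM hKM k)) ((b : NS S) : Γ) ((b' : NS S) : Γ) t2 :=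
      (CC.map_iff T.subtype hinj3 (hnzT2 _) (hnzT2 _) (k₀ := iK K S c₀) hk2).mp b1
    have hPr := transfer_core hp hpK hS hKM hSM R hR (b : NS S).2 (b' : NS S).2 hcΓ (by
      intro z hz
      have h1 : Subgroup.closure {((b : NS S) : Γ), ((b' : NS S) : Γ)} ≤ H.map f := by
        rw [Subgroup.closure_le]
        rintro w (rfl | hw)
        · exact ⟨b, hb, rfl⟩
        · rw [Set.mem_singleton_iff] at hw
          subst hw
          exact ⟨b', hb', rfl⟩
      obtain ⟨w, hw, rfl⟩ := h1 hz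
      rw [orderOf_injective _ hf]
      exact hpH w hw) (hT (h b b.2)) (hT (h b' b'.2))
    rw [← hPr t2 t b2 a2]
    exact ht2
  obtain ⟨s, b, hb, rfl⟩ := hdec x
  obtain ⟨s', b', hb', rfl⟩ := hdec y
  have c1 := CC.coset hj' hξ' (hnz' _) (hnz' _) (hfx' _) (hfx' _) hcc s⁻¹ s'⁻¹
  rw [map_inv, map_inv, inv_mul_cancel_left, inv_mul_cancel_left] at c1
  have c2 := CC.coset hj hξ (hnz _) (hnz _) (hfx _) (hfx _) (hcore b hb b' hb' t c1) (ιM S M s)
    (ιM S M s')
  rw [map_mul, map_mul]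
  exact c2

end Cfsg.Agent.H76.Twc
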