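import Cfsg.Agent.H76.Twf3

/-!
# The final case: assembly
-/

set_option autoImplicit false
set_option linter.unusedSectionVars false
set_option linter.unusedFintypeInType false

namespace Cfsg.Agent.H76.Twc

open scoped ComplexConjugate Pointwise
open Cfsg Cfsg.Agent.CharBase Cfsg.Agent.Char

universe u v w x

theorem central_iff {X : Type u} [Group X] [Finite X] {Z : Type v} [Group Z] [Fintype Z]
    (j : Z →* X) (hc : ∀ z, j z ∈ Subgroup.center X) {χ : X → ℂ} (hχ : IsIrrCharacter X χ)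
    {lam : Z → ℂ} (hlam : IsIrrCharacter Z lam) :
    classInner (fun z => χ (j z)) lam ≠ 0 ↔ ∀ z, χ (j z) = χ 1 * lam z := by
  have h1 := irr_one_ne_zero hχ
  constructor
  · intro h
    let ω : Z →* ℂ :=
      { toFun := fun z => χ (j z) / χ 1
        map_one' := by rw [map_one, div_self h1]
        map_mul' := fun a b => by
          rw [map_mul, irr_mul_central hχ (hc b)]
          field_simp }
    have h2 : (fun z => χ (j z)) = χ 1 • (ω : Z → ℂ) := by
      funext z
      change χ (j z) = χ 1 * (χ (j z) / χ 1)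
      field_simp
    have h3 : (ω : Z → ℂ) = lam := by
      apply eq_of_classInner_ne_zero (isIrrCharacter_of_hom ω) hlam
      intro h0
      rw [h2, classInner_smul_left, h0, mul_zero] at h
      exact h rfl
    intro z
    rw [← h3]
    exact congrFun h2 z
  · intro h
    have h2 : (fun z => χ (j z)) = χ 1 • lam := by
      funext z
      exact h z
    rw [h2, classInner_smul_left, classInner_self_of_irr hlam, mul_one]
    exact h1

/-- central values of a character below -/
theorem central_below {X : Type u} [Group X] [Finite X] (M : Subgroup X) [hM : M.Normal]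
    [Fintype M] {χ : X → ℂ} (hχ : IsIrrCharacter X χ) {ξ : M → ℂ} (hξ : IsIrrCharacter M ξ)
    (h : classInner (fun m : M => χ m) ξ ≠ 0) {z : X} (hz : z ∈ Subgroup.center X) (hzM : z ∈ M)
    (c : ℂ) : χ z = χ 1 * c ↔ ξ ⟨z, hzM⟩ = ξ 1 * c := by
  classical
  have := Fintype.ofFinite X
  have h1 := congrFun (clifford M hχ hξ h) ⟨z, hzM⟩
  have h2 := congrFun (clifford M hχ hξ h) 1
  simp only [Pi.smul_apply, Finset.sum_apply, smul_eq_mul] at h1 h2
  have h3 : ∀ ψ ∈ orb M ξ, ψ ⟨z, hzM⟩ = ξ ⟨z, hzM⟩ := by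
    intro ψ hψ
    obtain ⟨g, rfl⟩ := (mem_orb M).mp hψ
    rw [cj_apply]
    congr 1
    apply Subtype.ext
    change g * z * g⁻¹ = z
    rw [Subgroup.mem_center_iff.mp hz g, mul_inv_cancel_right]
  have h4 : ∀ ψ ∈ orb M ξ, ψ 1 = ξ 1 := by
    intro ψ hψ
    obtain ⟨g, rfl⟩ := (mem_orb M).mp hψ
    exact cj_one_apply M g ξ
  rw [Finset.sum_congr rfl h3, Finset.sum_const, nsmul_eq_mul] at h1
  rw [Finset.sum_congr rfl h4, Finset.sum_const, nsmul_eq_mul] at h2
  have h5 : ((1 : M) : X) = 1 := rfl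
  rw [h5] at h2
  have h6 := irr_one_ne_zero hχ
  have h7 := irr_one_ne_zero hξ
  have h8 : classInner (fun m : M => χ m) ξ * ((orb M ξ).card : ℂ) ≠ 0 := by
    intro h0
    apply h6
    rw [h2, ← mul_assoc, h0, zero_mul]
  have e1 : χ z = (classInner (fun m : M => χ m) ξ * ((orb M ξ).card : ℂ)) * ξ ⟨z, hzM⟩ := by
    rw [h1]
    ring
  have e2 : χ 1 = (classInner (fun m : M => χ m) ξ * ((orb M ξ).card : ℂ)) * ξ 1 := by
    rw [h2]
    ring
  rw [e1, e2]
  constructor
  · intro h9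
    apply mul_left_cancel₀ h8
    rw [h9]
    ring
  · intro h9
    rw [h9]
    ring

variable {Γ : Type u} [Group Γ] [Finite Γ] {p : ℕ} {K S M : Subgroup Γ} [hKn : K.Normal]
  [hMn : M.Normal] [Fintype K] [Fintype (K.subgroupOf (NS S))] [Fintype M]
  [Fintype (M.subgroupOf (NS S))]

/-- The count over one pair of corresponding characters. -/
theorem count_over (hp : p.Prime) (hpK : ¬ p ∣ Nat.card K) (hS : IsPGroup p S)
    (hSi : ¬ p ∣ S.index) (hMN : ∀ g : Γ, ∃ m ∈ M, ∃ n ∈ NS S, g = m * n)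
    (hKM : K ≤ M) (hSM : S ≤ M)
    (R : RS p (jKM hKM) (jCM (S := S) hKM) (iK K S) (ιM S M) (S.subgroupOf M)) {ξ : M → ℂ}
    {ξ' : M.subgroupOf (NS S) → ℂ}
    (hR : Rl p (jKM hKM) (jCM (S := S) hKM) (iK K S) (ιM S M) ξ ξ') :
    Nat.card {χ : IrrCharacter Γ // classInner (fun m : M => (χ : Γ → ℂ) m) ξ ≠ 0} =
      Nat.card {ψ : IrrCharacter (NS S) //
        classInner (fun m : M.subgroupOf (NS S) => (ψ : NS S → ℂ) m) ξ' ≠ 0} := by
  classical
  have hξ := hR.irr
  have hξ' := hR.irr'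
  have hMT : M ≤ inertia M ξ := le_inertia M (isClassFunction_of_isCharacter
    (isCharacter_of_isIrr hξ))
  have hMT' : M.subgroupOf (NS S) ≤ inertia (M.subgroupOf (NS S)) ξ' := le_inertia _
    (isClassFunction_of_isCharacter (isCharacter_of_isIrr hξ'))
  have e1 := clifford_card M (inertia M ξ) hξ rfl hMT (fun _ => True)
  have e2 := clifford_card (M.subgroupOf (NS S)) (inertia (M.subgroupOf (NS S)) ξ') hξ' rfl hMT'
    (fun _ => True)
  simp only [true_and] at e1 e2
  rw [e1, e2]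
  have h : ∀ n ∈ inertia (M.subgroupOf (NS S)) ξ', ((n : NS S) : Γ) ∈ inertia M ξ :=
    fun n hn => (hR.inertia_iff hKM R n).mpr hn
  have := Fintype.ofFinite (inertia M ξ)
  have := Fintype.ofFinite (inertia (M.subgroupOf (NS S)) ξ')
  have hjn : (Subgroup.inclusion hMT).range.Normal := range_normal (nz_incl hMT)
  have := Fintype.ofFinite ((inertia M ξ) ⧸ (Subgroup.inclusion hMT).range)
  let π : inertia M ξ →* (inertia M ξ) ⧸ (Subgroup.inclusion hMT).range :=
    QuotientGroup.mk' _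
  have hker : ∀ x : inertia M ξ, (x : Γ) ∈ M ↔ x ∈ (Subgroup.inclusion hMT).range := by
    intro x
    constructor
    · intro hx
      exact ⟨⟨x, hx⟩, rfl⟩
    · rintro ⟨m, rfl⟩
      exact m.2
  refine count_eq (j := Subgroup.inclusion hMT) (j' := Subgroup.inclusion hMT') π
    (QuotientGroup.mk'_surjective _) (QuotientGroup.ker_mk' _) (Subgroup.inclusion_injective _)
    (nz_incl hMT) hξ (fx_incl hMT le_rfl) (π.comp (iT h)) ?_ ?_ (Subgroup.inclusion_injective _)
    (nz_incl hMT') hξ' (fx_incl hMT' le_rfl) (iT h) (fun _ => rfl) ?_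
  · intro q
    obtain ⟨⟨g, hg⟩, rfl⟩ := QuotientGroup.mk_surjective q
    obtain ⟨m, hm, n, hn, rfl⟩ := hMN g
    have hnT : n ∈ inertia M ξ := by
      have h1 := (inertia M ξ).mul_mem ((inertia M ξ).inv_mem (hMT hm)) hg
      rwa [inv_mul_cancel_left] at h1
    refine ⟨⟨⟨n, hn⟩, (hR.inertia_iff hKM R ⟨n, hn⟩).mp hnT⟩, ?_⟩
    apply QuotientGroup.eq.mpr
    rw [← hker]
    change n⁻¹ * (m * n) ∈ M
    have := hMn.conj_mem m hm n⁻¹
    rwa [inv_inv, mul_assoc] at this
  · ext x
    rw [MonoidHom.mem_ker]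
    constructor
    · intro hx
      have h1 : iT h x ∈ (Subgroup.inclusion hMT).range := (QuotientGroup.eq_one_iff _).mp hx
      rw [← hker] at h1
      exact ⟨⟨x, h1⟩, rfl⟩
    · rintro ⟨m, rfl⟩
      refine (QuotientGroup.eq_one_iff _).mpr ?_
      rw [← hker]
      exact m.2
  · intro x y t ht
    exact transfer hp hpK hS hSi hKM hSM R hR h hMT hMT' le_rfl le_rfl ht

end Cfsg.Agent.H76.Twc
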