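import Cfsg.Agent.H76.Twf4

/-!
# The final case: assembly
-/

set_option autoImplicit false
set_option linter.unusedSectionVars false
set_option linter.unusedFintypeInType false

namespace Cfsg.Agent.H76.Twc

open scoped ComplexConjugate Pointwise
open Cfsg Cfsg.Agent.CharBase Cfsg.Agent.Char

universe u v w x

variable {Γ : Type u} [Group Γ] [Finite Γ]

theorem final_case {p : ℕ} (hp : p.Prime) (Z : Subgroup Γ) (hZ : Z ≤ Subgroup.center Γ)
    [Fintype Z] {lam : Z → ℂ} (hlam : IsIrrCharacter Z lam) (K : Subgroup Γ) [hKn : K.Normal]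
    (hpK : ¬ p ∣ Nat.card K) (S : Subgroup Γ) (hS : IsPGroup p S) (hSi : ¬ p ∣ S.index)
    (M : Subgroup Γ) (hM : M = K ⊔ S) (hMn : M.Normal) (hZM : Z ≤ M)
    (hZN : Z ≤ NS S) :
    Nat.card {χ : IrrCharacter Γ // ¬ p ∣ charDegree (χ : Γ → ℂ) ∧
      classInner (fun z : Z => (χ : Γ → ℂ) z) lam ≠ 0} =
    Nat.card {ψ : IrrCharacter (NS S) // ¬ p ∣ charDegree (ψ : NS S → ℂ) ∧
      classInner (fun z : Z => (ψ : NS S → ℂ) (Subgroup.inclusion hZN z)) lam ≠ 0} := by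
  classical
  have := Fintype.ofFinite Γ
  have := Fintype.ofFinite (NS S)
  have hKM : K ≤ M := hM ▸ le_sup_left
  have hSM : S ≤ M := hM ▸ le_sup_right
  have := Fintype.ofFinite K
  have := Fintype.ofFinite M
  have := Fintype.ofFinite (K.subgroupOf (NS S))
  have := Fintype.ofFinite (M.subgroupOf (NS S))
  have R := rsG (S := S) hp hpK hS hM hKM
  -- the Frattini argument
  have hMN : ∀ g : Γ, ∃ m ∈ M, ∃ n ∈ NS S, g = m * n := by
    intro g
    have := Fact.mk hp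
    obtain ⟨P, hP⟩ := hS.exists_le_sylow
    have hPS : (P : Subgroup Γ) = S := by
      symm
      refine Subgroup.eq_of_le_of_card_ge hP ?_
      have h1 : ¬ p ∣ S.relIndex (P : Subgroup Γ) := fun hd =>
        hSi (hd.trans (Subgroup.relIndex_dvd_index_of_le hP))
      have h2 : S.relIndex (P : Subgroup Γ) = 1 := by
        obtain ⟨n, hn⟩ := IsPGroup.iff_card.mp P.2
        have h3 : S.relIndex (P : Subgroup Γ) ∣ p ^ n := hn ▸ Subgroup.relIndex_dvd_card S _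
        obtain ⟨b, -, hb⟩ := (Nat.dvd_prime_pow hp).mp h3
        rcases Nat.eq_zero_or_pos b with h | h
        · rw [hb, h, pow_zero]
        · exact absurd (hb ▸ dvd_pow_self p (by omega)) h1
      rw [Subgroup.relIndex_eq_one] at h2
      exact Nat.card_le_card_of_injective _ (Subgroup.inclusion_injective h2)
    have h4 := Sylow.normalizer_sup_eq_top' P (hPS ▸ hSM : (P : Subgroup Γ) ≤ M)
    have h6 : Subgroup.normalizer (P : Set Γ) = NS S := by
      have h7 : (P : Set Γ) = (S : Set Γ) := congrArg (fun H : Subgroup Γ => (H : Set Γ)) hPS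
      rw [h7]
    rw [h6, sup_comm] at h4
    have h5 : g ∈ (M : Set Γ) * (NS S : Set Γ) := by
      rw [← Subgroup.normal_mul, h4]
      trivial
    obtain ⟨m, hm, n, hn, rfl⟩ := Set.mem_mul.mp h5
    exact ⟨m, hm, n, hn, rfl⟩
  have hMi : ¬ p ∣ M.index := fun hd => hSi (hd.trans (Subgroup.index_dvd_of_le hSM))
  have hMi' : ¬ p ∣ (M.subgroupOf (NS S)).index := by
    intro hd
    apply hMi
    refine hd.trans ?_
    exact Subgroup.relIndex_dvd_index_of_normal M (NS S)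
  -- `Z` inside
  have hcZ : ∀ z : Z, (z : Γ) ∈ Subgroup.center Γ := fun z => hZ z.2
  have hcM : ∀ z : Z, (⟨z, hZM z.2⟩ : M) ∈ Subgroup.center M := by
    intro z
    rw [Subgroup.mem_center_iff]
    intro g
    exact Subtype.ext (Subgroup.mem_center_iff.mp (hcZ z) g)
  have hcN : ∀ z : Z, Subgroup.inclusion hZN z ∈ Subgroup.center (NS S) := by
    intro z
    rw [Subgroup.mem_center_iff]
    intro g
    exact Subtype.ext (Subgroup.mem_center_iff.mp (hcZ z) g)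
  let zM : Z → M := fun z => ⟨z, hZM z.2⟩
  let zN : Z → M.subgroupOf (NS S) := fun z => ⟨Subgroup.inclusion hZN z, hZM z.2⟩
  have hzι : ∀ z, ιM S M (zN z) = zM z := fun z => rfl
  -- the sets
  let X := {χ : IrrCharacter Γ // ¬ p ∣ charDegree (χ : Γ → ℂ) ∧
      classInner (fun z : Z => (χ : Γ → ℂ) z) lam ≠ 0}
  let X' := {ψ : IrrCharacter (NS S) // ¬ p ∣ charDegree (ψ : NS S → ℂ) ∧
      classInner (fun z : Z => (ψ : NS S → ℂ) (Subgroup.inclusion hZN z)) lam ≠ 0}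
  let E := {ξ : IrrCharacter M // ¬ p ∣ charDegree (ξ : M → ℂ) ∧
      ∀ z, (ξ : M → ℂ) (zM z) = (ξ : M → ℂ) 1 * lam z}
  let E' := {ξ : IrrCharacter (M.subgroupOf (NS S)) //
      ¬ p ∣ charDegree (ξ : M.subgroupOf (NS S) → ℂ) ∧
      ∀ z, (ξ : M.subgroupOf (NS S) → ℂ) (zN z) = (ξ : M.subgroupOf (NS S) → ℂ) 1 * lam z}
  let RR : E → E' → Prop := fun a b =>
    Rl p (jKM hKM) (jCM (S := S) hKM) (iK K S) (ιM S M) (a.1 : M → ℂ)
      (b.1 : M.subgroupOf (NS S) → ℂ)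
  have hcen : ∀ {ξ : M → ℂ} {ξ' : M.subgroupOf (NS S) → ℂ},
      Rl p (jKM hKM) (jCM (S := S) hKM) (iK K S) (ιM S M) ξ ξ' → ∀ z,
      (ξ (zM z) = ξ 1 * lam z ↔ ξ' (zN z) = ξ' 1 * lam z) := by
    intro ξ ξ' hR z
    exact hR.central R (z := zN z) (hcM z) (lam z)
  obtain ⟨f, hf⟩ := exists_equiv_of_rel RR (by
    rintro ⟨ξ, hd, hz⟩
    obtain ⟨ξ', hR⟩ := Rl.exists_right (ι := ιM S M) R ξ.2 hd
    exact ⟨⟨⟨ξ', hR.irr'⟩, (hR.deg R).2, fun z => (hcen hR z).mp (hz z)⟩, hR⟩) (by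
    rintro ⟨ξ', hd, hz⟩
    obtain ⟨ξ, hR⟩ := Rl.exists_left (ι := ιM S M) R ξ'.2 hd
    exact ⟨⟨⟨ξ, hR.irr⟩, (hR.deg R).1, fun z => (hcen hR z).mpr (hz z)⟩, hR⟩) (by
    intro a b b' h1 h2
    exact Subtype.ext (Subtype.ext (Rl.right_unique R h1 h2))) (by
    intro a a' b h1 h2
    exact Subtype.ext (Subtype.ext (Rl.left_unique R h1 h2)))
  -- orbits
  let r : Setoid E :=
    { r := fun a b => ∃ n : NS S, Char.cj M (n : Γ) (a.1 : M → ℂ) = (b.1 : M → ℂ)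
      iseqv := by
        refine ⟨fun a => ⟨1, cj_one M _⟩, ?_, ?_⟩
        · rintro a b ⟨n, hn⟩
          refine ⟨n⁻¹, ?_⟩
          rw [← hn]
          exact cj_inv_cj M (n : Γ) _
        · rintro a b c ⟨n, hn⟩ ⟨m, hm⟩
          refine ⟨n * m, ?_⟩
          rw [Subgroup.coe_mul, cj_mul, hn, hm] }
  let r' : Setoid E' :=
    { r := fun a b => ∃ n : NS S, Char.cj (M.subgroupOf (NS S)) n
        (a.1 : M.subgroupOf (NS S) → ℂ) = (b.1 : M.subgroupOf (NS S) → ℂ)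
      iseqv := by
        refine ⟨fun a => ⟨1, cj_one _ _⟩, ?_, ?_⟩
        · rintro a b ⟨n, hn⟩
          refine ⟨n⁻¹, ?_⟩
          rw [← hn]
          exact cj_inv_cj _ n _
        · rintro a b c ⟨n, hn⟩ ⟨m, hm⟩
          refine ⟨n * m, ?_⟩
          rw [cj_mul, hn, hm] }
  refine card_eq_of_classes r r' f ?_
    (fun (χ : X) (ξ : E) => classInner (fun m : M => (χ.1 : Γ → ℂ) m) (ξ.1 : M → ℂ) ≠ 0)
    (fun (ψ : X') (ξ : E') => classInner (fun m : M.subgroupOf (NS S) => (ψ.1 : NS S → ℂ) m)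
      (ξ.1 : M.subgroupOf (NS S) → ℂ) ≠ 0) ?_ ?_ ?_ ?_ ?_
  · intro a b
    constructor
    · rintro ⟨n, hn⟩
      refine ⟨n, ?_⟩
      have h1 := (hf a).cj hKM n
      rw [hn] at h1
      exact h1.right_unique R (hf b)
    · rintro ⟨n, hn⟩
      refine ⟨n, ?_⟩
      have h1 := (hf a).cj hKM n
      rw [hn] at h1
      exact h1.left_unique R (hf b)
  · rintro ⟨χ, hd, hz⟩
    replace hz := (central_iff Z.subtype (fun z => hcZ z) χ.2 hlam).mp hz
    obtain ⟨ξ, hξ, hξχ⟩ := exists_constituent_restrict M (irr_isCharacter χ)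
      (irr_one_ne_zero χ.2)
    exact ⟨⟨⟨ξ, hξ⟩, dvd_charDegree_over M hξ χ.2 hξχ hd, fun z =>
      (central_below M χ.2 hξ hξχ (hcZ z) (hZM z.2) (lam z)).mp (hz z)⟩, hξχ⟩
  · rintro ⟨χ, hd, hz⟩ a b hov
    constructor
    · intro hov'
      obtain ⟨g, hg⟩ := exists_conj_of_constituents M χ.2 a.1.2 b.1.2 hov hov'
      obtain ⟨m, hm, n, hn, rfl⟩ := hMN g
      refine ⟨⟨n, hn⟩, ?_⟩
      rw [cj_mul, cj_of_mem M m hm (irr_isClassFunction a.1)] at hg
      exact hg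
    · rintro ⟨n, hn⟩
      change classInner (fun m : M => (χ : Γ → ℂ) m) (b.1 : M → ℂ) ≠ 0
      rw [← hn, classInner_restrict_cj M (irr_isClassFunction χ)]
      exact hov
  · rintro ⟨ψ, hd, hz⟩
    replace hz := (central_iff (Subgroup.inclusion hZN) hcN ψ.2 hlam).mp hz
    obtain ⟨ξ, hξ, hξψ⟩ := exists_constituent_restrict (M.subgroupOf (NS S)) (irr_isCharacter ψ)
      (irr_one_ne_zero ψ.2)
    exact ⟨⟨⟨ξ, hξ⟩, dvd_charDegree_over _ hξ ψ.2 hξψ hd, fun z =>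
      (central_below _ ψ.2 hξ hξψ (hcN z) (hZM z.2) (lam z)).mp (hz z)⟩, hξψ⟩
  · rintro ⟨ψ, hd, hz⟩ a b hov
    constructor
    · intro hov'
      exact exists_conj_of_constituents (M.subgroupOf (NS S)) ψ.2 a.1.2 b.1.2 hov hov'
    · rintro ⟨n, hn⟩
      change classInner (fun m : M.subgroupOf (NS S) => (ψ : NS S → ℂ) m)
        (b.1 : M.subgroupOf (NS S) → ℂ) ≠ 0
      rw [← hn, classInner_restrict_cj _ (irr_isClassFunction ψ)]
      exact hov
  · rintro e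
    have h1 := count_over hp hpK hS hSi hMN hKM hSM R (hf e)
    have h2 : Nat.card {χ : X // classInner (fun m : M => (χ.1 : Γ → ℂ) m) (e.1 : M → ℂ) ≠ 0} =
        Nat.card {χ : IrrCharacter Γ //
          classInner (fun m : M => (χ : Γ → ℂ) m) (e.1 : M → ℂ) ≠ 0} := by
      refine Nat.card_congr ⟨fun χ => ⟨χ.1.1, χ.2⟩, fun χ => ⟨⟨χ.1, ?_, ?_⟩, χ.2⟩,
        fun _ => rfl, fun _ => rfl⟩
      · exact not_dvd_charDegree_over hp M hMi e.1.2 e.2.1 χ.1.2 χ.2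
      · exact (central_iff Z.subtype (fun z => hcZ z) χ.1.2 hlam).mpr (fun z =>
          (central_below M χ.1.2 e.1.2 χ.2 (hcZ z) (hZM z.2) (lam z)).mpr (e.2.2 z))
    have h3 : Nat.card {ψ : X' // classInner (fun m : M.subgroupOf (NS S) => (ψ.1 : NS S → ℂ) m)
        ((f e).1 : M.subgroupOf (NS S) → ℂ) ≠ 0} =
        Nat.card {ψ : IrrCharacter (NS S) //
          classInner (fun m : M.subgroupOf (NS S) => (ψ : NS S → ℂ) m)
            ((f e).1 : M.subgroupOf (NS S) → ℂ) ≠ 0} := by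
      refine Nat.card_congr ⟨fun ψ => ⟨ψ.1.1, ψ.2⟩, fun ψ => ⟨⟨ψ.1, ?_, ?_⟩, ψ.2⟩,
        fun _ => rfl, fun _ => rfl⟩
      · exact not_dvd_charDegree_over hp _ hMi' (f e).1.2 (f e).2.1 ψ.1.2 ψ.2
      · exact (central_iff (Subgroup.inclusion hZN) hcN ψ.1.2 hlam).mpr (fun z =>
          (central_below _ ψ.1.2 (f e).1.2 ψ.2 (hcN z) (hZM z.2) (lam z)).mpr ((f e).2.2 z))
    rw [h2, h3, h1]

end Cfsg.Agent.H76.Twc
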