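import Cfsg.Agent.H76.Twf5
import Cfsg.Agent.H76.PSolvable

/-!
# Reductions: counting characters of p'-degree over a character, in hom-language
-/

set_option autoImplicit false
set_option linter.unusedSectionVars false
set_option linter.unusedFintypeInType false

namespace Cfsg.Agent.H76.Twc

open scoped ComplexConjugate Pointwise
open Cfsg Cfsg.Agent.CharBase Cfsg.Agent.Char

universe u v w x

/-- the number of characters of p'-degree over `ν` -/
noncomputable def cnt (p : ℕ) {G : Type u} [Group G] {L : Type v} [Group L] [Fintype L]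
    (j : L →* G) (ν : L → ℂ) : ℕ :=
  Nat.card {χ : IrrCharacter G // ¬ p ∣ charDegree (χ : G → ℂ) ∧
    classInner (fun l => (χ : G → ℂ) (j l)) ν ≠ 0}

/-- conjugate functions -/
def CJ {G : Type u} [Group G] {L : Type v} [Group L] (j : L →* G) (g : G) (a b : L → ℂ) : Prop :=
  ∀ k k' : L, j k' = g * j k * g⁻¹ → b k = a k'

section Transport

variable {X : Type u} [Group X] [Finite X] {K : Type v} [Group K] {j : K →* X}

/-- the equivalence with the range -/
noncomputable def eR (hj : Function.Injective j) : K ≃* j.range := MonoidHom.ofInjective hj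

theorem eR_coe (hj : Function.Injective j) (k : K) : ((eR hj k : j.range) : X) = j k := rfl

theorem j_eR_symm (hj : Function.Injective j) (r : j.range) : j ((eR hj).symm r) = r := by
  obtain ⟨k, rfl⟩ := (eR hj).surjective r
  rw [MulEquiv.symm_apply_apply]
  rfl

/-- transported function -/
noncomputable def fR (hj : Function.Injective j) (θ : K → ℂ) : j.range → ℂ :=
  fun r => θ ((eR hj).symm r)

theorem fR_irr (hj : Function.Injective j) {θ : K → ℂ} (hθ : IsIrrCharacter K θ) :
    IsIrrCharacter j.range (fR hj θ) :=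
  isIrrCharacter_comp_surjective hθ (eR hj).symm.toMonoidHom (eR hj).symm.surjective

theorem fR_injective (hj : Function.Injective j) : Function.Injective (fR hj) := by
  intro a b h
  funext k
  have := congrFun h (eR hj k)
  simpa [fR] using this

theorem fR_inner (hj : Function.Injective j) [Fintype K] [Fintype j.range] (χ : X → ℂ)
    (θ : K → ℂ) :
    classInner (fun r : j.range => χ r) (fR hj θ) = classInner (fun k => χ (j k)) θ := by
  rw [← classInner_comp_equiv (eR hj)]
  simp only [fR, MulEquiv.symm_apply_apply, eR_coe]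

theorem cj_iff (hj : Function.Injective j) [hn : j.range.Normal] {a b : K → ℂ} (g : X) :
    CJ j g a b ↔ cj j.range g (fR hj a) = fR hj b := by
  constructor
  · intro h
    funext r
    rw [cj_apply]
    refine (h _ _ ?_).symm
    rw [j_eR_symm, j_eR_symm]
  · intro h k k' hk
    have h1 := congrFun h (eR hj k)
    rw [cj_apply] at h1
    simp only [fR, MulEquiv.symm_apply_apply] at h1
    rw [← h1]
    congr 1
    apply hj
    rw [j_eR_symm]
    exact hk.symm

theorem fx_iff (hj : Function.Injective j) [hn : j.range.Normal] {a : K → ℂ} (g : X) :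
    Fx j a g ↔ g ∈ inertia j.range (fR hj a) := by
  rw [mem_inertia, ← cj_iff hj]
  constructor
  · intro h k k' hk
    exact (h k k' hk).symm
  · intro h k k' hk
    exact (h k k' hk).symm

theorem CJ.mul {a b c : K → ℂ} {g h : X} (hh : Nz j h) (h1 : CJ j g a b) (h2 : CJ j h b c) :
    CJ j (g * h) a c := by
  intro k k' hk
  obtain ⟨k1, hk1⟩ := hh.1 k
  rw [h2 k k1 hk1, h1 k1 k' (by rw [hk, hk1]; group)]

theorem CJ.inv {a b : K → ℂ} {g : X} (h1 : CJ j g a b) : CJ j g⁻¹ b a := by
  intro k k' hk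
  exact (h1 k' k (by rw [hk]; group)).symm

theorem CJ.self {a : K → ℂ} {g : X} (h : Fx j a g) : CJ j g a a := fun k k' hk => (h k k' hk).symm

theorem CJ.fx {a b : K → ℂ} {g x : X} (hnz : ∀ x : X, Nz j x) (h : CJ j g a b)
    (hx : Fx j a (g * x * g⁻¹)) : Fx j b x := by
  intro k k' hk
  obtain ⟨l, hl⟩ := (hnz g).1 k
  obtain ⟨l', hl'⟩ := (hnz g).1 k'
  rw [h k l hl, h k' l' hl']
  exact hx l l' (by rw [hl', hk, hl]; group)

variable [Fintype K]

/-- existence of conjugates -/
theorem exists_CJ (hj : Function.Injective j) (hnz : ∀ x : X, Nz j x) {a : K → ℂ}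
    (ha : IsIrrCharacter K a) (g : X) : ∃ b : K → ℂ, IsIrrCharacter K b ∧ CJ j g a b := by
  obtain ⟨α, hα⟩ := exists_autN hj (hnz g)
  refine ⟨fun k => a (α k), isIrrCharacter_comp_surjective ha α.toMonoidHom α.surjective, ?_⟩
  intro k k' hk
  have : k' = α k := hj (by rw [hk, hα])
  rw [this]

theorem CJ.under (hj : Function.Injective j) (hnz : ∀ x : X, Nz j x) {χ : X → ℂ}
    (hχ : IsIrrCharacter X χ) {a b : K → ℂ} {g : X} (h : CJ j g a b)
    (ha : classInner (fun k => χ (j k)) a ≠ 0) : classInner (fun k => χ (j k)) b ≠ 0 := by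
  classical
  have hn := range_normal hnz
  have := Fintype.ofFinite j.range
  rw [← fR_inner hj] at ha ⊢
  rw [← (cj_iff hj g).mp h, classInner_restrict_cj _
    (isClassFunction_of_isCharacter (isCharacter_of_isIrr hχ))]
  exact ha

/-- conjugacy of the constituents -/
theorem exists_CJ_of_under (hj : Function.Injective j) (hnz : ∀ x : X, Nz j x) {χ : X → ℂ}
    (hχ : IsIrrCharacter X χ) {a b : K → ℂ} (ha : IsIrrCharacter K a) (hb : IsIrrCharacter K b)
    (h1 : classInner (fun k => χ (j k)) a ≠ 0) (h2 : classInner (fun k => χ (j k)) b ≠ 0) :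
    ∃ g, CJ j g a b := by
  classical
  have hn := range_normal hnz
  have := Fintype.ofFinite X
  have := Fintype.ofFinite j.range
  obtain ⟨g, hg⟩ := exists_conj_of_constituents j.range hχ (fR_irr hj ha) (fR_irr hj hb)
    (by rw [fR_inner hj]; exact h1) (by rw [fR_inner hj]; exact h2)
  exact ⟨g, (cj_iff hj g).mpr hg⟩

/-- the inertia group -/
theorem exists_inertia (hj : Function.Injective j) (hnz : ∀ x : X, Nz j x) (a : K → ℂ) :
    ∃ T : Subgroup X, ∀ x, x ∈ T ↔ Fx j a x := by
  have hn := range_normal hnz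
  exact ⟨inertia j.range (fR hj a), fun x => (fx_iff hj x).symm⟩

theorem index_dvd_degree (hj : Function.Injective j) (hnz : ∀ x : X, Nz j x) {a : K → ℂ}
    (ha : IsIrrCharacter K a) {T : Subgroup X} (hT : ∀ x, x ∈ T ↔ Fx j a x) {χ : X → ℂ}
    (hχ : IsIrrCharacter X χ) (h : classInner (fun k => χ (j k)) a ≠ 0) :
    T.index ∣ charDegree χ := by
  classical
  have hn := range_normal hnz
  have := Fintype.ofFinite X
  have := Fintype.ofFinite j.range
  have hTe : T = inertia j.range (fR hj a) := by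
    ext x
    rw [hT, fx_iff hj]
  rw [← fR_inner hj] at h
  have hcd := clifford_degree j.range hχ (fR_irr hj ha) h
  obtain ⟨d, hd⟩ := exists_nat_degree (isCharacter_of_isIrr hχ)
  obtain ⟨n, hn'⟩ := exists_nat_degree (isCharacter_of_isIrr (fR_irr hj ha))
  obtain ⟨c, hc⟩ := classInner_natCast (isCharacter_restrict (isCharacter_of_isIrr hχ) j.range)
    (isCharacter_of_isIrr (fR_irr hj ha))
  rw [hc, hd, hn'] at hcd
  have hcd' : d = c * ((inertia j.range (fR hj a)).index * n) := by exact_mod_cast hcd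
  rw [H75.charDegree_eq hd, hTe, hcd']
  exact Dvd.dvd.mul_left (dvd_mul_right _ _) _

/-- the Clifford correspondence -/
theorem cnt_clifford {p : ℕ} (hp : p.Prime) (hj : Function.Injective j) (hnz : ∀ x : X, Nz j x)
    {a : K → ℂ} (ha : IsIrrCharacter K a) {T : Subgroup X} (hT : ∀ x, x ∈ T ↔ Fx j a x)
    (hTi : ¬ p ∣ T.index) {jT : K →* T} (hjT : ∀ k, (jT k : X) = j k) :
    cnt p j a = cnt p jT a := by
  classical
  have hn := range_normal hnz
  have := Fintype.ofFinite X
  have := Fintype.ofFinite j.range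
  have hTe : T = inertia j.range (fR hj a) := by
    ext x
    rw [hT, fx_iff hj]
  have hle : j.range ≤ T := by
    rintro _ ⟨k, rfl⟩
    rw [← hjT]
    exact (jT k).2
  have hdeg : ∀ z : ℂ, (⌊z.re⌋₊ : ℕ) = ⌊z.re⌋₊ := fun _ => rfl
  have h1 := clifford_card j.range T (fR_irr hj ha) hTe hle (fun z => ¬ p ∣ ⌊z.re⌋₊)
  unfold cnt
  have e1 : Nat.card {χ : IrrCharacter X // ¬ p ∣ charDegree (χ : X → ℂ) ∧
      classInner (fun l => (χ : X → ℂ) (j l)) a ≠ 0} =
      Nat.card {χ : IrrCharacter X // ¬ p ∣ ⌊((χ : X → ℂ) 1).re⌋₊ ∧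
      classInner (fun n : j.range => (χ : X → ℂ) n) (fR hj a) ≠ 0} := by
    refine Nat.card_congr (Equiv.subtypeEquivRight fun χ => ?_)
    rw [fR_inner hj]
    rfl
  rw [e1, h1]
  refine Nat.card_congr (Equiv.subtypeEquivRight fun ψ => ?_)
  have h2 : classInner (fun n : j.range => (ψ : T → ℂ) ⟨n, hle n.2⟩) (fR hj a) =
      classInner (fun l => (ψ : T → ℂ) (jT l)) a := by
    rw [← classInner_comp_equiv (eR hj)]
    simp only [fR, MulEquiv.symm_apply_apply]
    congr 1
    funext k
    have h3 : (⟨((eR hj k : j.range) : X), hle (eR hj k).2⟩ : T) = jT k := by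
      apply Subtype.ext
      exact (hjT k).symm
    rw [h3]
  rw [h2]
  have h3 : (p ∣ ⌊((T.index : ℂ) * (ψ : T → ℂ) 1).re⌋₊) ↔ p ∣ charDegree (ψ : T → ℂ) := by
    obtain ⟨n, hn⟩ := exists_nat_degree (irr_isCharacter ψ)
    have h4 : ((T.index : ℂ) * (ψ : T → ℂ) 1) = ((T.index * n : ℕ) : ℂ) := by
      rw [hn]
      push_cast
      rfl
    rw [h4, H75.charDegree_eq hn, Complex.natCast_re, Nat.floor_natCast]
    constructor
    · intro h5
      exact (hp.dvd_mul.mp h5).resolve_left hTi
    · intro h5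
      exact Dvd.dvd.mul_left h5 _
  rw [h3]

/-- invariance under isomorphisms -/
theorem cnt_congr (p : ℕ) {X' : Type w} [Group X'] [Finite X'] (e : X ≃* X') {j' : K →* X'}
    (h : ∀ k, e (j k) = j' k) (a : K → ℂ) : cnt p j a = cnt p j' a := by
  unfold cnt
  symm
  refine Nat.card_congr ⟨fun χ => ⟨⟨fun x => (χ.1 : X' → ℂ) (e x),
    isIrrCharacter_comp_surjective χ.1.2 e.toMonoidHom e.surjective⟩, ?_, ?_⟩,
    fun χ => ⟨⟨fun x => (χ.1 : X → ℂ) (e.symm x),
    isIrrCharacter_comp_surjective χ.1.2 e.symm.toMonoidHom e.symm.surjective⟩, ?_, ?_⟩, ?_, ?_⟩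
  · have h1 := χ.2.1
    unfold charDegree at h1 ⊢
    simpa using h1
  · have h1 := χ.2.2
    simpa only [h] using h1
  · have h1 := χ.2.1
    unfold charDegree at h1 ⊢
    simpa using h1
  · have h1 := χ.2.2
    simpa only [← h, MulEquiv.symm_apply_apply] using h1
  · intro χ
    apply Subtype.ext
    apply Subtype.ext
    funext x
    simp
  · intro χ
    apply Subtype.ext
    apply Subtype.ext
    funext x
    simp

end Transport

end Cfsg.Agent.H76.Twc
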