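import Cfsg.Agent.H76.Twg2

/-!
# Reductions: the step through an intermediate normal subgroup
-/

set_option autoImplicit false
set_option linter.unusedSectionVars false
set_option linter.unusedFintypeInType false

namespace Cfsg.Agent.H76.Twc

open scoped ComplexConjugate Pointwise
open Cfsg Cfsg.Agent.CharBase Cfsg.Agent.Char

universe u v w x

variable {G : Type u} [Group G] [Finite G] {p : ℕ} {K : Type v} [Group K] [Fintype K] {jK : K →* G}
  {L : Type w} [Group L] [Fintype L]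

/-- conjugates over an invariant character -/
theorem CJ.over {i : L →* K} (hj : Function.Injective (jK.comp i))
    (hnz : ∀ x : G, Nz (jK.comp i) x) (hjK : Function.Injective jK) {ν : L → ℂ}
    (hν : ∀ x : G, Fx (jK.comp i) ν x) {a b : K → ℂ} {g : G}
    (hab : CJ jK g a b) (ha : classInner (fun x => a (i x)) ν ≠ 0) :
    classInner (fun x => b (i x)) ν ≠ 0 := by
  classical
  obtain ⟨α, hα⟩ := exists_autN hj (hnz g)
  have h1 := classInner_comp_equiv α (fun x => a (i x)) ν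
  have h2 : (fun x => a (i (α x))) = fun x => b (i x) := by
    funext x
    exact (hab (i x) (i (α x)) (hα x)).symm
  have h3 : (fun x => ν (α x)) = ν := by
    funext x
    exact hν g x (α x) (hα x)
  rw [h2, h3] at h1
  rw [h1]
  exact ha

/-- The step. -/
theorem stage (hp : p.Prime) (hjK : Function.Injective jK) (hnzK : ∀ x : G, Nz jK x)
    (i : L →* K) (hi : Function.Injective i) (hnz : ∀ x : G, Nz (jK.comp i) x) {ν : L → ℂ}
    (hν : IsIrrCharacter L ν) (hfx : ∀ x : G, Fx (jK.comp i) ν x)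
    {S : Subgroup G} (hS : IsPGroup p S) (hSi : ¬ p ∣ S.index) (N1 : Subgroup G)
    (hN1 : NS S ≤ N1) (jK1 : K →* N1) (hjK1 : ∀ k, (jK1 k : G) = jK k)
    (IH : ∀ η : K → ℂ, IsIrrCharacter K η → (∀ s ∈ S, Fx jK η s) → cnt p jK η = cnt p jK1 η) :
    cnt p (jK.comp i) ν = cnt p (jK1.comp i) ν := by
  classical
  have := Fintype.ofFinite G
  have hj : Function.Injective (jK.comp i) := hjK.comp hi
  have hSN1 : S ≤ N1 := Subgroup.le_normalizer.trans hN1
  have hjK1i : Function.Injective jK1 := by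
    intro a b hab
    apply hjK
    rw [← hjK1, ← hjK1, hab]
  have hcomp : N1.subtype.comp jK1 = jK := MonoidHom.ext hjK1
  have hnzK1 : ∀ x : N1, Nz jK1 x := by
    intro x
    apply Nz.of_map (f := N1.subtype) N1.subtype_injective
    rw [hcomp]
    exact hnzK x
  have hCJ : ∀ (n : N1) (a b : K → ℂ), CJ jK1 n a b ↔ CJ jK (n : G) a b := by
    intro n a b
    constructor
    · intro h k k' hk
      refine h k k' (Subtype.ext ?_)
      rw [hjK1, Subgroup.coe_mul, Subgroup.coe_mul, Subgroup.coe_inv, hjK1]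
      exact hk
    · intro h k k' hk
      refine h k k' ?_
      have := congrArg (fun z : N1 => (z : G)) hk
      simp only [Subgroup.coe_mul, Subgroup.coe_inv, hjK1] at this
      exact this
  have hFx1 : ∀ (η : K → ℂ) (s : N1), Fx jK1 η s ↔ Fx jK η (s : G) := by
    intro η s
    constructor
    · intro h
      have h1 := (hCJ s η η).mp (CJ.self h)
      exact fun k k' hk => (h1 k k' hk).symm
    · intro h
      have h1 := (hCJ s η η).mpr (CJ.self h)
      exact fun k k' hk => (h1 k k' hk).symm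
  let E := {η : IrrCharacter K // (∀ s ∈ S, Fx jK (η : K → ℂ) s) ∧
    classInner (fun x => (η : K → ℂ) (i x)) ν ≠ 0}
  let r : Setoid E :=
    { r := fun a b => ∃ n ∈ N1, CJ jK n (a.1 : K → ℂ) (b.1 : K → ℂ)
      iseqv := by
        refine ⟨fun a => ⟨1, N1.one_mem, ?_⟩, ?_, ?_⟩
        · intro k k' hk
          have : k' = k := hjK (by rw [hk]; group)
          rw [this]
        · rintro a b ⟨n, hn, h⟩
          exact ⟨n⁻¹, N1.inv_mem hn, h.inv⟩
        · rintro a b c ⟨n, hn, h⟩ ⟨m, hm, h'⟩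
          exact ⟨n * m, N1.mul_mem hn hm, CJ.mul (hnzK m) h h'⟩ }
  have p1 : IsPGroup p (S.subgroupOf N1) := hS.comap_of_injective _ N1.subtype_injective
  have i1 : ¬ p ∣ (S.subgroupOf N1).index := fun hd =>
    hSi (hd.trans (Subgroup.relIndex_dvd_index_of_le hSN1))
  unfold cnt
  refine card_eq_of_classes r r (Equiv.refl E) (fun a b => Iff.rfl)
    (fun (χ : {χ : IrrCharacter G // ¬ p ∣ charDegree (χ : G → ℂ) ∧
      classInner (fun l => (χ : G → ℂ) ((jK.comp i) l)) ν ≠ 0}) (η : E) =>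
      classInner (fun k => (χ.1 : G → ℂ) (jK k)) (η.1 : K → ℂ) ≠ 0)
    (fun (χ : {χ : IrrCharacter N1 // ¬ p ∣ charDegree (χ : N1 → ℂ) ∧
      classInner (fun l => (χ : N1 → ℂ) ((jK1.comp i) l)) ν ≠ 0}) (η : E) =>
      classInner (fun k => (χ.1 : N1 → ℂ) (jK1 k)) (η.1 : K → ℂ) ≠ 0) ?_ ?_ ?_ ?_ ?_
  · rintro ⟨χ, hd, ho⟩
    obtain ⟨η, hη, h1, h2⟩ := exists_between i (irr_isCharacter χ) hν ho
    obtain ⟨g, b, hb, hab, hbS⟩ := exists_fixed_under hp hjK hnzK hS hSi χ.2 hd hη h1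
    exact ⟨⟨⟨b, hb⟩, hbS, hab.over hj hnz hjK hfx h2⟩, hab.under hjK hnzK χ.2 h1⟩
  · rintro ⟨χ, hd, ho⟩ a b hov
    constructor
    · intro hov'
      obtain ⟨n, hn, h⟩ := exists_normalizer_CJ hp hjK hnzK hS hSi χ.2 a.1.2 b.1.2 a.2.1 b.2.1
        hov hov'
      exact ⟨n, hN1 hn, h⟩
    · rintro ⟨n, hn, h⟩
      exact h.under hjK hnzK χ.2 hov
  · rintro ⟨χ, hd, ho⟩
    obtain ⟨η, hη, h1, h2⟩ := exists_between i (irr_isCharacter χ) hν ho
    obtain ⟨g, b, hb, hab, hbS⟩ := exists_fixed_under hp hjK1i hnzK1 p1 i1 χ.2 hd hη h1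
    refine ⟨⟨⟨b, hb⟩, ?_, ?_⟩, hab.under hjK1i hnzK1 χ.2 h1⟩
    · intro s hs
      exact (hFx1 b ⟨s, hSN1 hs⟩).mp (hbS ⟨s, hSN1 hs⟩ hs)
    · exact ((hCJ g η b).mp hab).over hj hnz hjK hfx h2
  · rintro ⟨χ, hd, ho⟩ a b hov
    constructor
    · intro hov'
      obtain ⟨n, h⟩ := exists_CJ_of_under hjK1i hnzK1 χ.2 a.1.2 b.1.2 hov hov'
      exact ⟨n, n.2, (hCJ n _ _).mp h⟩
    · rintro ⟨n, hn, h⟩
      exact ((hCJ ⟨n, hn⟩ _ _).mpr h).under hjK1i hnzK1 χ.2 hov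
  · intro e
    have h1 := IH e.1 e.1.2 e.2.1
    unfold cnt at h1
    have h2 : Nat.card {χ : {χ : IrrCharacter G // ¬ p ∣ charDegree (χ : G → ℂ) ∧
        classInner (fun l => (χ : G → ℂ) ((jK.comp i) l)) ν ≠ 0} //
        classInner (fun k => (χ.1 : G → ℂ) (jK k)) (e.1 : K → ℂ) ≠ 0} =
        Nat.card {χ : IrrCharacter G // ¬ p ∣ charDegree (χ : G → ℂ) ∧
          classInner (fun l => (χ : G → ℂ) (jK l)) (e.1 : K → ℂ) ≠ 0} :=
      Nat.card_congr ⟨fun χ => ⟨χ.1.1, χ.1.2.1, χ.2⟩,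
        fun χ => ⟨⟨χ.1, χ.2.1, under_trans i (irr_isCharacter χ.1) e.1.2 hν χ.2.2 e.2.2⟩, χ.2.2⟩,
        fun _ => rfl, fun _ => rfl⟩
    have h3 : Nat.card {χ : {χ : IrrCharacter N1 // ¬ p ∣ charDegree (χ : N1 → ℂ) ∧
        classInner (fun l => (χ : N1 → ℂ) ((jK1.comp i) l)) ν ≠ 0} //
        classInner (fun k => (χ.1 : N1 → ℂ) (jK1 k)) (e.1 : K → ℂ) ≠ 0} =
        Nat.card {χ : IrrCharacter N1 // ¬ p ∣ charDegree (χ : N1 → ℂ) ∧
          classInner (fun l => (χ : N1 → ℂ) (jK1 l)) (e.1 : K → ℂ) ≠ 0} :=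
      Nat.card_congr ⟨fun χ => ⟨χ.1.1, χ.1.2.1, χ.2⟩,
        fun χ => ⟨⟨χ.1, χ.2.1, under_trans i (irr_isCharacter χ.1) e.1.2 hν χ.2.2 e.2.2⟩, χ.2.2⟩,
        fun _ => rfl, fun _ => rfl⟩
    rw [h2, h1]
    exact h3.symm

end Cfsg.Agent.H76.Twc
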